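import Cfsg.Agent.H28.McM2b
import Cfsg.Agent.H12.Linearize

/-! `H47.MC.JobM2`: the faithful `4`-dimensional `𝔽₃A₆`-module (blueprint `LOCAL3C.md`, §1.2). -/

set_option autoImplicit false
set_option maxRecDepth 100000

open Cfsg Subgroup H47.MC H42.MC
open scoped Matrix

namespace H28.M2

universe u

variable {G : Type*} [Group G] {v : V → G} {J M₀ : Subgroup G}

theorem exists_crd [Finite G] (hc : IsMulCommutative J) (he : ∀ a ∈ J, a ^ 3 = 1)
    (hn : Nat.card J = 3 ^ 4) : ∃ v, H47.MC.Coord v J := by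
  have : Fact (Nat.Prime 3) := ⟨by norm_num⟩
  obtain ⟨e⟩ := H12.nonempty_mulEquiv_fun (p := 3) (W := J) (fun a b => hc.is_comm.comm a b)
    (fun a => Subtype.ext (he a a.2)) hn
  refine ⟨fun x => (e.symm (.ofAdd x) : J), fun x y => ?_, fun x y h => ?_, fun g => ⟨fun hg =>
    ⟨(e ⟨g, hg⟩).toAdd, by simp⟩, ?_⟩⟩
  · rw [ofAdd_add, map_mul, coe_mul]
  · exact Multiplicative.ofAdd.injective (e.symm.injective (Subtype.ext h))
  · rintro ⟨x, rfl⟩
    exact Subtype.prop _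

theorem acts_uniq (h : H47.MC.Coord v J) {g : G} {M N : Mat} (hM : Acts v g M) (hN : Acts v g N) :
    M = N :=
  Matrix.mulVec_injective (funext fun x => h.inj (by rw [← hM, ← hN]))

theorem exists_acts (h : H47.MC.Coord v J) {g : G} (hg : g ∈ Nr J) : ∃ M, Acts v g M := by
  have h1 : ∀ x, ∃ y, v y = g * v x * g⁻¹ := fun x =>
    (h.mem _).1 ((mem_normalizer_iff.1 hg _).1 (v_mem h x))
  choose f hf using h1
  let F : V →+ V := AddMonoidHom.mk' f fun x y => h.inj (by rw [h.add, hf, hf, hf, h.add]; group)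
  refine ⟨LinearMap.toMatrix' (F.toZModLinearMap 3), fun x => ?_⟩
  rw [LinearMap.toMatrix'_mulVec]
  exact (hf x).symm

theorem exists_rho (h : H47.MC.Coord v J) (hM : M₀ ≤ Nr J) {A : Type*} [Group A] (π : M₀ →* A)
    (hπ : Function.Surjective π) (hk : ∀ g, π g = 1 → (g : G) ∈ J) :
    ∃ ρ : A →* Mat, ∀ g : M₀, Acts v g (ρ (π g)) := by
  choose m hm using fun g : M₀ => exists_acts h (hM g.2)
  choose s hs using hπ
  have key : ∀ g : M₀, Acts v g (m (s (π g))) := fun g => by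
    have := acts_mul (hm (s (π g))) (acts_J h (hk ((s (π g))⁻¹ * g) (by simp [hs])))
    simpa using this
  refine ⟨⟨⟨fun a => m (s a), ?_⟩, fun a b => ?_⟩, key⟩
  · have h1 := key 1
    rw [map_one] at h1
    exact acts_uniq h h1 acts_one
  have h1 := key (s a * s b)
  rw [map_mul, hs, hs] at h1
  exact acts_uniq h h1 (acts_mul (hm _) (hm _))

theorem coord_cg (h : H47.MC.Coord v J) {P P' : Mat} (e : P * P' = 1) (e' : P' * P = 1) :
    H47.MC.Coord (fun x => v (P *ᵥ x)) J where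
  add x y := by rw [Matrix.mulVec_add, h.add]
  inj x y hxy := by
    have := congrArg (P' *ᵥ ·) (h.inj hxy)
    simpa [Matrix.mulVec_mulVec, e'] using this
  mem g := by
    rw [h.mem]
    refine ⟨fun ⟨x, hx⟩ => ⟨P' *ᵥ x, ?_⟩, fun ⟨x, hx⟩ => ⟨_, hx⟩⟩
    rw [Matrix.mulVec_mulVec, e, Matrix.one_mulVec, hx]

theorem acts_cg {P P' M : Mat} (e : P * P' = 1) (e' : P' * P = 1) {g : G} (hg : Acts v g M) :
    Acts (fun x => v (P *ᵥ x)) g (cg P P' e e' M) := fun x => by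
  show _ = v (P *ᵥ (P' * M * P) *ᵥ x)
  rw [hg, Matrix.mulVec_mulVec, Matrix.mulVec_mulVec, ← mul_assoc, ← mul_assoc, e, one_mul]

theorem acts_conj {M : Mat} {g : G} (k : G) (hg : Acts v g M) :
    Acts (fun x => k * v x * k⁻¹) (k * g * k⁻¹) M := fun x => by
  show _ = k * v _ * k⁻¹
  rw [← hg]
  group

theorem mod_conj (h : Mod v J M₀) (hM : M₀ ≤ Nr J) {k : G} (hk : k ∈ M₀) :
    Mod (fun x => k * v x * k⁻¹) J M₀ where
  add x y := by rw [h.add]; group
  inj x y e := h.inj (by simpa using e)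
  mem g := by
    refine ⟨fun hg => ?_, ?_⟩
    · obtain ⟨x, hx⟩ := (h.mem _).1 ((mem_normalizer_iff.1 (inv_mem (hM hk)) _).1 hg)
      exact ⟨x, by rw [hx]; group⟩
    · rintro ⟨x, rfl⟩
      exact (mem_normalizer_iff.1 (hM hk) _).1 (v_mem h.toCoord x)
  iso g hg := by
    obtain ⟨M, h1, h2⟩ := h.iso (k⁻¹ * g * k) (mul_mem (mul_mem (inv_mem hk) hg) hk)
    exact ⟨M, by simpa [mul_assoc] using acts_conj k h1, h2⟩
  d8 := by
    obtain ⟨t, ht, r, hr, τ, hτ, d⟩ := h.d8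
    have c : ∀ a b : G, k * a * k⁻¹ * (k * b * k⁻¹) = k * (a * b) * k⁻¹ := fun a b => by group
    exact ⟨_, mul_mem (mul_mem hk ht) (inv_mem hk), _, mul_mem (mul_mem hk hr) (inv_mem hk), _,
      mul_mem (mul_mem hk hτ) (inv_mem hk), acts_conj k d.aT, acts_conj k d.aR, acts_conj k d.aU,
      by rw [c, d.tt]; group, by rw [c, d.rr]; group, by rw [c, d.uu]; group, by rw [c, c, d.tr],
      by rw [c, c, d.tu], by rw [c, c, c, d.uru]⟩
  exS := by
    obtain ⟨σ, h1, h2⟩ := h.exS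
    exact ⟨_, mul_mem (mul_mem hk h1) (inv_mem hk), acts_conj k h2⟩
  exW := by
    obtain ⟨σ, h1, h2⟩ := h.exW
    exact ⟨_, mul_mem (mul_mem hk h1) (inv_mem hk), acts_conj k h2⟩

theorem exists_lift {H A : Type*} [Group H] [Finite H] [Group A] (π : H →* A)
    (hπ : Function.Surjective π) (hk : ∀ g, π g = 1 → g ^ 3 = 1) {D : Subgroup A}
    (hD : IsPGroup 2 D) : ∃ P : Subgroup H, (∀ a ∈ P, ∀ b ∈ P, π a = π b → a = b) ∧
      ∀ d ∈ D, ∃ a ∈ P, π a = d := by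
  have : Fact (Nat.Prime 2) := ⟨by norm_num⟩
  obtain ⟨Q, hQ⟩ := hD.exists_le_sylow
  obtain ⟨P, rfl⟩ := Sylow.mapSurjective_surjective hπ 2 Q
  refine ⟨P, fun a ha b hb e => ?_, fun d hd => hQ hd⟩
  obtain ⟨n, hn⟩ := P.isPGroup' ⟨a⁻¹ * b, mul_mem (inv_mem ha) hb⟩
  have h1 : (a⁻¹ * b) ^ 2 ^ n = 1 := congrArg Subtype.val hn
  have h2 := hk (a⁻¹ * b) (by simp [e])
  have h3 := Nat.eq_one_of_dvd_coprimes (Nat.Coprime.pow_left n (by norm_num : Nat.Coprime 2 3))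
    (orderOf_dvd_of_pow_eq_one h1) (orderOf_dvd_of_pow_eq_one h2)
  exact inv_mul_eq_one.1 (orderOf_eq_one_iff.1 h3)

theorem jobM2 : JobM2.{u} := by
  intro G _ _ S J M₀ z hc he hn hJS hSM hM hS hC ⟨π, hπ, hk⟩ hz hz1 hSz
  obtain ⟨v₀, h₀⟩ := exists_crd hc he hn
  obtain ⟨ρ₀, hρ₀⟩ := exists_rho h₀ hM π hπ fun g => (hk g).1
  have ht : ρ₀ (ag 0) ≠ 1 := by
    intro e
    obtain ⟨g, hg⟩ := hπ (ag 0)
    have h1 := hρ₀ g
    rw [hg, e] at h1
    have : (g : G) ∈ J := hC fun a ha => by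
      obtain ⟨x, rfl⟩ := (h₀.mem a).1 ha
      have := h1 x
      rw [Matrix.one_mulVec] at this
      exact (mul_inv_eq_iff_eq_mul.1 this).symm
    rw [← hk, hg] at this
    exact absurd this (by decide +kernel)
  obtain ⟨P, P', e, e', hg⟩ := normal_A6 ρ₀ ht
  set ρ : A6 →* Mat := (cg P P' e e').comp ρ₀ with hρ
  set v : V → G := fun x => v₀ (P *ᵥ x) with hv
  have h : H47.MC.Coord v J := coord_cg h₀ e e'
  have ha : ∀ g : M₀, Acts v g (ρ (π g)) := fun g => acts_cg e e' (hρ₀ g)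
  have hg' : ∀ i, ρ (ag i) = mg i := hg
  have hb : ∀ (g : M₀) i, π g = ag i → Acts v g (mg i) := fun g i e => by
    rw [← hg', ← e]; exact ha g
  have hmod : Mod v J M₀ := by
    refine ⟨h, fun g hg => ⟨_, ha ⟨g, hg⟩, (iso hg' _).1, (iso hg' _).2.1⟩, ?_, ?_, ?_⟩
    · obtain ⟨D, hD, d0, d1, d3⟩ := exists_D
      obtain ⟨Q, hQ, hl⟩ := exists_lift π hπ (fun g e => Subtype.ext (he g ((hk g).1 e))) hD
      obtain ⟨t, ht, et⟩ := hl _ d0
      obtain ⟨r, hr, er⟩ := hl _ d1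
      obtain ⟨τ, hτ, eτ⟩ := hl _ d3
      refine ⟨t, t.2, r, r.2, τ, τ.2, hb t 0 et, hb r 1 er, hb τ 3 eτ, ?_, ?_, ?_, ?_, ?_, ?_⟩
      · exact congrArg Subtype.val (hQ _ (mul_mem ht ht) _ (one_mem _)
          (by rw [map_mul, map_one, et]; decide +kernel))
      · exact congrArg Subtype.val (hQ _ (mul_mem hr hr) _ (one_mem _)
          (by rw [map_mul, map_one, er]; decide +kernel))
      · exact congrArg Subtype.val (hQ _ (mul_mem hτ hτ) _ (one_mem _)
          (by rw [map_mul, map_one, eτ]; decide +kernel))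
      · exact congrArg Subtype.val (hQ _ (mul_mem ht hr) _ (mul_mem hr ht)
          (by rw [map_mul, map_mul, et, er]; decide +kernel))
      · exact congrArg Subtype.val (hQ _ (mul_mem ht hτ) _ (mul_mem hτ ht)
          (by rw [map_mul, map_mul, et, eτ]; decide +kernel))
      · exact congrArg Subtype.val (hQ _ (mul_mem (mul_mem hτ hr) hτ) _ (mul_mem hr ht)
          (by rw [map_mul, map_mul, map_mul, et, er, eτ]; decide +kernel))
    · obtain ⟨g, eg⟩ := hπ (ag 2)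
      exact ⟨g, g.2, hb g 2 eg⟩
    · obtain ⟨g, eg⟩ := hπ (ag 4)
      exact ⟨g, g.2, hb g 4 eg⟩
  obtain ⟨x, rfl⟩ := (h.mem z).1 hz
  have hx : x ≠ 0 := fun e => hz1 ((v_eq_one h).2 e)
  set f : S →* A6 := π.comp (inclusion hSM) with hf
  have c1 : Nat.card f.ker = 81 := by
    have : f.ker = J.subgroupOf S := by
      ext a
      rw [MonoidHom.mem_ker, mem_subgroupOf]
      exact hk _
    rw [this, Nat.card_congr (subgroupOfEquivOfLe hJS).toEquiv, hn]
    rfl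
  have c2 : Nat.card f.range = 9 := by
    have := f.ker.card_mul_index
    rw [index_ker, c1, hS] at this
    omega
  have hq : q x = 0 := sing_of_nine hg' f.range c2 (by
    rintro _ ⟨a, rfl⟩
    exact (acts_mem_Ce h (ha (inclusion hSM a))).1 (hSz a.2))
  obtain ⟨a, hax⟩ := trans_q hg' (x := vz) (by decide) hx (by rw [hq]; decide)
  obtain ⟨k, rfl⟩ := hπ a
  exact ⟨_, mod_conj hmod hM k.2, by rw [← hax]; exact ha k vz⟩

end H28.M2
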