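import Cfsg.Agent.H46.Misc
import Cfsg.Agent.H5.FrobCompl

/-! Induction over normal series; three primes acting along a normal chain. -/

set_option autoImplicit false

open Cfsg Subgroup H46

namespace H28.Sw

universe u

/-- A property inherited by normal subgroups and quotients that makes simple groups solvable
makes all groups solvable. -/
theorem sol_ind (P : (G : Type u) → [Group G] → Prop)
    (hN : ∀ (G : Type u) [Group G] [Finite G] (N : Subgroup G) [N.Normal], P G → P N)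
    (hQ : ∀ (G : Type u) [Group G] [Finite G] (N : Subgroup G) [N.Normal], P G → P (G ⧸ N))
    (hS : ∀ (G : Type u) [Group G] [Finite G] [IsSimpleGroup G], P G → Group.IsSolvable G)
    (G : Type u) [Group G] [Finite G] (h : P G) : Group.IsSolvable G := by
  induction hn : Nat.card G using Nat.strong_induction_on generalizing G with
  | _ n ih =>
  subst hn
  rcases subsingleton_or_nontrivial G with _ | _
  · infer_instance
  by_cases hs : ∀ N : Subgroup G, N.Normal → N = ⊥ ∨ N = ⊤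
  · have : IsSimpleGroup G := ⟨hs⟩
    exact hS G h
  push Not at hs
  obtain ⟨N, hn, h1, h2⟩ := hs
  have := ih _ (by simpa using card_lt_of_lt (lt_top_iff_ne_top.2 h2)) N (hN G N h) rfl
  have := ih _ (by
    rw [card_eq_card_quotient_mul_card_subgroup N]
    exact lt_mul_of_one_lt_right Nat.card_pos (one_lt_card.2 h1)) (G ⧸ N) (hQ G N h) rfl
  exact solvable_of_ker_le_range N.subtype (QuotientGroup.mk' N) (by simp)

variable {G : Type*} [Group G] [Finite G]

theorem exists_Op_ne_bot {J : Subgroup G} (hJ : Group.IsSolvable J) (h1 : J ≠ ⊥) :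
    ∃ a : ℕ, a.Prime ∧ a ∣ Nat.card J ∧ Op a J ≠ ⊥ := by
  by_contra hcon
  push Not at hcon
  exact fittingOf_ne_bot hJ h1 (le_bot_iff.1 (nil_le_of_forall_Op (fittingOf_nil J) fun r hr hd => by
    rw [Op_fittingOf, hcon r hr (hd.trans (card_dvd_of_le (fittingOf_le J)))]))

omit [Finite G] in
theorem orderOf_mul_of_primes {x y : G} {p q : ℕ} (hp : p.Prime) (hq : q.Prime) (hpq : p ≠ q)
    (hx : orderOf x = p) (hy : orderOf y = q) (h : x * y = y * x) : orderOf (x * y) = p * q := by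
  rw [Commute.orderOf_mul_eq_mul_orderOf_of_coprime h
    (by rw [hx, hy]; exact (Nat.coprime_primes hp hq).2 hpq), hx, hy]

/-- An `r`-element normalizing a `q`-group, both normalizing a `p`-group. -/
theorem three_core {P Q : Subgroup G} {x : G} {p q r : ℕ} (hp : p.Prime) (hq : q.Prime)
    (hr : r.Prime) (hpq : p ≠ q) (hpr : p ≠ r) (hqr : q ≠ r) (hP : IsPGroup p P) (hP1 : P ≠ ⊥)
    (hQ : IsPGroup q Q) (hQ1 : Q ≠ ⊥) (hx : orderOf x = r) (hQP : Q ≤ Nrm P) (hxP : x ∈ Nrm P)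
    (hxQ : x ∈ Nrm Q) : (∃ y : G, orderOf y = p * q) ∨ (∃ y : G, orderOf y = p * r) ∨
      ∃ y : G, orderOf y = q * r := by
  have : Fact q.Prime := ⟨hq⟩
  by_contra hcon
  push Not at hcon
  have hH : IsPi {q, r} (Q ⊔ zpowers x) := (isPi_of_isPGroup' hq hQ (by simp)).sup
    ((isPi_of_card_prime hr (by rw [card_zpowers', hx])).2 (by simp)) (zpowers_le.2 hxQ)
  have hn : Q ⊔ zpowers x ≤ Nrm P := sup_le hQP (zpowers_le.2 hxP)
  have hf : Semiregular P (Q ⊔ zpowers x) := semiregular_of_prime_order fun h hh hpr' => by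
    by_contra hne
    obtain ⟨y, hy, oy⟩ := cauchy hp
      ((isPi_of_isPGroup hp (hP.to_le inf_le_left)).prime_and_dvd hne).2
    rcases hH.mem hpr' (orderOf_dvd_card hh) with e | e
    · exact hcon.1 _ (orderOf_mul_of_primes hp hq hpq oy e (mem_cent1.1 hy.2))
    · exact hcon.2.1 _ (orderOf_mul_of_primes hp hr hpr oy e (mem_cent1.1 hy.2))
  obtain ⟨v, hv, ov⟩ := cauchy hq ((isPi_of_isPGroup hq hQ).prime_and_dvd hQ1).2
  have h1 : x ∈ Nrm (zpowers v) := mem_nrm_iff_cj.2 (H5.eq_of_card_eq_prime_of_fpf hP1 hQP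
    (hf.mono le_rfl le_sup_left) hQ (by rw [cj_le_iff, cj_of_mem_nrm (inv_mem hxQ), zpowers_le]; exact hv)
    (zpowers_le.2 hv) (by rw [card_cj, card_zpowers', ov]) (by rw [card_zpowers', ov]))
  exact hcon.2.2 _ (orderOf_mul_of_primes hq hr hqr ov hx (H5.commute_of_fpf_of_prime_order hP1 hn hf
    (mem_sup_right (mem_zpowers x)) (mem_sup_left hv) (hx ▸ hr) (ov ▸ hq) h1))

theorem dvd_card_of_sup {K N X : Subgroup G} {q : ℕ} (hn : N ≤ Nrm K) (h : K ⊔ N = X)
    (hq : q ∣ K.relIndex X) : q ∣ Nat.card N := by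
  rw [← h, relIndex_sup_of_nrm hn] at hq
  exact hq.trans (relIndex_dvd_card _ _)

/-- Three primes along a chain `K ≤ M ≤ X` of normal subgroups of `X`. -/
theorem three_primes {K M X : Subgroup G} (hK : K ⊴ X) (hM : M ⊴ X) (hKM : K ≤ M) {p q r : ℕ}
    (hp : p.Prime) (hq : q.Prime) (hr : r.Prime) (hpq : p ≠ q) (hpr : p ≠ r) (hqr : q ≠ r)
    (h1 : p ∣ Nat.card K) (h2 : q ∣ K.relIndex M) (h3 : r ∣ M.relIndex X) :
    (∃ y : G, orderOf y = p * q) ∨ (∃ y : G, orderOf y = p * r) ∨ ∃ y : G, orderOf y = q * r := by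
  obtain ⟨P, hP⟩ := exists_sylow hp K
  have f1 := frattini_arg hp hK hP
  have f2 := frattini_arg hp (hK.of_le hKM hM.le) hP
  obtain ⟨Q, hQ⟩ := exists_sylow hq (M ⊓ Nrm P)
  have n1 : M ⊓ Nrm P ⊴ X ⊓ Nrm P :=
    ⟨inf_le_inf_right _ hM.le, nrm_inf (inf_le_left.trans hM.nrm) (inf_le_right.trans le_nrm_self)⟩
  have f3 := frattini_arg hq n1 hQ
  have f4 : M ⊔ (X ⊓ Nrm P ⊓ Nrm Q) = X := by
    refine le_antisymm (sup_le hM.le (inf_le_left.trans inf_le_left)) ?_
    nth_rw 1 [← f1]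
    refine sup_le (hKM.trans le_sup_left) ?_
    nth_rw 1 [← f3]
    exact sup_le_sup_right inf_le_left _
  obtain ⟨x, hx, ox⟩ := cauchy hr
    (dvd_card_of_sup ((inf_le_left.trans inf_le_left).trans hM.nrm) f4 h3)
  exact three_core hp hq hr hpq hpr hqr (hP.isPGroup hp) (hP.ne_bot hp rfl h1) (hQ.isPGroup hq)
    (hQ.ne_bot hq rfl (dvd_card_of_sup ((inf_le_left.trans hM.le).trans hK.nrm) f2 h2)) ox
    (hQ.le.trans inf_le_right) hx.1.2 hx.2

end H28.Sw
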