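import Cfsg.Agent.H14.NF0
import Cfsg.Agent.H14.FEKit

/-! Tower NF (S1308), chapter TE part 1: the point geometry exists. Proofs: `blueprints/TE1.md`. -/

set_option autoImplicit false

open Cfsg Subgroup H14 H98 H1.Gold H31.S2 H14.GC H14.FE H14.NF
open scoped commutatorElement

namespace H28.TE

universe u

section Defs

variable {G : Type u} [Group G]

/-- The central elements of order at most two. -/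
def OZ (R : Subgroup G) : Subgroup G where
  carrier := {x | x ∈ R ∧ x ∈ cen R ∧ x * x = 1}
  one_mem' := ⟨one_mem _, one_mem _, one_mul _⟩
  mul_mem' := by
    rintro a b ⟨a1, a2, a3⟩ ⟨b1, b2, b3⟩
    refine ⟨mul_mem a1 b1, mul_mem a2 b2, ?_⟩
    have e : b * a = a * b := mem_centralizer_iff.1 a2 b b1
    calc a * b * (a * b) = a * (b * a) * b := by simp only [mul_assoc]
      _ = a * a * (b * b) := by rw [e]; simp only [mul_assoc]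
      _ = 1 := by rw [a3, b3, one_mul]
  inv_mem' := by
    rintro a ⟨a1, a2, a3⟩
    exact ⟨inv_mem a1, inv_mem a2, by rw [← mul_inv_rev, a3, inv_one]⟩

theorem mem_OZ {R : Subgroup G} {x : G} : x ∈ OZ R ↔ x ∈ R ∧ x ∈ cen R ∧ x * x = 1 := Iff.rfl

/-- The setting, free of the standard subgroup and invariant under conjugation. -/
structure HY (Q : Subgroup G) : Prop where
  te : IsTightlyEmbedded Q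
  four : ∀ Q₁, Vx Q Q₁ → Four Q₁
  cen_le : ∀ Q₁, Vx Q Q₁ → ∀ d ∈ Q₁, Inv d → cen1 d ≤ nor Q₁
  ti : ∀ Q₁ Q₂, Vx Q Q₁ → Vx Q Q₂ → Q₁ ≠ Q₂ → NI (Q₁ ⊓ Q₂)
  all : ∀ Q₁ Q₂, Vx Q Q₁ → Vx Q Q₂ → Q₁ ≠ Q₂ → ∀ T, IsSyl 2 T (Q₂ ⊓ nor Q₁) → T ≠ ⊥ →
    ¬ IsSyl 2 T Q₂ → El T ∧ Four T
  nel : ∀ Q₁, Vx Q Q₁ → ∀ R, IsSyl 2 R Q₁ → ¬ El R
  ex : ∃ Q₂ T, Vx Q Q₂ ∧ Q ≠ Q₂ ∧ IsSyl 2 T (Q₂ ⊓ nor Q) ∧ T ≠ ⊥ ∧ ¬ IsSyl 2 T Q₂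

/-- The structure of an edge. -/
def EG (Q : Subgroup G) : Prop :=
  ∀ Q₁ Q₂, Vx Q Q₁ → Vx Q Q₂ → Q₁ ≠ Q₂ → ∀ T, IsSyl 2 T (Q₂ ⊓ nor Q₁) → T ≠ ⊥ →
    ∀ R, IsSyl 2 R Q₁ → T ≤ nor R →
      (∀ t ∈ T, t ≠ 1 → R ⊓ cen1 t ≤ cen T) ∧ Nonempty (↥(R ⊓ cen T) ≃* T)

/-- A line `F = E × T`; the definition is symmetric. -/
structure LN (Q Q₁ E Q₂ T : Subgroup G) : Prop where
  hy : HY Q
  v1 : Vx Q Q₁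
  v2 : Vx Q Q₂
  ne : Q₁ ≠ Q₂
  sE : IsSyl 2 E (Q₁ ⊓ nor Q₂)
  sT : IsSyl 2 T (Q₂ ⊓ nor Q₁)
  elE : El E
  elT : El T
  fE : Four E
  fT : Four T
  comm : ∀ e ∈ E, ∀ t ∈ T, e * t = t * e
  card : Nat.card E = Nat.card T
  nE : ¬ IsSyl 2 E Q₁
  nT : ¬ IsSyl 2 T Q₂

theorem LN.symm {Q Q₁ E Q₂ T : Subgroup G} (h : LN Q Q₁ E Q₂ T) : LN Q Q₂ T Q₁ E :=
  ⟨h.hy, h.v2, h.v1, h.ne.symm, h.sT, h.sE, h.elT, h.elE, h.fT, h.fE,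
    fun t ht e he => (h.comm e he t ht).symm, h.card.symm, h.nT, h.nE⟩

/-- A Sylow 2-subgroup adapted to the line. -/
structure AR (Q₁ E T R : Subgroup G) : Prop where
  syl : IsSyl 2 R Q₁
  le : E ≤ R
  nr : T ≤ nor R

/-- A transvection of the line with axis `E`. -/
structure Tr (Q₁ E T : Subgroup G) (y : G) : Prop where
  mem : y ∈ Q₁
  ce : y ∈ cen E
  cm : ∀ t ∈ T, ⁅t, y⁆ ∈ E
  sq : y * y ∈ E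
  mv : y ∉ cen T

/-- The group `N_R(F)`. -/
abbrev PP (E T R : Subgroup G) : Subgroup G := R ⊓ nor (E ⊔ T)

/-- Two elements act alike on `T`. -/
def Al (T : Subgroup G) (y y' : G) : Prop := ∀ t ∈ T, ⁅t, y⁆ = ⁅t, y'⁆

/-- A property of all lines. -/
def AllL (F : ∀ (G : Type u) [Group G] (_ _ _ _ _ : Subgroup G), Prop) : Prop :=
  ∀ (G : Type u) [Group G] [Finite G] (Q Q₁ E Q₂ T : Subgroup G), LN Q Q₁ E Q₂ T → F G Q Q₁ E Q₂ T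

/-- Basic facts on `F = E ⊔ T` and on transvections. -/
structure KT (Q₁ E Q₂ T : Subgroup G) : Prop where
  dec : ∀ f ∈ E ⊔ T, ∃ e ∈ E, ∃ t ∈ T, f = e * t
  elF : El (E ⊔ T)
  abF : Ab (E ⊔ T)
  inE : ∀ f ∈ E ⊔ T, f ∈ Q₁ → f ∈ E
  inT : ∀ f ∈ E ⊔ T, f ∈ Q₂ → f ∈ T
  dis : ∀ e ∈ E, e ∈ T → e = 1
  mx : ∀ y ∈ Q₁, y ∈ cen E → (∃ n : ℕ, y ^ 2 ^ n = 1) → ∀ t ∈ T, t ≠ 1 → y * t = t * y → y ∈ E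
  nrF : ∀ y, Tr Q₁ E T y → y ∈ nor (E ⊔ T)
  nd : ∀ y, Tr Q₁ E T y → ∀ t ∈ T, t ≠ 1 → ⁅t, y⁆ ≠ 1
  hom : ∀ y, Tr Q₁ E T y → ∀ t ∈ T, ∀ t' ∈ T, ⁅t * t', y⁆ = ⁅t, y⁆ * ⁅t', y⁆
  ont : ∀ y, Tr Q₁ E T y → ∀ e ∈ E, ∃ t ∈ T, ⁅t, y⁆ = e
  fix : ∀ y, Tr Q₁ E T y → ∀ f ∈ E ⊔ T, y * f = f * y → f ∈ E
  cj : ∀ y, Tr Q₁ E T y → ∀ g ∈ nor (E ⊔ T), g ∈ nor Q₁ → Tr Q₁ E T (g * y * g⁻¹)

/-- Facts on `P = N_R(F)`. -/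
structure KP (Q₁ E T R : Subgroup G) : Prop where
  ct : ∀ t ∈ T, t ≠ 1 → ∀ y ∈ R, y * t = t * y → y ∈ E
  mem : ∀ y ∈ R, y ∈ PP E T R ↔ ∀ t ∈ T, ⁅t, y⁆ ∈ E
  lt : E < PP E T R
  tr : ∀ y ∈ PP E T R, y ∉ E → Tr Q₁ E T y
  up : PP E T R ≠ R → ∃ x ∈ R, x ∉ PP E T R ∧ x * x ∈ PP E T R ∧ ∀ t ∈ T, ⁅t, x⁆ ∈ PP E T R

/-- The swap of `E` and `T` that conjugates `y` to `u`. -/
structure Sw (Q E T : Subgroup G) (y u w : G) : Prop where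
  nF : w ∈ nor (E ⊔ T)
  et : ∀ e ∈ E, w * e * w⁻¹ ∈ T
  te : ∀ t ∈ T, w * t * w⁻¹ ∈ E
  cE : cj w E = T
  yu : w * y * w⁻¹ * u⁻¹ ∈ cen (E ⊔ T)
  sq : w * w ∈ cen (E ⊔ T)
  home : ∃ Q₃, Vx Q Q₃ ∧ w ∈ Q₃ ∧ ∀ f ∈ E ⊔ T, ⁅f, w⁆ ∈ Q₃

def SW (Q Q₁ E Q₂ T : Subgroup G) : Prop :=
  ∀ y u, Tr Q₁ E T y → Tr Q₂ T E u → ∃ w, Sw Q E T y u w

def S0 (Q₁ E T : Subgroup G) : Prop :=
  ∀ y y', Tr Q₁ E T y → Tr Q₁ E T y' → Al T y y' → y * y = y' * y'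

/-- Transvections are conjugate under an element that fixes no element of `T`. -/
def EQ (Q₁ E T : Subgroup G) : Prop :=
  ∀ y y', Tr Q₁ E T y → Tr Q₁ E T y' → ∃ d ∈ nor (E ⊔ T), d ∈ nor Q₁ ∧ (∀ t ∈ T, d * t * d⁻¹ ∈ T) ∧
    Al T (d * y * d⁻¹) y' ∧ ∀ t ∈ T, t ≠ 1 → d * t * d⁻¹ = t → Al T y y'

def SQ (Q₁ E T : Subgroup G) : Prop := ∀ y, Tr Q₁ E T y → y * y ≠ 1

def NA (Q₁ E T : Subgroup G) : Prop := ∀ n ∈ Q₁, n ∈ nor (E ⊔ T) → n ∈ cen E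

def HZ (Q₁ E Q₂ T : Subgroup G) : Prop :=
  ∀ y z g v, Tr Q₁ E T y → z ∈ nor (E ⊔ T) → z * z ∈ cen (E ⊔ T) → z * y * z⁻¹ * y⁻¹ ∈ cen (E ⊔ T) →
    g ∈ nor (E ⊔ T) → (Tr Q₁ E T v ∨ Tr Q₂ T E v) → z * y * (g * v * g⁻¹)⁻¹ ∈ cen (E ⊔ T) → z ∈ cen E

def OD (Q₁ E Q₂ T : Subgroup G) : Prop :=
  ∀ y u, Tr Q₁ E T y → Tr Q₂ T E u → ∃ m : ℕ, Odd m ∧ (y * u) ^ m ∈ cen (E ⊔ T)

/-- An element that moves `T` inside `P T` but out of `F`. -/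
def G1 (E T R : Subgroup G) : Prop :=
  ∀ w : G, (∀ t ∈ T, ⁅t, w⁆ ∈ PP E T R) → (∃ t ∈ T, ⁅t, w⁆ ∉ E) →
    (∀ t ∈ T, t ≠ 1 → ⁅t, w⁆ ∉ E) ∧ (∀ y ∈ PP E T R, ∃ t ∈ T, ⁅t, w⁆ * y⁻¹ ∈ E) ∧ Fu E T (PP E T R) ∧
    ∀ t ∈ T, ∀ b ∈ PP E T R, b ∉ E → t * b * (t * b) = 1 → ⁅t, w⁆ * b⁻¹ ∈ E

def G2 (E T R : Subgroup G) : Prop :=
  ∀ x ∈ R, x ∉ PP E T R → (∀ t ∈ T, ⁅t, x⁆ ∈ PP E T R) → x ∈ nor E ∧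
    ∀ x' ∈ R, x' ∉ PP E T R → (∀ t ∈ T, ⁅t, x'⁆ ∈ PP E T R) → x * x' ∈ PP E T R

def G3 (E T R : Subgroup G) : Prop :=
  ∀ w : G, (∀ t ∈ T, ⁅t, w⁆ ∈ R ∧ ∀ t' ∈ T, ⁅t', ⁅t, w⁆⁆ ∈ PP E T R) → ∀ t ∈ T, ⁅t, w⁆ ∈ PP E T R

/-- `P` has index at most two. -/
def B2 (E T R : Subgroup G) : Prop :=
  ∀ x ∈ R, x ∉ PP E T R → (∀ t ∈ T, ⁅t, x⁆ ∈ PP E T R) ∧ ∀ x' ∈ R, x' ∉ PP E T R → x * x' ∈ PP E T R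

def On (E T R : Subgroup G) : Prop :=
  Fu E T (PP E T R) → ∀ e ∈ E, e ≠ 1 → ∃ y ∈ PP E T R, y * y = e

/-- All lines at the conjugates of `Q` have `E = Ω₁ Z(R)`. -/
def ZL (Q : Subgroup G) : Prop := ∀ Q₁ E Q₂ T R, LN Q Q₁ E Q₂ T → AR Q₁ E T R → E = OZ R

def ZQ (Q : Subgroup G) : Prop :=
  ∀ Q₁, Vx Q Q₁ → ∀ R, IsSyl 2 R Q₁ → ∀ e ∈ OZ R, ∀ q ∈ Q₁, ⁅q, e⁆ ∈ opp 2 Q₁

/-- Edges are full or lines. -/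
def L0 (Q : Subgroup G) : Prop :=
  ∀ Q₁ Q₂, Vx Q Q₁ → Vx Q Q₂ → Q₁ ≠ Q₂ → ∀ T, IsSyl 2 T (Q₂ ⊓ nor Q₁) → T ≠ ⊥ →
    ∀ R, IsSyl 2 R Q₁ → T ≤ nor R →
      (IsSyl 2 T Q₂ → R ≤ cen T) ∧ (¬ IsSyl 2 T Q₂ → LN Q Q₁ (R ⊓ cen T) Q₂ T)

/-- Points are the groups `Ω₁ Z(R)`. -/
def PtZ (Q E : Subgroup G) : Prop := ∀ Q₁ E₁, Pt Q E Q₁ E₁ → Vx Q Q₁ ∧ Nat.card E₁ = Nat.card E ∧
  (∃ R, IsSyl 2 R Q₁ ∧ E₁ = OZ R) ∧ ∀ R, IsSyl 2 R Q₁ → Nat.card (OZ R) = Nat.card E ∧ (E₁ ≤ R → E₁ = OZ R)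

def CL (Q E : Subgroup G) : Prop := ∀ Q₁ E₁ Q₂ E₂, Col Q E Q₁ E₁ Q₂ E₂ → LN Q Q₁ E₁ Q₂ E₂

/-- One full line. -/
def Fu1 (Q E : Subgroup G) : Prop :=
  ∃ Q₁ E₁ Q₂ E₂ P, Col Q E Q₁ E₁ Q₂ E₂ ∧ PG1 Q₁ E₁ E₂ P ∧ Fu E₁ E₂ P

end Defs

/-- A four-group centralised by a Sylow 2-subgroup of `H` is not moved by an element of `H` like this. -/
def Z4 : Prop := ∀ (G : Type u) [Group G] [Finite G] (H R : Subgroup G) (d c y : G), IsSyl 2 R H →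
  R ≤ cen1 d → R ≤ cen1 c → y ∈ H → y * d * y⁻¹ = d * c → y * c = c * y → c * c = 1 → c = 1

/-- Growth of normalisers with an operator group. -/
def UP : Prop := ∀ (G : Type u) [Group G] [Finite G] (R T A : Subgroup G), IsPGroup 2 R → IsPGroup 2 T →
  T ≤ nor R → T ≤ nor A → A < R → ∃ x ∈ R, x ∉ A ∧ x ∈ nor A ∧ x * x ∈ A ∧ ∀ t ∈ T, ⁅t, x⁆ ∈ A

def KTs : Prop := AllL.{u} fun _ _ _ Q₁ E Q₂ T => KT Q₁ E Q₂ T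
def KPs : Prop := AllL.{u} fun _ _ _ Q₁ E _ T => ∀ R, AR Q₁ E T R → KP Q₁ E T R
def ARs : Prop := AllL.{u} fun G _ _ Q₁ E _ T => ∀ Y : Subgroup G, IsPGroup 2 Y → Y ≤ cen E → Cm3 T Y E →
  ∃ R, AR Q₁ E T R ∧ Y ≤ nor R ∧ Y ≤ nor (E ⊔ T)
def SWs : Prop := AllL.{u} fun _ _ Q Q₁ E Q₂ T => SW Q Q₁ E Q₂ T
def S0s : Prop := AllL.{u} fun _ _ _ Q₁ E _ T => S0 Q₁ E T
def EQs : Prop := AllL.{u} fun _ _ _ Q₁ E _ T => EQ Q₁ E T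
def SQs : Prop := AllL.{u} fun _ _ _ Q₁ E _ T => SQ Q₁ E T
def NAs : Prop := AllL.{u} fun _ _ _ Q₁ E _ T => NA Q₁ E T
def HZs : Prop := AllL.{u} fun _ _ _ Q₁ E Q₂ T => HZ Q₁ E Q₂ T
def ODs : Prop := AllL.{u} fun _ _ _ Q₁ E Q₂ T => OD Q₁ E Q₂ T
def G1s : Prop := AllL.{u} fun _ _ _ Q₁ E _ T => ∀ R, AR Q₁ E T R → G1 E T R
def G2s : Prop := AllL.{u} fun _ _ _ Q₁ E _ T => ∀ R, AR Q₁ E T R → G2 E T R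
def G3s : Prop := AllL.{u} fun _ _ _ Q₁ E _ T => ∀ R, AR Q₁ E T R → G3 E T R
def B2s : Prop := AllL.{u} fun _ _ _ Q₁ E _ T => ∀ R, AR Q₁ E T R → B2 E T R
def Ons : Prop := AllL.{u} fun _ _ _ Q₁ E _ T => ∀ R, AR Q₁ E T R → On E T R
/-- `R` centralises `E`, `E = Ω₁ Z(R)`, involutions outside `P` invert `P`. -/
def ZCs : Prop := AllL.{u} fun _ _ _ Q₁ E _ T => ∀ R, AR Q₁ E T R → E = OZ R ∧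
  ∀ x ∈ R, x ∉ PP E T R → x * x = 1 → ∀ y ∈ PP E T R, x * y * x⁻¹ = y⁻¹
def SCs : Prop := AllL.{u} fun _ _ _ Q₁ E _ T => ∀ R, AR Q₁ E T R →
  ∀ e ∈ E, ∀ g ∈ Q₁, g * e * g⁻¹ ∈ R → g * e * g⁻¹ ∈ E
def NRs : Prop := AllL.{u} fun _ _ _ Q₁ E _ T => ∀ R, AR Q₁ E T R → ∀ g ∈ Q₁, g ∈ nor R → g ∈ cen E

/-! ### Jobs -/

def JobZ4 : Prop := Z4.{u}
def JobUP : Prop := UP.{u}
def JobHY : Prop := AllG.{u} fun _ _ K => TE K → HY (cen K)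
def JobEG : Prop := AllG.{u} fun _ _ Q => HY Q → EG Q
def JobL0 : Prop := AllG.{u} fun _ _ Q => HY Q → EG Q → L0 Q
def JobKT : Prop := KTs.{u}
def JobKP : Prop := UP.{u} → KTs.{u} → KPs.{u}
def JobAR : Prop := KTs.{u} → ARs.{u}
def JobHZ : Prop := KTs.{u} → HZs.{u}
def JobOD : Prop := KTs.{u} → HZs.{u} → ODs.{u}
def JobSW : Prop := KTs.{u} → ODs.{u} → SWs.{u}
def JobS0 : Prop := KTs.{u} → S0s.{u}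
def JobEQ : Prop := KTs.{u} → KPs.{u} → ARs.{u} → SWs.{u} → EQs.{u}
def JobSQ : Prop := KTs.{u} → KPs.{u} → ARs.{u} → S0s.{u} → EQs.{u} → SQs.{u}
def JobNA : Prop := KTs.{u} → KPs.{u} → ARs.{u} → S0s.{u} → EQs.{u} → SQs.{u} → NAs.{u}
def JobG1 : Prop := KTs.{u} → KPs.{u} → G1s.{u}
def JobG2 : Prop := KTs.{u} → KPs.{u} → G1s.{u} → G2s.{u}
def JobG3 : Prop := KTs.{u} → KPs.{u} → G1s.{u} → G2s.{u} → G3s.{u}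
def JobB2 : Prop := UP.{u} → KTs.{u} → KPs.{u} → G2s.{u} → G3s.{u} → B2s.{u}
def JobOn : Prop := KTs.{u} → KPs.{u} → ARs.{u} → SWs.{u} → S0s.{u} → SQs.{u} → Ons.{u}
def JobZC : Prop := KTs.{u} → KPs.{u} → SQs.{u} → G1s.{u} → B2s.{u} → Ons.{u} → ZCs.{u}
def JobSC : Prop := Z4.{u} → KTs.{u} → KPs.{u} → SQs.{u} → G1s.{u} → B2s.{u} → Ons.{u} → ZCs.{u} → SCs.{u}
def JobNR : Prop := KTs.{u} → KPs.{u} → G1s.{u} → G3s.{u} → B2s.{u} → NAs.{u} → ZCs.{u} → NRs.{u}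
def JobZQ : Prop := ZCs.{u} → SCs.{u} → NRs.{u} → AllG.{u} fun _ _ Q => HY Q → L0 Q → ZQ Q
def JobPt : Prop := AllG.{u} fun _ _ Q => ZQ Q → ∀ R, IsSyl 2 R Q → PtZ Q (OZ R)
def JobMN : Prop := ZCs.{u} → AllG.{u} fun _ _ Q => HY Q → L0 Q → ZQ Q → ∀ E, PtZ Q E →
  ∀ Q₁ E₁ Q₂ E₂, Pt Q E Q₁ E₁ → Pt Q E Q₂ E₂ → ∀ s ∈ E₁, s ≠ 1 → s ∈ nor Q₂ → E₂ ≤ nor Q₁
def JobCL : Prop := Z4.{u} → ZCs.{u} → AllG.{u} fun _ _ Q => HY Q → L0 Q → ∀ E, PtZ Q E → Four E → CL Q E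
def PXs : Prop := AllL.{u} fun _ _ _ Q₁ E _ T =>
  ∀ Y ≤ cen E, IsPGroup 2 Y → Cm3 T Y E → ∃ R, AR Q₁ E T R ∧ PG1 Q₁ E T (PP E T R) ∧ Y ≤ nor (PP E T R) ∧
    Cm3 Y (PP E T R) E
def JobPX : Prop := KTs.{u} → KPs.{u} → ARs.{u} → SQs.{u} → PXs.{u}
def JobFu : Prop := KTs.{u} → KPs.{u} → G1s.{u} → AllG.{u} fun _ _ Q => ∀ E, PtZ Q E → CL Q E → Fu1 Q E →
  ∀ Q₁ E₁ Q₂ E₂ R, Col Q E Q₁ E₁ Q₂ E₂ → AR Q₁ E₁ E₂ R → Fu E₁ E₂ (PP E₁ E₂ R)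
def JobOut : Prop := KTs.{u} → KPs.{u} → ARs.{u} → AllG.{u} fun _ _ K => ∀ E, CL (cen K) E → OutK K E
def JobCo : Prop := KTs.{u} → KPs.{u} → ARs.{u} → SWs.{u} → AllG.{u} fun _ _ Q => ∀ E,
  (∀ Q₁ E₁ Q₂ E₂, LN Q Q₁ E₁ Q₂ E₂ → Pt Q E Q₁ E₁ → Pt Q E Q₂ E₂ → Col Q E Q₁ E₁ Q₂ E₂) ∧
  ∀ Q₂ T, LN Q Q E Q₂ T → Pt Q E Q₂ T

/-- The result of part 1. -/
def Part1 : Prop := AllG.{u} fun _ _ K => TE K → ∃ E, TG (cen K) E ∧ OutK K E ∧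
  (∃ Q₁ T, Col (cen K) E (cen K) E Q₁ T) ∧ (Fu1 (cen K) E → FU (cen K) E) ∧
  HY (cen K) ∧ L0 (cen K) ∧ ZQ (cen K) ∧ PtZ (cen K) E ∧ CL (cen K) E

/-- An invariant Sylow subgroup that contains `U ⊓ Y`. -/
theorem inv_syl {G : Type u} [Group G] [Finite G] {U Y : Subgroup G} (hU : IsPGroup 2 U) (hn : U ≤ nor Y) :
    ∃ R, IsSyl 2 R Y ∧ U ⊓ Y ≤ R ∧ U ≤ nor R := by
  obtain ⟨P, -, hl, hR⟩ := exists_inv_syl hU hn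
  refine ⟨_, hR, inf_le_inf_right _ hl, fun x hx => mem_normalizer_iff.2 fun y => ?_⟩
  have h1 := mem_normalizer_iff.1 (le_normalizer (hl hx)) y
  have h2 := mem_normalizer_iff.1 (hn hx) y
  exact and_congr h1 h2

theorem part1_of (z4 : JobZ4.{u}) (up : JobUP.{u}) (hy : JobHY.{u}) (eg : JobEG.{u}) (l0 : JobL0.{u})
    (kt : JobKT.{u}) (kp : JobKP.{u}) (ar : JobAR.{u}) (hz : JobHZ.{u}) (od : JobOD.{u}) (sw : JobSW.{u})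
    (s0 : JobS0.{u}) (eq : JobEQ.{u}) (sq : JobSQ.{u}) (na : JobNA.{u}) (g1 : JobG1.{u}) (g2 : JobG2.{u})
    (g3 : JobG3.{u}) (b2 : JobB2.{u}) (on : JobOn.{u}) (zc : JobZC.{u}) (sc : JobSC.{u}) (nr : JobNR.{u})
    (zq : JobZQ.{u}) (pt : JobPt.{u}) (mn : JobMN.{u}) (cl : JobCL.{u}) (px : JobPX.{u}) (fu : JobFu.{u})
    (out : JobOut.{u}) (co : JobCo.{u}) : Part1.{u} := by
  have kp := kp up kt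
  have ar := ar kt
  have sw := sw kt (od kt (hz kt))
  have s0 := s0 kt
  have eq := eq kt kp ar sw
  have sq := sq kt kp ar s0 eq
  have na := na kt kp ar s0 eq sq
  have g1 := g1 kt kp
  have g2 := g2 kt kp g1
  have g3 := g3 kt kp g1 g2
  have b2 := b2 up kt kp g2 g3
  have on := on kt kp ar sw s0 sq
  have zc := zc kt kp sq g1 b2 on
  have sc := sc z4 kt kp sq g1 b2 on zc
  have nr := nr kt kp g1 g3 b2 na zc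
  have px := px kt kp ar sq
  intro G _ _ K te
  have h := hy G K te
  have hl := l0 G _ h (eg G _ h)
  have hq := zq zc sc nr G _ h hl
  obtain ⟨Q₂, T, v2, ne, sT, nb, nf⟩ := h.ex
  obtain ⟨R, hR, -, hn⟩ := inv_syl (Y := cen K) sT.isPGroup (sT.le.trans inf_le_right)
  have ln := (hl _ _ (vx_self _) v2 ne T sT nb R hR hn).2 nf
  have e := (zc G _ _ _ _ _ ln R ⟨hR, inf_le_left, hn⟩).1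
  rw [e] at ln
  have hp := pt G _ hq R hR
  have hc := cl z4 zc G _ h hl _ hp ln.fE
  have co := co kt kp ar sw G (cen K) (OZ R)
  have p0 : Pt (cen K) (OZ R) (cen K) (OZ R) := ⟨1, (cj_one _).symm, (cj_one _).symm⟩
  refine ⟨OZ R, ⟨fun x hx => hR.le hx.1, ln.elE, ln.fE, fun g => h.cen_le _ ⟨g, rfl⟩,
    fun g g' => h.ti _ _ ⟨g, rfl⟩ ⟨g', rfl⟩, mn zc G _ h hl hq _ hp,
    fun _ _ _ _ c => co.1 _ _ _ _ (hc _ _ _ _ c).symm c.p2 c.p1,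
    fun _ _ _ _ c U hU h2 hE => ((hc _ _ _ _ c).sT.eq_of_le h2 hE hU).le,
    fun _ _ _ _ c Y hY h2 hm => ?_⟩, out kt kp ar G K _ hc, ⟨Q₂, T, co.1 _ _ _ _ ln p0 (co.2 _ _ ln)⟩,
    fun f _ _ _ _ c Y hY h2 hm => ?_, h, hl, hq, hp, hc⟩
  · obtain ⟨R', -, h1, h2, h3⟩ := px G _ _ _ _ _ (hc _ _ _ _ c) Y hY h2 hm
    exact ⟨_, h1, h2, h3⟩
  · obtain ⟨R', a, h1, h2, h3⟩ := px G _ _ _ _ _ (hc _ _ _ _ c) Y hY h2 hm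
    exact ⟨_, h1, h2, h3, fu kt kp g1 G _ _ hp hc f _ _ _ _ R' c a⟩

end H28.TE
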