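import Cfsg.Agent.H28.SFL6
import Cfsg.Agent.H64.SFMod
import Cfsg.Agent.H48.SgFa1

/-! STD-F4, slot M4: the centralisers of `Q_σ` and `Q_θ` in `Aut E₆(F)` and `Aut ²E₆(q)`. -/

set_option autoImplicit false
set_option linter.unusedSectionVars false
set_option synthInstance.maxSize 4000

open Subgroup H98 Cfsg Cfsg.Lie H63 H64 H65 H46.SF H28.L6
open H64.SF hiding Rt
open H64.SG (Cz Cs Ns UU Is2 x_mem_gen mem_Cz mem_Cs)
open H67.SA (cm)
open H68 (rhoE6)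

namespace H28.M4

variable {K : Type} [Field K] [CharP K 2]

local notation "X" => xG chevE6 K

/-- The centraliser of the elements `ι x_s(1)`, `s ∈ lQ j`. -/
noncomputable abbrev CQ (K : Type) [Field K] (j : ℕ) : Subgroup (chevE6.group K) :=
  centralizer {z | ∃ s ∈ lQ j, z = yE K s 1 1}

/-- The commutators of the higher layers with `ι x_s` lie above `r + s`. -/
def Hi (r s : ℕ) : Prop := s < 48 ∧ sh r = sh s ∧ ad r s < 48 ∧ 24 ≤ ad r s ∧
  CmE (r + 1) (o1 s) (ad r s + 1) ∧ CmE (r + 1) (o2 s) (ad r s + 1)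

instance (r s : ℕ) : Decidable (Hi r s) := by unfold Hi; infer_instance

theorem Hi.mem {r s j : ℕ} (h : Hi r s) (hs : s ∈ lQ j) (hr : r < 48) (h0 : 24 ≤ r) {a b : K}
    {v : chevE6.group K} (hv : v ∈ NK K (r + 1)) (hc : yE K r a b * v ∈ CQ K j) :
    cm (yE K r a b) (yE K s 1 1) ∈ NK K (ad r s + 1) := by
  have : cm (yE K r a b * v) (yE K s 1 1) ∈ NK K (ad r s + 1) := by
    rw [H67.SA.cm_eq_one.2 (hc _ ⟨s, hs, rfl⟩).symm]; exact one_mem _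
  rwa [cm_mul_left, mul_mem_cancel_left (NK_conj (yE_mem_U hr h0 a b)
    (cm_yE h.2.2.2.2.1 h.2.2.2.2.2 hv 1 1))] at this

/-- The layer `r` is detected by `lQ j`. -/
def Det (j r : ℕ) : Prop := ∃ s ∈ lQ j, Hi r s ∧ sh (ad r s) = sh r ∧
  (sh r = true → ip r s = -2) ∧ (sh r = false → c1 (o1 r) (o1 s) (o1 (ad r s)))

instance (j r : ℕ) : Decidable (Det j r) := by unfold Det; infer_instance

theorem yP_one {s : ℕ} (h : S s) : yE K s 1 1 = yP K s 1 := by rw [yP_eq' h, ite_self]; rfl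

theorem Det.eq {r j : ℕ} (h : Det j r) (hr : r < 48) (h0 : 24 ≤ r) {a b : K}
    {v : chevE6.group K} (hv : v ∈ NK K (r + 1)) (hc : yE K r a b * v ∈ CQ K j) : yE K r a b = 1 := by
  obtain ⟨s, hs, h1, h2, h3, h4⟩ := h
  have k := h1.mem hs hr h0 hv hc
  cases e : sh r
  · have : cm (X (o1 r) a) (X (o1 s) 1) = X (o1 (ad r s)) (a * 1) :=
      etE6.commutator_add (stE K) (h4 e).rt a 1
    rw [yE_long e, yE_long (h1.2.1 ▸ e), this, ← yE_left, mul_one] at k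
    rw [yE_long e, (eq_zero h1.2.2.1 h1.2.2.2.1 k).1, xE_zero]
  · have hs' : S s := ⟨h1.1, h1.2.1 ▸ e⟩
    rw [yP_eq' ⟨hr, e⟩] at k ⊢
    rw [yP_one hs', yP_120 ⟨hr, e⟩ hs' (h3 e), mul_one] at k
    rw [Prod.swap_injective ((yP_eq_zero ⟨h1.2.2.1, h2.trans e⟩ h1.2.2.2.1 k).trans
      Prod.swap_zero.symm), yP, Prod.fst_zero, Prod.snd_zero, xE_zero, xE_zero, mul_one]

theorem eq_of_90 {r s : ℕ} (h : S r ∧ 24 ≤ r ∧ s ∈ lQ 47 ∧ Hi r s ∧ ip r s = 0 ∧ ad r s = 47) {a b : K}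
    {v : chevE6.group K} (hv : v ∈ NK K (r + 1)) (hc : yE K r a b * v ∈ CQ K 47) : a = b := by
  obtain ⟨hr, h0, hs, h1, h2, h3⟩ := h
  have k := h1.mem hs hr.1 h0 hv hc
  have hs' : S s := ⟨h1.1, h1.2.1 ▸ hr.2⟩
  rw [yP_eq' hr, yP_one hs', yP_90 hr hs' h2, h3, ← yE_left] at k
  have := CharTwo.add_eq_zero.1 (eq_zero (by decide) (by decide) k).1
  split_ifs at this <;> simp_all

theorem sq_of {j : ℕ} {A : Subgroup (chevE6.group K)} (h1 : A ≤ CQ K j) (h2 : ∀ a ∈ A, a * a = 1)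
    (h3 : ∀ r < 48, 24 ≤ r → Det j r ∨ ∀ a b, ∀ v ∈ NK K (r + 1), yE K r a b * v ∈ CQ K j →
      yE K r a b ∈ A) {u : chevE6.group K} (hu : u ∈ UE K) (hc : u ∈ CQ K j) : u * u = 1 := by
  refine h2 u (induct (P := fun v => v ∈ CQ K j → v ∈ A) (fun _ => one_mem _)
    (fun r hr h0 ih a b v hv e => ?_) 24 le_rfl u (NK_24.ge hu) hc)
  have : yE K r a b ∈ A := (h3 r hr h0).elim (fun d => d.eq hr h0 hv e ▸ one_mem A) fun d => d a b v hv e
  exact mul_mem this (ih v hv ((mul_mem_cancel_left (h1 this)).1 e))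

theorem sq44 {u : chevE6.group K} (hu : u ∈ UE K) (hc : u ∈ CQ K 44) : u * u = 1 := by
  let l := [60, 63, 65, 66, 68, 69, 70, 71]
  have k1 : ∀ t ∈ l, ∀ s ∈ lQ 44, c0 t (o1 s) ∧ c0 t (o2 s) := by decide +kernel
  have k2 : ∀ r < 48, 24 ≤ r → Det 44 r ∨ o1 r ∈ l ∧ o2 r ∈ l := by decide +kernel
  refine sq_of (A := gen (XR chevE6 X) {s | (s : ℕ) ∈ l}) (H64.SG.gen_le_iff.2 ?_)
    (fun a => H48.SgFa.sq_eq_one etE6 (stE K) (by decide +kernel))
    (fun r hr h0 => (k2 r hr h0).imp_right fun e a b _ _ _ => H86.NU.yE_mem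
      (x_mem_gen (r := ⟨_, (o_facts r hr).1⟩) e.1) (x_mem_gen (r := ⟨_, (o_facts r hr).2.1⟩) e.2) a b)
    hu hc
  rintro t ht a _ ⟨s, hs, rfl⟩
  exact mem_Cz.1 (H86.NU.yE_mem (A := Cz (X t a))
    (fun b => mem_Cz.2 ((k1 t ht s hs).1.comm (stE K) a b).eq)
    (fun b => mem_Cz.2 ((k1 t ht s hs).2.comm (stE K) a b).eq) 1 1) |>.symm

theorem sq47 {u : chevE6.group K} (hu : u ∈ UE K) (hc : u ∈ CQ K 47) : u * u = 1 := by
  have k2 : ∀ r < 48, 24 ≤ r → Det 47 r ∨ r ∈ lV 47 ∧ (sh r = false ∨ ∃ s < 48,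
    S r ∧ 24 ≤ r ∧ s ∈ lQ 47 ∧ Hi r s ∧ ip r s = 0 ∧ ad r s = 47) := by decide +kernel
  refine sq_of (A := (V K 47).map (iE K)) ?_ ?_
    (fun r hr h0 => (k2 r hr h0).imp_right fun e a b v hv hc => ⟨_, x_mem e.1 hr a, ?_⟩) hu hc
  · rintro _ ⟨v, hv, rfl⟩ _ ⟨s, hs, rfl⟩
    rw [← iE_x (mem_lQ.1 hs).1, ← map_mul, ← map_mul, H86.F4.Cm.le_Cs (H86.F4.stB K).toSt
      (S := lV 47) (S' := lQ 47) (by decide +kernel) hv _ (x_mem hs (mem_lQ.1 hs).1 1)]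
  · rintro _ ⟨v, hv, rfl⟩
    rw [← map_mul, H86.F4.Cm.sq (H86.F4.stB K).toSt (S := lV 47) (by decide +kernel) hv, map_one]
  · rw [iE_x hr]
    rcases e.2 with e | ⟨s, -, e⟩
    · rw [yE_long e, yE_long e]
    · rw [eq_of_90 e hv hc]

/-- A diagonal automorphism. -/
def Dg (β : MulAut (chevE6.group K)) : Prop :=
  ∀ s < 72, ∃ m : K, m ≠ 0 ∧ ∀ a, β (X s a) = X s (m * a)

/-- All roots are differences, starting from `L`. -/
def chain : List ℕ → List (ℕ × ℕ × ℕ) → Bool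
  | L, [] => (List.range 72).all (· ∈ L)
  | L, p :: T => decide (p.2.1 ∈ L ∧ p.2.2 ∈ L ∧ c1 p.2.1 p.1 p.2.2) && chain (p.1 :: L) T

theorem chain_spec {P : ℕ → Prop} (h : ∀ a v b, c1 a v b → P a → P b → P v) :
    ∀ T L, chain L T = true → (∀ s ∈ L, P s) → ∀ s < 72, P s
  | [], L, h1, h2 => fun s hs => h2 s (by
      simpa using List.all_eq_true.1 h1 s (List.mem_range.2 hs))
  | p :: T, L, h1, h2 => by
    simp only [chain, Bool.and_eq_true, decide_eq_true_eq] at h1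
    exact chain_spec h T _ h1.2 (List.forall_mem_cons.2
      ⟨h _ _ _ h1.1.2.2 (h2 _ h1.1.1) (h2 _ h1.1.2.1), h2⟩)

theorem ch44 : chain ((lQ 44).map o1 ++ (lQ 44).map o2)
  [(4, 68, 36), (7, 65, 36), (9, 63, 36), (10, 63, 38), (12, 60, 36), (13, 60, 38), (14, 60, 41),
  (15, 60, 45), (16, 66, 56), (17, 65, 56), (18, 14, 4), (19, 63, 56), (20, 13, 4), (21, 12, 4),
  (22, 63, 57), (23, 13, 7), (24, 12, 7), (25, 12, 9), (26, 23, 16), (27, 10, 4), (28, 9, 4),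
  (29, 7, 4), (30, 20, 16), (31, 10, 7), (32, 9, 7), (33, 18, 16), (34, 10, 9), (35, 18, 17),
  (37, 9, 10), (39, 7, 9), (40, 7, 10), (42, 4, 7), (43, 4, 9), (44, 4, 10), (46, 9, 12), (47,
  7, 12), (48, 7, 13), (50, 4, 12), (51, 4, 13), (53, 4, 14), (0, 49, 4), (1, 25, 0), (2, 24,
  0), (3, 23, 0), (5, 21, 0), (6, 20, 0), (8, 18, 0), (11, 18, 1)] = true := by decide +kernel

theorem ch47 : chain ((lQ 47).map o1 ++ (lQ 47).map o2)
  [(1, 71, 46), (2, 71, 47), (3, 71, 48), (4, 71, 49), (5, 71, 50), (6, 71, 51), (7, 71, 52), (8,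
  71, 53), (9, 71, 54), (10, 71, 55), (11, 63, 46), (12, 62, 46), (13, 61, 46), (14, 61, 47),
  (15, 61, 50), (16, 13, 1), (17, 12, 1), (18, 11, 1), (19, 12, 2), (20, 11, 2), (21, 11, 3),
  (22, 12, 5), (23, 11, 5), (24, 11, 6), (25, 11, 8), (26, 7, 1), (27, 6, 1), (28, 5, 1), (29,
  5, 2), (30, 4, 1), (31, 3, 1), (32, 2, 1), (33, 4, 2), (34, 3, 2), (35, 4, 3), (36, 3, 4),
  (37, 2, 3), (38, 2, 4), (39, 1, 2), (40, 1, 3), (41, 1, 4), (42, 2, 5), (43, 1, 5), (44, 1,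
  6), (45, 1, 7), (56, 5, 16), (57, 2, 16), (58, 1, 16), (59, 1, 17), (60, 1, 18), (0, 46, 1)] = true := by decide +kernel

theorem dg_yE {β : MulAut (chevE6.group K)} {m : ℕ → K} (h : ∀ s < 72, ∀ a, β (X s a) = X s (m s * a))
    {r : ℕ} (hr : r < 48) : β (yE K r 1 1) = yE K r (m (o1 r)) (m (o2 r)) := by
  obtain ⟨h1, h2, -⟩ := o_facts r hr
  cases e : sh r
  · rw [yE_long e, yE_long e, h _ h1, mul_one]
  · rw [yE_short e, yE_short e, map_mul, h _ h1, h _ h2, mul_one, mul_one]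

theorem Dg.ex {β : MulAut (chevE6.group K)} (h : Dg β) : ∃ m : ℕ → K, (∀ s < 72, m s ≠ 0) ∧
    ∀ s < 72, ∀ a, β (X s a) = X s (m s * a) := by
  choose! m h1 h2 using h
  exact ⟨m, h1, h2⟩

theorem sq_j {j : ℕ} (hj : j = 44 ∨ j = 47) {u : chevE6.group K} (hu : u ∈ UE K) (hc : u ∈ CQ K j) :
    u * u = 1 := by
  rcases hj with rfl | rfl
  exacts [sq44 hu hc, sq47 hu hc]

theorem core (hS : Sup K) {j : ℕ} (hj : j = 44 ∨ j = 47) {g : chevE6.group K}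
    {β : MulAut (chevE6.group K)} (hβ : Dg β) (h : ∀ r ∈ lQ j, g * β (yE K r 1 1) * g⁻¹ = yE K r 1 1) :
    ∃ u ∈ UE K, u * u = 1 ∧ ∀ y, g * β y * g⁻¹ = u * y * u⁻¹ := by
  have q : (∀ r ∈ [44, 45, 46, 47], r ∈ lQ j) ∧ ∀ r ∈ lQ j, r < 48 ∧ 24 ≤ r := by
    rcases hj with rfl | rfl <;> decide +kernel
  obtain ⟨m, m1, m2⟩ := hβ.ex
  obtain ⟨u, hu, k, hk, rfl⟩ := (stBE K).rgd.mem_B.1 (hS.bor g fun r hr => by
    have r1 := (q.2 r (q.1 r hr)).1
    exact ⟨_, _, 1, 1, mul_ne_zero (m1 _ (o_facts r r1).1) (m1 _ (o_facts r r1).2.1),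
      dg_yE m2 r1 ▸ h r (q.1 r hr)⟩)
  have hδ : Dg (MulAut.conj k * β) := fun s hs => by
    obtain ⟨c, c0, c1⟩ := (stBE K).toStN.HH_conj hk ⟨s, hs⟩
    exact ⟨c * m s, mul_ne_zero c0 (m1 s hs), fun a => by
      rw [MulAut.mul_apply, m2 s hs, mul_assoc]; exact (c1 _).1⟩
  have e : ∀ y, u * k * β y * (u * k)⁻¹ = u * (MulAut.conj k * β) y * u⁻¹ := fun y => by
    simp [mul_assoc]
  generalize MulAut.conj k * β = δ at hδ e
  obtain ⟨n, -, n2⟩ := hδ.ex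
  have k1 : ∀ r ∈ lQ j, n (o1 r) = 1 ∧ n (o2 r) = 1 := fun r hr => by
    have := h r hr
    rw [e, dg_yE n2 (q.2 r hr).1] at this
    obtain ⟨a1, a2⟩ := eq_of_conj (q.2 r hr).1 (q.2 r hr).2 hu this
    refine ⟨a1, ?_⟩
    cases e : sh r
    exacts [o2_of_long e ▸ a1, a2 e]
  have k2 : ∀ a v b, c1 a v b → n a = 1 → n b = 1 → n v = 1 := fun a v b h1 h2 h3 => by
    have a1 : ∀ s t, cm (X a s) (X v t) = X b (s * t) := fun s t =>
      etE6.commutator_add (stE K) h1.rt s t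
    have a2 := congrArg δ (a1 1 1)
    simp only [cm, map_mul, map_inv, n2 _ h1.1, n2 _ h1.2.1, n2 _ h1.2.2.1, h2, h3, mul_one] at a2
    simpa using (stBE K).x_injective ⟨b, h1.2.2.1⟩ ((a1 1 (n v)).symm.trans a2)
  have k3 : ∀ s ∈ (lQ j).map o1 ++ (lQ j).map o2, n s = 1 := fun s hs => by
    rcases List.mem_append.1 hs with hs | hs <;> obtain ⟨r, hr, rfl⟩ := List.mem_map.1 hs
    exacts [(k1 r hr).1, (k1 r hr).2]
  have k4 : ∀ s < 72, n s = 1 := by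
    rcases hj with rfl | rfl
    exacts [chain_spec k2 _ _ ch44 k3, chain_spec k2 _ _ ch47 k3]
  have k5 : ∀ y, δ y = y := DFunLike.congr_fun (hom_ext_xG (φ := δ.toMonoidHom) (ψ := MonoidHom.id _)
    fun s hs t => (n2 s hs t).trans (by rw [k4 s hs, one_mul]; rfl))
  simp only [k5] at e
  refine ⟨u, hu, sq_j hj hu ?_, e⟩
  rintro _ ⟨r, hr, rfl⟩
  rw [← mul_inv_eq_iff_eq_mul.1 ((e _).symm.trans (h r hr))]

theorem core_ce (hS : Sup K) {j : ℕ} (hj : j = 44 ∨ j = 47) {g : chevE6.group K}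
    (h : ∀ r ∈ lQ j, yE K r 1 1 * g = g * yE K r 1 1) : g * g = 1 := by
  obtain ⟨u, -, h1, h2⟩ := core hS hj (g := g) (β := 1) (fun s _ => ⟨1, one_ne_zero, by simp⟩)
    fun r hr => by rw [MulAut.one_apply, ← h r hr, mul_inv_cancel_right]
  rwa [(H64.SG.ad chevE6 K).conj_injective (MulEquiv.ext h2 : MulAut.conj g = MulAut.conj u)]

theorem fld (hS : Sup K) {g : chevE6.group K} {β : MulAut (chevE6.group K)} {φ : RingAut K} {ε : Bool}
    (hβ : SdE β φ ε) {c : K} (h1 : g * β (yE K 47 1 1) * g⁻¹ = yE K 47 1 1)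
    (h2 : g * β (yE K 47 c c) * g⁻¹ = yE K 47 c c) : φ c = c := by
  obtain ⟨m, -, hm⟩ := hβ 71 (by decide)
  have e : ∀ a b, yE K 47 a b = X 71 a := fun a b => yE_long rfl a b
  have e' : (if ε then rhoE6 71 else 71) = 71 := by cases ε <;> rfl
  rw [e, hm, e'] at h1 h2
  rw [map_one, mul_one, ← e m 1, ← e 1 1] at h1
  have := hS.lin 47 (by simp) g _ _ _ _ h1 (φ c)
  rw [e, e, mul_comm, h2, mul_one] at this
  exact ((stBE K).x_injective ⟨71, by decide⟩ this).symm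

theorem is2_of [Finite K] {Y : Type} [Group Y] {ι : Y →* chevE6.group K} (hι : Function.Injective ι)
    {α : MulAut Y} {u : chevE6.group K} (hu : u ∈ UE K) (h : ∀ y, ι (α y) = u * ι y * u⁻¹) : Is2 α := by
  obtain ⟨k, hk⟩ := H64.SG.isPGroup_iff_is2.1 (H64.SG.syl_UU chevE6 K).isPGroup u hu
  have : ∀ (n : ℕ) y, ι ((α ^ n) y) = u ^ n * ι y * (u ^ n)⁻¹ := fun n => by
    induction n with
    | zero => simp
    | succ n ih => intro y; rw [pow_succ', MulAut.mul_apply, h, ih, pow_succ']; group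
  exact ⟨k, MulEquiv.ext fun y => hι (by rw [this, hk]; simp)⟩

theorem is2_of' [Finite K] {Y : Type} [Group Y] {ι : Y →* chevE6.group K} (hι : Function.Injective ι)
    {α : MulAut Y} {u : chevE6.group K} (hu : u ∈ UE K) (h : ∀ y, ι (α y) = u * gE K (ι y) * u⁻¹) :
    Is2 α := H64.SG.Is2.of_pow (k := 1) (is2_of hι (mul_mem hu (H86.NU.gE_UU K u hu)) fun y => by
  rw [pow_one, pow_two, MulAut.mul_apply, h, h]
  simp only [map_mul, map_inv, gE_gE]; group)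

theorem onE (hS : JobSup) (hX : JobXE) : OnE fun _ _ _ _ ι _ _ _ _ => M4 ι := fun F _ _ _ => by
  have k : ∀ {j r : ℕ}, r ∈ lQ j → ∀ c, x F r c ∈ Q F j := fun hr c => x_mem hr (mem_lQ.1 hr).1 c
  refine ⟨fun j hj α h => ?_, fun j hj y hy => core_ce (hS F) hj fun r hr => ?_⟩
  swap
  · rw [← iE_x (mem_lQ.1 hr).1]; exact hy _ (mem_map_of_mem _ (k hr 1))
  obtain ⟨g, β, φ, ε, hβ, rfl⟩ := hX F α
  have h1 : ∀ r ∈ lQ j, ∀ c, g * β (yE F r c c) * g⁻¹ = yE F r c c := fun r hr c => by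
    rw [← iE_x (mem_lQ.1 hr).1]; exact h _ (k hr c)
  have q : 47 ∈ lQ j := by rcases hj with rfl | rfl <;> decide +kernel
  have h2 := fun c => fld (hS F) hβ (h1 47 q 1) (h1 47 q c)
  cases ε
  · obtain ⟨u, hu, -, e⟩ := core (hS F) hj (β := β) (fun s hs => by simpa [h2] using hβ s hs)
      fun r hr => h1 r hr 1
    exact is2_of (ι := MonoidHom.id _) Function.injective_id hu e
  · obtain ⟨u, hu, -, e⟩ := core (hS F) hj (g := g) (β := β * gE F) (fun s hs => by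
      obtain ⟨a1, a2, -⟩ := rho_facts s hs
      simpa [h2, gE_x hs, a2] using hβ _ a1) fun r hr => by
        rw [MulAut.mul_apply, gE_diag (mem_lQ.1 hr).1, h1 r hr]
    refine is2_of' (ι := MonoidHom.id _) Function.injective_id hu fun y => ?_
    simpa [gE_gE] using e (gE F y)

theorem gal {F : Type} [Field F] [CharP F 2] [Finite F] [Fintype K] (Z : Qx F K) {φ : RingAut K}
    (h : ∀ c, φ (Z.φ c) = Z.φ c) : (∀ a, φ a = a) ∨ ∀ a, φ (Z.σ a) = a := by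
  obtain ⟨η, hη⟩ := exists_eta Z
  have two : (2 : K) = 0 := CharTwo.two_eq_zero
  have k : ∀ a, Z.σ a = a → φ a = a := fun a ha => by
    obtain ⟨c, rfl⟩ := (Z.hφ a).1 ha
    exact h c
  have k1 : ∀ a, φ (a + Z.σ a) = a + Z.σ a := fun a => k _ (by rw [map_add, ss, add_comm])
  have k2 : ∀ a, φ a = a + (a + Z.σ a) * (φ η + η) := fun a => by
    have := k (a + (a + Z.σ a) * η) (by
      rw [map_add, map_mul, map_add, ss, hη]; linear_combination (Z.σ a) * two)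
    rw [map_add, map_mul, k1] at this
    linear_combination this - (a + Z.σ a) * φ η * two
  have k3 := k (η * (η + 1)) (by rw [map_mul, map_add, map_one, hη]; linear_combination η * two + two)
  rw [map_mul, map_add, map_one] at k3
  have k4 : (φ η + η) * (φ η + η + 1) = 0 := by
    linear_combination k3 + (η * φ η + η * η + η) * two
  rcases mul_eq_zero.1 k4 with e | e
  · exact .inl fun a => by rw [k2, e, mul_zero, add_zero]
  · exact .inr fun a => by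
      rw [k2, ss]; linear_combination (Z.σ a + a) * e - a * two

theorem onT (hS : JobSup) (hX : JobXT) : OnT fun _ _ _ _ ι _ _ _ _ => M4 ι :=
    fun F K _ _ _ _ _ _ Z => by
  have k : ∀ {j r : ℕ}, r ∈ lQ j → ∀ c, x F r c ∈ Q F j := fun hr c => x_mem hr (mem_lQ.1 hr).1 c
  have k0 : ∀ {j r : ℕ}, r ∈ lQ j → ∀ c, jT Z (Z.ιT (x F r c)) = yE K r (Z.φ c) (Z.φ c) :=
    fun hr c => by rw [jT_x Z (mem_lQ.1 hr).1, iE_x (mem_lQ.1 hr).1]
  refine ⟨fun j hj α h => ?_, fun j hj y hy => jT_inj Z ?_⟩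
  swap
  · rw [map_mul, map_one]
    refine core_ce (hS K) hj fun r hr => ?_
    rw [← map_one Z.φ, ← k0 hr, ← map_mul, ← map_mul, hy _ (mem_map_of_mem _ (k hr 1))]
  obtain ⟨g, β, φ, hβ, e0⟩ := hX F K Z α
  have h1 : ∀ r ∈ lQ j, ∀ c, jT Z g * β (yE K r (Z.φ c) (Z.φ c)) * (jT Z g)⁻¹ =
      yE K r (Z.φ c) (Z.φ c) := fun r hr c => by rw [← k0 hr, ← e0, h _ (k hr c)]
  have h1' : ∀ r ∈ lQ j, jT Z g * β (yE K r 1 1) * (jT Z g)⁻¹ = yE K r 1 1 := fun r hr => by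
    simpa using h1 r hr 1
  have q : 47 ∈ lQ j := by rcases hj with rfl | rfl <;> decide +kernel
  rcases gal Z fun c => fld (hS K) hβ (h1' 47 q) (h1 47 q c) with h2 | h2
  · obtain ⟨u, hu, -, e⟩ := core (hS K) hj (β := β) (fun s hs => by simpa [h2] using hβ s hs) h1'
    exact is2_of (jT_inj Z) hu fun y => (e0 y).trans (e _)
  · obtain ⟨u, hu, -, e⟩ := core (hS K) hj (g := jT Z g) (β := β * fieldAut chevE6 Z.σ) (fun s hs => by
      obtain ⟨m, m0, m1⟩ := hβ s hs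
      exact ⟨m, m0, fun a => by simp [fieldAut_apply, m1, h2]⟩) fun r hr => by
        rw [MulAut.mul_apply, fieldAut_apply, mapG_yE, map_one, h1' r hr]
    refine is2_of' (jT_inj Z) hu fun y => ?_
    rw [← e, MulAut.mul_apply, fieldAut_apply, ← inc_tT, ← inc_tT' Z.hq Z.hK Z.hf, tT_tT]
    exact e0 y

theorem jobM4 (hS : JobSup) (hE : JobXE) (hT : JobXT) : JobM4 := ⟨onE hS hE, onT hS hT⟩

end H28.M4
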