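import Cfsg.Agent.H63.SFFR
import Cfsg.Agent.H63.SFFC
import Cfsg.Agent.H63.PoinF4
import Cfsg.Agent.S2174
import Cfsg.Agent.S2179

/-! STD-F4, slot FI: the four classes of involutions of `F₄(2ⁿ)`. -/

set_option autoImplicit false
set_option linter.unusedSectionVars false
set_option synthInstance.maxSize 4000

open Subgroup H98 Cfsg Cfsg.Lie H63 H64 H65 H86.WR
open H86.F4 hiding x_mem stB ns
open H64.SF hiding x Rt
open H64.SG (O2 Is2 Inv2 Cz Cs Ns cjs IsO2 UU mem_Cz mem_Cs cj_Cz cj_Cs x_mem_gen syl_UU)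
open H67.SA (cm)
open H46.SF (sh)

namespace H28.SFI

/-- The root group datum. -/
noncomputable abbrev TT (F : Type) [Field F] [CharP F 2] [Finite F] := (stB (F := F)).rgd

variable {F : Type} [Field F] [CharP F 2] [Finite F]

local notation "X" => H64.SF.x F
local notation "T" => TT F

/-- The roots of `C(x_r x_s)`. -/
def lC (r s : ℕ) : List ℕ := (lP r).filter (· ∈ lP s)

theorem cls {u : XF F} (hu : Inv2 u) : Sh u ∨ Lg u ∨ IsConj (xm F) u ∨ IsConj (xd F) u := by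
  have := Fintype.ofFinite F
  obtain ⟨y, -, y2, k, k1, k2⟩ := (Cfsg.Agent.S2174.result (F := F)).2.1 u u.2 (by
    rw [orderOf_coe]; exact orderOf_eq_prime (by rw [pow_two, hu.1]) hu.2)
  have e : ∀ z : XF F, ((z : GL chevF4.Idx F) : Matrix chevF4.Idx chevF4.Idx F) = y →
      IsConj z u := fun z hz => (isConj_iff.2 ⟨(⟨k, k1⟩ : XF F),
        Subtype.ext (k2.trans (Units.ext hz.symm))⟩).symm
  simp only [List.mem_cons, List.not_mem_nil, or_false] at y2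
  rcases y2 with h | h | h | h
  · exact .inr (.inl ((rt_iff (by decide)).2 (e (X 47 1) h.symm)))
  · exact .inl ((rt_iff (by decide)).2 (e (X 44 1) h.symm))
  · refine .inr (.inr (.inl ?_))
    rw [xm, c0' 44 47]
    exact e (X 47 1 * X 44 1) h.symm
  · exact .inr (.inr (.inr (e (X 39 1 * X 45 1) h.symm)))

theorem le_Cz {r s : ℕ} (hr : r < 48) (hs : s < 48) : US F (lC r s) ≤ Cz (X r 1 * X s 1) :=
  US_le fun v hv h a => by
    obtain ⟨h1, h2⟩ := List.mem_filter.1 hv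
    rw [mem_Cz, mul_assoc, x_c0 hs h (mem_lP.1 (of_decide_eq_true h2)).2, ← mul_assoc,
      x_c0 hr h (mem_lP.1 h1).2, mul_assoc]

theorem clo_le {l : List ℕ} {P : ℕ → Prop} (h : ∀ r, P r → r ∈ l ∧ r < 48) :
    closure {g : GL chevF4.Idx F | ∃ (r : ℕ) (c : F), P r ∧
      (g : Matrix chevF4.Idx chevF4.Idx F) = chevF4.x F r c} ≤ (US F l).map (chevF4.group F).subtype :=
  (closure_le _).2 fun _ ⟨r, c, h1, h2⟩ =>
    ⟨X r c, x_mem (h r h1).1 (h r h1).2 c, Units.ext h2.symm⟩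

theorem root_le {l : List ℕ} {r : ℕ} (h : r ∈ l ∧ r < 48 := by decide) :
    chevF4.rootSubgroup F r ≤ (US F l).map (chevF4.group F).subtype :=
  (closure_le _).2 fun _ ⟨c, h2⟩ => ⟨X r c, x_mem h.1 h.2 c, Units.ext h2.symm⟩

theorem Cz_le {v : XF F} {l : List ℕ} (h : chevF4.group F ⊓ centralizer {(v : GL chevF4.Idx F)} ≤
    (US F l).map (chevF4.group F).subtype) : Cz v ≤ US F l := fun g hg => by
  obtain ⟨k, hk, e⟩ := h (show (g : GL chevF4.Idx F) ∈ _ from ⟨g.2, mem_centralizer_singleton_iff.2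
    (congrArg Subtype.val (mem_Cz.1 hg).symm)⟩)
  rwa [← Subtype.ext e]

theorem cz : Cz (xm F) = US F (lC 44 47) ∧ Cz (xd F) = US F (lC 39 45) := by
  have := Fintype.ofFinite F
  have k : ∀ r < 48, chevF4.IsPosRoot r → r ∈ lC 44 47 ∧ (r ∉ [27, 25, 34, 26] → r ∈ lC 39 45) := by
    decide +kernel
  obtain ⟨h1, h2⟩ := Cfsg.Agent.S2179.result (F := F) (X 47 1 * X 44 1 : XF F) (xd F) rfl rfl
  refine ⟨le_antisymm ?_ (le_Cz (by decide) (by decide)),
    le_antisymm (Cz_le (h2.le.trans ?_)) (le_Cz (by decide) (by decide))⟩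
  · rw [xm, c0' 44 47]
    refine Cz_le (h1.le.trans (sup_le (sup_le (clo_le fun r hr => ?_) root_le) root_le))
    exact ⟨(k r hr.1 hr).1, hr.1⟩
  · refine sup_le (sup_le (sup_le (sup_le root_le root_le) root_le) root_le) ((closure_le _).2 ?_)
    rintro g ⟨r, c, a1, a2, a3⟩
    exact ⟨X r c, x_mem ((k r a1.1 a1).2 a2) a1.1 c, Units.ext a3.symm⟩

theorem UJ_eq {J l : List ℕ} (h : ∀ s : Rt chevF4, (s : ℕ) ∈ l ↔ (s : ℕ) ∈ PP ∧
    ¬ ∀ i : Fin chevF4.rank, (i : ℕ) ∉ J → certF4.rtc s i = 0) : US F l = (T).UJ (JL chevF4 J) :=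
  congrArg (H64.gen _) (Set.ext fun s => by
    rw [Set.mem_ofPred_eq, Set.mem_ofPred_eq, h, H64.wdata_pos, pos_iff, H64.mem_PhiJ_iff]
    simp [JL, rt_F4])

theorem le_PJ {J l : List ℕ} (h : ∀ s : Rt chevF4, (s : ℕ) ∈ l → (s : ℕ) ∈ PP ∨
    ∀ i : Fin chevF4.rank, (i : ℕ) ∉ J → certF4.rtc s i = 0) : US F l ≤ (T).PJ (JL chevF4 J) := by
  rw [RGD.PJ_eq_gen]
  refine le_sup_of_le_right (gen_mono _ fun s hs => (h s hs).imp (pos_iff s).2 fun e => ?_)
  rw [H64.mem_PhiJ_iff]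
  simpa [JL, rt_F4] using e

/-- A normal `2`-subgroup of a group between `L_J'` and `P_J` lies in `U_J`. -/
theorem par {J l : List ℕ} (h : ∀ s : Rt chevF4, ((s : ℕ) ∈ l → (s : ℕ) ∈ PP ∨
      ∀ i : Fin chevF4.rank, (i : ℕ) ∉ J → certF4.rtc s i = 0) ∧
      ((∀ i : Fin chevF4.rank, (i : ℕ) ∉ J → certF4.rtc s i = 0) → (s : ℕ) ∈ l))
    {R : Subgroup (XF F)} (h1 : R ≤ US F l) (h2 : US F l ≤ Ns R) (h3 : IsPGroup 2 R) :
    R ≤ (T).UJ (JL chevF4 J) := fun g hg => by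
  have a1 := (h1.trans (le_PJ fun s => (h s).1)).trans ((T).PJ_le_normalizer_UJ _)
  have a2 : IsPGroup 2 ↥(R ⊔ (T).UJ (JL chevF4 J)) :=
    h3.to_sup_of_normal_right' ((syl_UU chevF4 F).isPGroup.to_le ((T).UJ_le_U _)) a1
  have a3 : gen (T).X {r | (H64.wdata chevF4).pos r ∨ r ∈ (H64.wdata chevF4).PhiJ (JL chevF4 J)} ≤
      Ns (R ⊔ (T).UJ (JL chevF4 J)) := H64.gen_le fun r hr => by
    by_cases e : r ∈ (H64.wdata chevF4).PhiJ (JL chevF4 J)
    · refine le_normalizer_sup ((H64.le_gen _ (S := {r : Rt chevF4 | (r : ℕ) ∈ l}) ((h r).2 ?_)).trans h2)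
        ((T).X_le_normalizer_UJ e)
      simpa [JL, rt_F4] using H64.mem_PhiJ_iff.1 e
    · have b : (T).X r ≤ (T).UJ (JL chevF4 J) := H64.le_gen _ (And.intro (hr.resolve_right e) e)
      exact (b.trans le_sup_right).trans le_normalizer
  have a4 : R ⊔ (T).UJ (JL chevF4 J) ≤ (T).U := (syl_UU chevF4 F).le_of_le_normalizer a2 le_top
    ((gen_mono _ fun r hr => .inl hr).trans a3)
  refine mem_UJ_of_conj (T) fun y hy => ?_
  rw [RGD.PJ_eq_gen, sup_comm] at hy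
  obtain ⟨u, hu, k, hk, e⟩ := (T).mem_gen_sup_H.1 (inv_mem hy)
  rw [← inv_inv y, e]
  have := (T).h_conj_gen (inv_mem hk) (a4 (conj_mem_of_mem_normalizer' (a3 hu) (mem_sup_left hg)))
  rw [show (u * k)⁻¹ * g * (u * k)⁻¹⁻¹ = k⁻¹ * (u⁻¹ * g * u) * k⁻¹⁻¹ by group]
  exact this

theorem o2m : IsO2 (Qm F) (Cz (xm F)) := by
  have e : Qm F = (T).UJ (JL chevF4 [2, 1]) := UJ_eq (by decide +kernel)
  rw [cz.1]
  refine ⟨US_mono (by decide +kernel), ?_, ?_, fun R h1 h2 h3 => ?_⟩ <;> rw [e]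
  · exact (le_PJ (by decide +kernel)).trans ((T).PJ_le_normalizer_UJ _)
  · exact (syl_UU chevF4 F).isPGroup.to_le ((T).UJ_le_U _)
  · exact par (by decide +kernel) h1 h2 h3

theorem neg_ip : ∀ a < 48, ∀ r < 48, ip (47 - a) r = -ip a r := by decide +kernel

/-- The leading root `r` of an element of `C_U(xd)` is detected at `v` modulo `l`. -/
theorem lead_d {r v : ℕ} {l : List ℕ} (h : r ∈ PP ∧ v ∈ PP ∧ v ∉ l ∧ Nm l ∧
      Cm (PP.filter (r < ·)) [39, 45] l) {t : F} (e : cm (X r t) (xd F) = X v t) {w : XF F}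
    (hw : w ∈ Uge chevF4 (xG chevF4 F) (r + 1)) (hc : X r t * w ∈ Cz (xd F)) : t = 0 := by
  obtain ⟨h1, h2, h3, h4, h5⟩ := h
  have a1 : cm w (xd F) ∈ US F l := h5.comm st h4 (by simpa using H86.F4.Uge_le [] r hw)
    (mul_mem (x_mem (by simp) (by decide) 1) (x_mem (by simp) (by decide) 1))
  have a2 : cm (X r t * w) (xd F) ∈ US F l := by
    rw [H67.SA.cm_eq_one.2 (mem_Cz.1 hc).symm]; exact one_mem _
  rw [show cm (X r t * w) (xd F) = X r t * cm w (xd F) * (X r t)⁻¹ * cm (X r t) (xd F) by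
    simp only [cm]; group, e] at a2
  exact h4.eq_zero stB h2 h3 ((mul_mem_cancel_left (h4.conj st
      (GS_le_UU (S := [r]) (by simpa using h1) (x_mem (by simp) (mem_PP.1 h1).2 t)) a1)).1 a2)

theorem cm_left {G : Type*} [Group G] {a b c : G} (h : a * c = c * a) :
    cm a (b * c) = cm a b := by
  rw [cm, cm, ← mul_assoc, mul_assoc _ c, show c * a⁻¹ = a⁻¹ * c by
    rw [eq_inv_mul_iff_mul_eq, ← mul_assoc, h, mul_inv_cancel_right]]; group

theorem o2d : IsO2 (Qd F) (Cz (xd F)) := by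
  let l := [25, 26, 27, 28, 29, 30, 31, 32, 34, 35, 36, 37, 38, 39, 40, 41, 42, 43, 44, 45, 46, 47]
  have e : US F l = (T).UJ (JL chevF4 [3, 0]) := UJ_eq (by decide +kernel)
  have n : Nm l := by decide +kernel
  have h0 : Qd F ≤ Cz (xd F) := (US_mono (by decide +kernel)).trans cz.2.ge
  have k : Cz (xd F) ⊓ US F l ≤ Qd F := fun g hg => by
    refine H48.SgFa.lead st (K := Cz (xd F) ⊓ US F l) (fun r hr t => ⟨h0 (x_mem hr r.2 t),
      US_mono (by decide) (x_mem hr r.2 t)⟩) (fun r hr r1 t v hv e => ?_) (n.le hg.2) hg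
    have a : ∀ r ∈ PP, r ∉ [28, 29, 30, 31, 32, 35, 36, 37, 38, 39, 40, 41, 42, 43, 44, 45, 46, 47] →
      r ∉ l ∨ r = 25 ∨ r = 26 ∨ r = 27 ∨ r = 34 := by decide +kernel
    obtain ⟨r, r2⟩ := r
    have s := c0' (F := F) 39 45 1 1
    rcases a r ((pos_iff _).1 hr) r1 with a | rfl | rfl | rfl | rfl
    · exact n.lead stB ((pos_iff _).1 hr) a hv e.2
    · exact lead_d (r := 25) (v := 46) (l := [40, 44, 47]) (by decide +kernel)
        (by rw [xd, s, cm_left (c0' 25 39 t 1), c1' 25 45 46, mul_one]) hv e.1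
    · exact lead_d (r := 26) (v := 47) (l := [40, 44]) (by decide +kernel)
        (by rw [xd, s, cm_left (c0' 26 39 t 1), c1' 26 45 47, mul_one]) hv e.1
    · exact lead_d (r := 27) (v := 40) (l := [44]) (by decide +kernel)
        (by rw [xd, cm_left (c0' 27 45 t 1), c1' 27 39 40, mul_one]) hv e.1
    · exact lead_d (r := 34) (v := 44) (l := []) (by decide +kernel)
        (by rw [xd, cm_left (c0' 34 45 t 1), c1' 34 39 44, mul_one]) hv e.1
  have h1 : Cz (xd F) ≤ Ns (US F l) := by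
    rw [e, cz.2]; exact (le_PJ (by decide +kernel)).trans ((T).PJ_le_normalizer_UJ _)
  have h2 : Qd F = Cz (xd F) ⊓ US F l := le_antisymm (le_inf h0 (US_mono (by decide))) k
  refine ⟨h0, h2 ▸ le_normalizer_inf le_normalizer h1, (syl_UU chevF4 F).isPGroup.to_le
    (GS_le_UU (by decide)), fun R a1 a2 a3 => h2 ▸ le_inf a1 ?_⟩
  rw [cz.2] at a1 a2
  exact e ▸ par (by decide +kernel) a1 a2 a3

/-- `x_v` lies in `O²(C)` if the root subgroups in `K` do. -/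
def Stp (C K : List ℕ) (v : ℕ) : Prop := ∃ a ∈ C, ∃ r ∈ C, a < 48 ∧ r < 48 ∧
  (47 - a ∈ C ∨ a ∈ K) ∧ ip a r < 0 ∧ r ≠ 47 - a ∧ ((sh a = sh r ∧ ad a r = v) ∨
    (sh a = true ∧ sh r = false ∧ ((ad a r = v ∧ ad a v ∈ K) ∨ (ad a r ∈ K ∧ ad a (ad a r) = v))))

instance (C K : List ℕ) (v : ℕ) : Decidable (Stp C K v) := by unfold Stp; infer_instance

theorem cube {a : ℕ} (ha : a < 48) : (X a 1 * X (47 - a) 1) ^ 3 = 1 := by
  have h := n_conj (F := F) ha ha 1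
  have e : ∀ a < 48, rf a a = 47 - a := by decide +kernel
  rw [n_inv ha, n_eq ha, e a ha] at h
  have h1 := x_sq (F := F) ha 1
  have h2 := x_sq (F := F) (show 47 - a < 48 by omega) 1
  generalize X a 1 = x, X (47 - a) 1 = y at *
  calc (x * y) ^ 3 = x * y * x * x * (x * y * x) * (x * x)⁻¹ * y * y⁻¹ * x * (x * x)⁻¹ * x * y := by
        rw [h1]; simp only [pow_succ, pow_zero, one_mul, inv_one, mul_one, mul_assoc]
        rw [← mul_assoc x x, h1]; simp [← mul_assoc, h1]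
    _ = 1 := by rw [h, h1]; simp [mul_assoc, h1, h2]

theorem Stp.mem {C K : List ℕ} {v : ℕ} (h : Stp C K v)
    (hK : ∀ r ∈ K, ∀ c, X r c ∈ O2 (US F C)) (c : F) : X v c ∈ O2 (US F C) := by
  obtain ⟨a, a1, r, r1, a2, r2, h1, h2, h3, h4⟩ := h
  have n : US F C ≤ Ns (O2 (US F C)) := le_normalizer.trans (H64.SG.Ns_le_Ns_O2 _)
  have k : ∀ w ∈ O2 (US F C), cm w (X r c) ∈ O2 (US F C) := fun w hw => by
    simpa [cm, mul_assoc] using
      mul_mem hw (conj_mem_of_mem_normalizer (n (x_mem r1 r2 c)) (inv_mem hw))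
  have key : cm (X a 1) (X r c) ∈ O2 (US F C) := by
    rcases h1 with h1 | h1
    · have b : 47 - a < 48 := by omega
      have := k _ (subset_closure ⟨mul_mem (x_mem a1 a2 1) (x_mem h1 b 1),
        H64.SG.odd_orderOf_of_pow (by decide : Odd 3) (cube a2)⟩)
      rwa [cm, mul_assoc _ _ (X r c), x_c0 b r2 (by rw [neg_ip a a2 r r2]; omega),
        show ∀ p q s : XF F, p * (q * s) * (p * s)⁻¹ * q⁻¹ = cm p q by intro p q s; rw [cm]; group]
        at this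
    · exact k _ (hK a h1 1)
  rcases h4 with ⟨e, rfl⟩ | ⟨e, e', h4⟩
  · rwa [x_c1 a2 r2 e h2 h3, one_mul] at key
  rw [x_c2 ⟨a2, e⟩ ⟨r2, e'⟩ h2, one_pow, one_mul] at key
  rcases h4 with ⟨rfl, h4⟩ | ⟨h4, rfl⟩
  · rwa [mul_mem_cancel_right (hK _ h4 c)] at key
  · rwa [mul_mem_cancel_left (hK _ h4 c)] at key

theorem le_O2 {C l : List ℕ} (h : ∀ v ∈ l, Stp C (l.filter (· < v)) v) : US F l ≤ O2 (US F C) := by
  have k : ∀ v ∈ l, ∀ c, X v c ∈ O2 (US F C) := fun v => by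
    induction v using Nat.strong_induction_on with
    | _ v ih =>
      exact fun hv => (h v hv).mem fun r hr =>
        ih r (of_decide_eq_true (List.mem_filter.1 hr).2) (List.mem_filter.1 hr).1
  exact US_le fun r hr _ => k r hr

/-- Reduction to the four representatives. -/
theorem red {u : XF F} {A : Subgroup (XF F)} (hu : Inv2 u) (hA : IsO2 A (Cz u)) :
    ∃ g u₀ Q₀, u = g * u₀ * g⁻¹ ∧ A = cjs g Q₀ ∧ Q₀ ≤ O2 (Cz u₀) ∧ ∃ r < 48, ∀ c, X r c ∈ Q₀ := by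
  have k : ∀ u₀ l, IsConj u₀ u → IsO2 (US F l) (Cz u₀) → US F l ≤ O2 (Cz u₀) → 47 ∈ l →
      ∃ g u₀ Q₀, u = g * u₀ * g⁻¹ ∧ A = cjs g Q₀ ∧ Q₀ ≤ O2 (Cz u₀) ∧ ∃ r < 48, ∀ c, X r c ∈ Q₀ :=
    fun u₀ l h1 h2 h3 h4 => by
      obtain ⟨g, rfl⟩ := isConj_iff.1 h1
      refine ⟨g, u₀, _, rfl, ?_, h3, 47, by decide, x_mem h4 (by decide)⟩
      rw [hA.eq, (H26.SG.isO2_cj h2 g).eq, cj_Cz]
  rcases cls hu with h | h | h | h
  · have e := (H63.SFR.six (F := F) (r := 44) (by decide))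
    refine k _ (lQ 44) ((rt_iff (by decide)).1 h) ?_ ?_ (by decide +kernel) <;> rw [e.1 1 one_ne_zero]
    exacts [e.2.1, le_O2 (by decide +kernel)]
  · have e := (H63.SFR.six (F := F) (r := 47) (by decide))
    refine k _ (lQ 47) ((rt_iff (by decide)).1 h) ?_ ?_ (by decide +kernel) <;> rw [e.1 1 one_ne_zero]
    exacts [e.2.1, le_O2 (by decide +kernel)]
  · exact k _ _ h o2m (by rw [cz.1]; exact le_O2 (by decide +kernel)) (by decide)
  · exact k _ _ h o2d (by rw [cz.2]; exact le_O2 (by decide +kernel)) (by decide)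

theorem oq {u : XF F} {A : Subgroup (XF F)} (hu : Inv2 u) (hA : IsO2 A (Cz u)) :
    A ≤ O2 (Cz u) := by
  obtain ⟨g, u₀, Q₀, rfl, rfl, h, -⟩ := red hu hA
  rw [H64.SG.O2_eq] at h
  rw [← cj_Cz, H64.SG.O2_eq]
  exact (map_mono h).trans (map_res_le _ _)

theorem cta (hFA : FA F) {u : XF F} {A : Subgroup (XF F)} (hu : Inv2 u) (hA : IsO2 A (Cz u))
    {α : MulAut (XF F)} (h1 : Odd (orderOf α)) (h2 : ∀ a ∈ A, α a = a) : α = 1 := by
  obtain ⟨k, rfl⟩ : ∃ k, α = MulAut.conj k := by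
    obtain ⟨g, -, Q₀, -, rfl, -, r, r1, r2⟩ := red hu hA
    obtain ⟨k, hk⟩ := hFA.lin r r1 ((MulAut.conj g)⁻¹ * α * MulAut.conj g) fun c => by
      rw [MulAut.mul_apply, MulAut.mul_apply, h2 (MulAut.conj g _) (mem_map_of_mem _ (r2 c))]
      simp [mul_assoc]
    exact ⟨g * k * g⁻¹, by rw [map_mul, map_mul, ← hk, map_inv]; group⟩
  rw [orderOf_injective _ ((injective_iff_map_eq_one _).2 ns.cen)] at h1
  obtain ⟨R, r1, r2, r3, -⟩ := H63.SF.jobFC F u hu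
  have e : Cs (zpowers u) = Cz u := Subgroup.ext fun _ => H64.SG.mem_Cs_zpowers.trans mem_Cz.symm
  have a0 : zpowers k ≤ Cs A := zpowers_le.2 (mem_Cs.2 fun a ha => by
    rw [← mul_inv_eq_iff_eq_mul.1 (h2 a ha)])
  have a1 : u ∈ A := hA.2.2.2 _ (zpowers_le.2 (mem_Cz.2 rfl)) (e ▸ H64.SG.Cs_le_Ns _)
    (H64.SG.is2_of_sq hu.1).zpowers (mem_zpowers u)
  have a2 : zpowers k ≤ Cz u := fun y hy => mem_Cz.2 (a0 hy u a1)
  have a3 := thompson_AB r1 (H64.SG.is2_of_sq hu.1).zpowers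
    (res_eq_self_of_coprime (Nat.coprime_two_right.2 (Nat.card_zpowers k ▸ h1)))
    (zpowers_le.2 (r2 (mem_Cz.2 rfl))) (a2.trans r2) (by
      rw [commutator_comm, commutator_eq_bot_iff_le_centralizer]; exact a2.trans e.ge)
    ((hA.2.2.2 _ (inf_le_right.trans e.le) (le_normalizer_inf r2 (e ▸ le_normalizer))
      (r1.to_le inf_le_left)).trans (le_centralizer_iff.1 a0))
  rw [(H64.SG.isPGroup_iff_is2.1 r1 k (r3 (le_centralizer_iff.1 a3 (mem_zpowers k)))).eq_one h1,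
    map_one]

theorem card_PJ (hq : Nat.card F = 2) [Fintype (H63.wdata chevF4).W] (J : List ℕ) :
    Nat.card ((T).PJ (JL chevF4 J)) = 2 ^ 24 * poinJ chevF4 J 2 := by
  classical
  have h1 : ∀ r, Nat.card ((T).X r) = 2 := fun r => (stB.card_XR r).trans hq
  have h2 : (T).H = ⊥ := eq_bot_iff.2 ((closure_le _).2 (by
    rintro _ ⟨r, t, ht, rfl⟩
    obtain rfl := ((Nat.card_eq_two_iff' (0 : F)).1 hq).unique ht one_ne_zero
    exact eq_of_conj fun s hs a => by rw [h_conj r.2 hs one_ne_zero]; simp))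
  have h3 : Nat.card (T).U = 2 ^ 24 := hq ▸ H86.F4.card_U F
  rw [(T).card_PJ _ inferInstance, (T).card_B, h2, h3, card_bot, mul_one]
  congr 1
  refine Finset.sum_congr (Finset.ext fun w => (Set.Finite.mem_toFinset _).trans
    (Finset.mem_filter_univ (p := fun w => w ∈ (H63.wdata chevF4).WJ (JL chevF4 J)) w).symm)
    fun w _ => ?_
  simp only [h1, Finset.prod_const]
  exact congrArg _ ((Set.ncard_eq_toFinset_card _ (Set.toFinite _)).symm.trans
    ((H64.wdata chevF4).ncard_Inv w))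

theorem no7 (hq : Nat.card F = 2) {u : XF F} (h : IsConj (xm F) u ∨ IsConj (xd F) u) :
    ¬ 7 ∣ Nat.card (Cz u) := fun h7 => by
  have := Fintype.ofFinite (H63.wdata chevF4).W
  rcases h with h | h <;> obtain ⟨g, rfl⟩ := isConj_iff.1 h <;> rw [← cj_Cz, card_cj] at h7
  · have := h7.trans (card_dvd_of_le (cz.1.le.trans (le_PJ (J := [2, 1]) (by decide +kernel))))
    rw [card_PJ hq, poinJ_cons _ (Ls := [[[0, 1, -1, 1]], [[1, -1, 1, 1]], [[1, 0, -1, 2]]])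
      (by decide +kernel), poinJ_cons _ (Ls := [[[1, -1, 2, 0]]]) (by decide +kernel), poinJ_nil] at this
    revert this; decide +kernel
  · have := h7.trans (card_dvd_of_le (cz.2.le.trans (le_PJ (J := [3, 0]) (by decide +kernel))))
    rw [card_PJ hq, poinJ_cons _ (Ls := [[[0, 0, 1, -1]]]) (by decide +kernel),
      poinJ_cons _ stepF4_0, poinJ_nil] at this
    revert this; decide +kernel

theorem cj_x (s r v : ℕ) (a : F) (e : s < 48 ∧ r < 48 ∧ sh s = sh r ∧ ip s r < 0 ∧ r ≠ 47 - s ∧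
    ad s r = v := by decide +kernel) : X s 1 * X r a * (X s 1)⁻¹ = X v a * X r a := by
  have := c1' s r v (1 : F) a e
  rw [one_mul] at this
  rw [← this, cm, inv_mul_cancel_right]

theorem cj_0 (s r : ℕ) (a : F) (e : s < 48 ∧ r < 48 ∧ 0 ≤ ip s r := by decide +kernel) :
    X s 1 * X r a * (X s 1)⁻¹ = X r a := by rw [c0' s r 1 a e, mul_inv_cancel_right]

theorem seven : 7 ∣ Nat.card (US F [21, 22, 23, 24, 25, 26]) := by
  let v : F → F → F → XF F := fun a b c => X 41 a * X 42 b * X 43 c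
  have m : ∀ (g : XF F) a b c, g * v a b c * g⁻¹ =
      g * X 41 a * g⁻¹ * (g * X 42 b * g⁻¹) * (g * X 43 c * g⁻¹) := fun g a b c => by
    simp only [v]; group
  have s1 : ∀ a b c, X 21 1 * v a b c * (X 21 1)⁻¹ = v (a + c) b c := fun a b c => by
    rw [m, cj_0 21 41, cj_0 21 42, cj_x 21 43 41, ← mul_assoc, mul_assoc _ (X 42 b), c0' 42 41,
      ← mul_assoc, x_add (by decide)]
  have s2 : ∀ a b c, X 25 1 * v a b c * (X 25 1)⁻¹ = v a b (b + c) := fun a b c => by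
    rw [m, cj_0 25 41, cj_0 25 43, cj_x 25 42 43, c0' 43 42, ← mul_assoc, mul_assoc _ (X 43 b),
      x_add (by decide)]
  have s3 : ∀ a b c, X 24 1 * v a b c * (X 24 1)⁻¹ = v a (a + b) c := fun a b c => by
    rw [m, cj_0 24 42, cj_0 24 43, cj_x 24 41 42, c0' 42 41, mul_assoc _ (X 42 a), x_add (by decide)]
  let g := X 24 1 * X 25 1 * X 21 1
  have s : ∀ a b c, g * v a b c * g⁻¹ = v (a + c) (a + c + b) (b + c) := fun a b c => by
    rw [← s3, ← s2, ← s1]; simp only [g]; group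
  have h7 : g ^ 7 ∈ Cz (v 1 0 0) := by
    rw [mem_Cz, eq_comm, ← mul_inv_eq_iff_eq_mul, show ∀ y, g ^ 7 * y * (g ^ 7)⁻¹ =
      g * (g * (g * (g * (g * (g * (g * y * g⁻¹) * g⁻¹) * g⁻¹) * g⁻¹) * g⁻¹) * g⁻¹) * g⁻¹ by
        intro y; simp only [pow_succ, pow_zero, one_mul, mul_inv_rev, mul_assoc]]
    simp only [s, add_zero, zero_add, CharTwo.add_self_eq_zero]
  by_contra h
  have h1 : g ∈ US F [21, 22, 23, 24, 25, 26] := mul_mem (mul_mem (x_mem (by decide) (by decide) 1)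
    (x_mem (by decide) (by decide) 1)) (x_mem (by decide) (by decide) 1)
  have h2 := zpowers_le.2 h7 (mem_zpowers_pow_iff.2 ((Nat.Prime.coprime_iff_not_dvd (by decide)).2
    fun e => h (e.trans (orderOf_dvd_natCard _ h1))))
  rw [mem_Cz, eq_comm, ← mul_inv_eq_iff_eq_mul, s] at h2
  simp only [v, add_zero, mul_left_inj, mul_right_inj] at h2
  exact one_ne_zero (x_inj (by decide) h2)

theorem jobFI (hFA : H64.SF.JobFA) : H64.SF.JobFI := fun F _ _ _ => by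
  refine ⟨fun _ => cls, o2m, o2d, ⟨Nm.card stB (by decide +kernel) (by decide),
    Nm.card stB (by decide +kernel) (by decide)⟩, fun _ _ => oq,
    fun _ _ h1 h2 _ => cta (hFA F) h1 h2, fun hq => ⟨⟨_, ?_, ?_, seven⟩, fun u hu h => ?_⟩⟩
  · have k : ∀ r ∈ [21, 22, 23, 24, 25, 26], 0 ≤ ip 40 r ∧ 0 ≤ ip 44 r := by decide +kernel
    exact US_le fun r hr h a => ⟨mem_Cz.2 (x_c0 (by decide) h (k r hr).1 1 a),
      mem_Cz.2 (x_c0 (by decide) h (k r hr).2 1 a)⟩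
  · exact H63.SFR.dr_le st (fun a ha b hb h1 h2 t u =>
      commutator_mem_commutator (x_mem ha h1 t) (x_mem hb h2 u)) (by simp : ∀ r ∈ [], _) (by decide +kernel)
  · rcases cls hu with e | e | e
    exacts [.inl e, .inr e, absurd h (no7 hq e)]

end H28.SFI
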