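import Cfsg.Agent.H28.A9L
import Cfsg.Agent.H56.SymIdx

/-! The case `N(⟨e₃⟩)/⟨e₃⟩ = S₆`: the subgroup `S₄ × 2` of the centraliser of `s`. -/

set_option autoImplicit false
set_option maxRecDepth 100000
set_option synthInstance.maxSize 4000
open Cfsg Subgroup H28 H14 H44 H44.K24 H56.L3 H42.L3 H98 Equiv

namespace H28.A9

universe u

def pt6 (k : K48) (p : Fin 6) : Fin 6 := Fin.ofNat 6 (lk
  0x201534021354210543120453102435012345204531024351213540123450240513420153231504321054105432015342402135042315132405312045243510423150234501324051150423510243051324405132045312501234135402315042432105342015153420513240450123054321504231351024435102345012531204453120540213354021534201543210 4 (6 * k.val + p.val))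

/-- `S₄ × 2` on six points -/
def rho : K48 →* Perm (Fin 6) :=
  @MulAction.toPermHom K48 (Fin 6) _
    { smul := pt6
      one_smul := by decide +kernel
      mul_smul := (by decide +kernel : ∀ a b p, pt6 (a * b) p = pt6 a (pt6 b p)) }

def ks : K48 := .mk 45
def kv : K48 := .mk 2
def kd : K48 := .mk 1
def ka : K48 := .mk 22

/-- the normal four-group -/
def VV : Subgroup K48 where
  carrier := {k | k = 1 ∨ k = ka ∨ k = .mk 39 ∨ k = .mk 37}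
  mul_mem' {a b} := by revert a b; simp only [Set.mem_ofPred_eq]; decide +kernel
  one_mem' := .inl rfl
  inv_mem' {a} := by revert a; simp only [Set.mem_ofPred_eq]; decide +kernel

instance : DecidablePred (· ∈ VV) := fun k =>
  inferInstanceAs (Decidable (k = 1 ∨ k = ka ∨ k = .mk 39 ∨ k = .mk 37))

instance : VV.Normal := ⟨by decide +kernel⟩

/-- `⟨e₃, v⟩` -/
def DV : Subgroup MM where
  carrier := {m | m.k = 1 ∧ m.j.1 + m.j.2.1 = 0}
  mul_mem' {a b} ha hb := ⟨by simp [ha.1, hb.1], by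
    simp only [SD.mul_j, ha.1, one_smul, Prod.fst_add, Prod.snd_add]
    linear_combination ha.2 + hb.2⟩
  one_mem' := ⟨rfl, rfl⟩
  inv_mem' {a} ha := ⟨by simp [ha.1], by
    simp only [SD.inv_j, ha.1, inv_one, one_smul, Prod.fst_neg, Prod.snd_neg]
    linear_combination -ha.2⟩

theorem rho_inj : Function.Injective rho := (injective_iff_map_eq_one _).2 fun k h =>
  (by decide +kernel : ∀ k, (∀ p, pt6 k p = p) → k = 1) k fun p =>
    congrArg (fun f : Perm (Fin 6) => f p) h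

theorem s6_norm : ∀ y : Perm (Fin 6), y * rho kv = rho kv * y → y * y = 1 → y ≠ 1 →
    ∀ z : Perm (Fin 6), z * y = y * z → z * rho kv * z⁻¹ = (rho kv)⁻¹ → (∃ f, f * f = z) →
    ∃ c, c * rho kv * c⁻¹ = rho kv ∧ c * y * c⁻¹ = rho ks ∧ c * z * c⁻¹ = rho kd := by
  decide +kernel

theorem s6_cen : ∀ y : Perm (Fin 6), y * rho ks = rho ks * y → ∃ k, rho k = y := by
  decide +kernel

theorem s6_V : ∀ y : Perm (Fin 6), y * rho ka = rho ka * y → y * rho (.mk 39) = rho (.mk 39) * y →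
    ∃ k ∈ VV, rho k = y ∨ rho (ks * k) = y := by decide +kernel

theorem s6_d : ∀ y : Perm (Fin 6), y * y = 1 → y * rho ks * y⁻¹ = rho ks * rho kd →
    (∃ c, c * y * c⁻¹ = rho (ks * ka)) ∨ ∃ c, c * rho kd * c⁻¹ = y := by decide +kernel

theorem s6_a : ∃ c, c * rho kd * c⁻¹ = rho ka := by decide +kernel

/-- The configuration in the centraliser of `s`. -/
structure B2 {G : Type*} [Group G] (l : K48 →* G) : Prop where
  inj : Function.Injective l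
  cv : ∀ g ∈ Ce (l ks), g ∈ Ce (l kv) → g ∈ l.range
  cE : ∀ g ∈ Ce (l ks), g ∈ cn (VV.map l) → g ∈ l.range
  nds : ¬ IsConj (l ks) (l kd)
  ta : IsConj (l kd) (l ka)
  tr : IsConj (l kd) (l (ks * ka))
  tw : IsConj (l ks) (l (ks * kd))

namespace L0
variable {G : Type u} [Group G] [Finite G] {φ : MM →* G} (h : L0 φ)
include h

theorem mN (m : MM) (e : m * vc 0 0 1 * m⁻¹ = vc 0 0 1 ∨ m * vc 0 0 1 * m⁻¹ = (vc 0 0 1)⁻¹ := by
    decide +kernel) : φ m ∈ Nz (φ (vc 0 0 1)) := h.mem_N.2 e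

theorem exists_pi (π : Nz (φ (vc 0 0 1)) →* Perm (Fin 6)) (hs : Function.Surjective π)
    (hk : ∀ n, π n = 1 ↔ (n : G) ∈ zpowers (φ (vc 0 0 1))) :
    ∃ π : Nz (φ (vc 0 0 1)) →* Perm (Fin 6), Function.Surjective π ∧
      (∀ n, π n = 1 ↔ (n : G) ∈ zpowers (φ (vc 0 0 1))) ∧ π ⟨_, h.mN (vc 1 2 0)⟩ = rho kv ∧
      π ⟨_, h.mN (kk 11)⟩ = rho ks ∧ π ⟨_, h.mN (kk 3)⟩ = rho kd := by
  have aut : ∀ σ : Perm (Fin 6) ≃* Perm (Fin 6), Function.Surjective (σ.toMonoidHom.comp π) ∧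
      ∀ n, σ.toMonoidHom.comp π n = 1 ↔ (n : G) ∈ zpowers (φ (vc 0 0 1)) := fun σ =>
    ⟨σ.surjective.comp hs, fun n => σ.map_eq_one_iff.trans (hk n)⟩
  have ho : orderOf (π ⟨_, h.mN (vc 1 2 0)⟩) = 3 := orderOf_eq_prime (by
      rw [← map_pow, ← π.map_one]; exact congrArg π (Subtype.ext (JI_cube ⟨_, rfl, rfl⟩)))
    fun e => absurd (h.mem_Z.1 ((hk _).1 e)) (by decide +kernel)
  obtain ⟨σ, h1⟩ : ∃ σ : Perm (Fin 6) ≃* Perm (Fin 6), σ (π ⟨_, h.mN (vc 1 2 0)⟩) = rho kv := by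
    have key : ∀ x : Perm (Fin 6), orderOf x = 3 → (¬ ∃ p, x p = p) →
        ∃ c, c * x * c⁻¹ = rho kv := fun x a b => isConj_iff.1 (Perm.isConj_iff_cycleType_eq.2
      ((((H56.Sym.ord3 (by simp) a).resolve_left fun e => b e.2).1).trans (by decide +kernel)))
    by_cases e : ∃ p, π ⟨_, h.mN (vc 1 2 0)⟩ p = p
    · obtain ⟨ψ, hψ⟩ := H56.Sym.exists_outer_six
      obtain ⟨c, hc⟩ := key _ ((ψ.orderOf_eq _).trans ho) fun e' => (hψ _ ho).1 e' e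
      exact ⟨ψ.trans (MulAut.conj c), hc⟩
    · obtain ⟨c, hc⟩ := key _ ho e
      exact ⟨MulAut.conj c, hc⟩
  have rel : ∀ (a b : MM) (ha hb hc), σ (π ⟨φ a, ha⟩) * σ (π ⟨φ b, hb⟩) = σ (π ⟨φ (a * b), hc⟩) :=
    fun a b ha hb hc => by
      rw [← map_mul, ← map_mul]; exact congrArg (σ ∘ π) (Subtype.ext (map_mul φ a b).symm)
  obtain ⟨c, c1, c2, c3⟩ := s6_norm (σ (π ⟨_, h.mN (kk 11)⟩))
    (by rw [← h1, rel _ _ _ _ (h.mN _), rel _ _ _ _ (h.mN _)]; congr 4)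
    (by
      rw [rel _ _ _ _ (h.mN _), σ.map_eq_one_iff, hk]
      exact h.mem_Z.2 (by decide +kernel))
    (fun e => absurd (h.mem_Z.1 ((hk _).1 (σ.map_eq_one_iff.1 e))) (by decide +kernel))
    (σ (π ⟨_, h.mN (kk 3)⟩)) (by rw [rel _ _ _ _ (h.mN _), rel _ _ _ _ (h.mN _)]; congr 4)
    (by
      rw [mul_inv_eq_iff_eq_mul, eq_inv_mul_iff_mul_eq, ← h1, rel _ _ _ _ (h.mN _),
        rel _ _ _ _ (h.mN _)]
      congr 4)
    ⟨σ (π ⟨_, h.mN (kk 9)⟩), by rw [rel _ _ _ _ (h.mN _)]; congr 4⟩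
  exact ⟨_, (aut (σ.trans (MulAut.conj c))).1, (aut (σ.trans (MulAut.conj c))).2,
    h1 ▸ (h1 ▸ c1 :), c2, c3⟩

theorem not_ds : ¬ IsConj (φ (kk 11)) (φ (kk 3)) := fun e => by
  obtain ⟨g, hg⟩ := isConj_iff.1 e.symm
  refine not_conj wk h.loc (S := zpowers (φ (vc 1 2 0))) (isSyl_zpowers
    ((map_mem_Ce h.inj).2 (by decide +kernel)) (orderOf_eq_prime (JI_cube ⟨_, rfl, rfl⟩)
      (by rw [Ne, map_eq_one_iff φ h.inj]; decide)) fun x hx ⟨n, hn⟩ => ?_)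
    (zpowers_le.2 ⟨_, rfl, rfl⟩) (a := vc 0 0 1) (b := vc 0 0 1) rfl rfl
    ((map_mem_Ce h.inj).2 (by decide +kernel)) ((map_mem_Ce h.inj).2 (by decide +kernel))
    (fun n e _ => ?_) g hg
  · obtain ⟨m, rfl⟩ := h.cen_au (j := vc 1 2 0) rfl (by decide +kernel) hx.2
    rw [← map_pow, map_eq_one_iff φ h.inj] at hn
    rw [← MonoidHom.map_zpowers, mem_map_iff_mem h.inj]
    rcases (by decide +kernel : ∀ m : MM, m * kk 11 = kk 11 * m → m * vc 1 2 0 = vc 1 2 0 * m →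
      m ^ 3 = kk 11 ∨ ∃ i < 3, vc 1 2 0 ^ i = m) m ((map_mem_Ce h.inj).1 hx.1)
      ((map_mem_Ce h.inj).1 hx.2) with e | ⟨i, -, rfl⟩
    · exact absurd ((pow_eq_one_iff_of_coprime (a := kk 11) (Nat.Coprime.pow_right n
        (by decide : Nat.Coprime 2 3))).1 ⟨by decide +kernel, by
          rw [← e, ← pow_mul, mul_comm, pow_mul, hn, one_pow]⟩) (by decide)
    · exact pow_mem (mem_zpowers _) i
  · rw [← MonoidHom.map_zpowers, mem_map_iff_mem h.inj] at e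
    exact (by decide +kernel : ∀ n : MM, ¬ (n * vc 0 0 1 * n⁻¹ = 1 ∨
      n * vc 0 0 1 * n⁻¹ = vc 1 2 0 ∨ n * vc 0 0 1 * n⁻¹ = (vc 1 2 0)⁻¹)) n
      (H52.L3.mem_zp3 (by decide +kernel) e)

theorem exists_b2 (π : Nz (φ (vc 0 0 1)) →* Perm (Fin 6)) (hs : Function.Surjective π)
    (hk : ∀ n, π n = 1 ↔ (n : G) ∈ zpowers (φ (vc 0 0 1))) : ∃ l : K48 →* G, B2 l := by
  obtain ⟨π, hs, hk, pv, ps, pd⟩ := h.exists_pi π hs hk
  have hZ : ∀ z ∈ zpowers (φ (vc 0 0 1)), ∃ m, φ m = z ∧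
      (m = 1 ∨ m = vc 0 0 1 ∨ m = (vc 0 0 1)⁻¹) := fun z hz => by
    obtain ⟨m, -, rfl⟩ := (zpowers_le.2 ⟨_, rfl, rfl⟩ : _ ≤ JI φ) hz
    exact ⟨m, rfl, h.mem_Z.1 hz⟩
  have hZ' : zpowers (φ (vc 0 0 1)) ≤ Ce (φ (vc 0 0 1)) := zpowers_le.2 (mem_Ce.2 rfl)
  have hq : ∀ a b, π a = π b → (a : G)⁻¹ * b ∈ zpowers (φ (vc 0 0 1)) := fun a b e =>
    (hk (a⁻¹ * b)).1 (by rw [map_mul, map_inv, e, inv_mul_cancel])
  have uniq : ∀ a b, π a = π b → (a : G) ∈ Ce (φ (kk 11)) → (b : G) ∈ Ce (φ (kk 11)) → a = b :=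
    fun a b e ha hb => by
      obtain ⟨m, e1, e2⟩ := hZ _ (hq a b e)
      have := (map_mem_Ce h.inj).1 (e1 ▸ mul_mem (inv_mem ha) hb)
      rw [e2.resolve_right (by rintro (rfl | rfl) <;> revert this <;> decide +kernel), map_one,
        eq_comm, inv_mul_eq_one] at e1
      exact Subtype.ext e1
  have cj : ∀ (a b : Nz (φ (vc 0 0 1))) (c : Perm (Fin 6)), a * a = 1 → b * b = 1 →
      c * π a * c⁻¹ = π b → ∃ n : Nz (φ (vc 0 0 1)), n * a * n⁻¹ = b := fun a b c ha hb e => by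
    obtain ⟨n, rfl⟩ := hs c
    rw [← map_inv, ← map_mul, ← map_mul] at e
    have h1 : n * a * n⁻¹ * (n * a * n⁻¹) = 1 := by rw [conj_mul, ha]; simp
    have h2 : ((n * a * n⁻¹)⁻¹ * b) ^ 3 = 1 := Subtype.ext
      (JI_cube ((zpowers_le.2 ⟨_, rfl, rfl⟩ : _ ≤ JI φ) (hq _ _ e)))
    refine ⟨(n * a * n⁻¹)⁻¹ * b * n, ?_⟩
    rw [show (n * a * n⁻¹)⁻¹ * b * n * a * ((n * a * n⁻¹)⁻¹ * b * n)⁻¹ =
      (n * a * n⁻¹)⁻¹ * b * (n * a * n⁻¹) * ((n * a * n⁻¹)⁻¹ * b)⁻¹ by group]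
    generalize n * a * n⁻¹ = t at h1 h2
    rw [mul_inv_rev, inv_inv, inv_eq_of_mul_eq_one_left h1, inv_eq_of_mul_eq_one_left hb] at *
    calc _ = (t * b) ^ 3 * b⁻¹ := by simp [pow_succ, mul_assoc]
      _ = b := by rw [h2, one_mul, inv_eq_of_mul_eq_one_left hb]
  have ex : ∀ k, ∃ n : Nz (φ (vc 0 0 1)), π n = rho k ∧ (n : G) ∈ Ce (φ (kk 11)) := fun k => by
    obtain ⟨n, hn⟩ := hs (rho k)
    have h1 : (⟨_, h.mN (kk 11)⟩ : Nz (φ (vc 0 0 1))) * ⟨_, h.mN (kk 11)⟩ = 1 := Subtype.ext (by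
      rw [coe_mul, ← map_mul, coe_one, ← φ.map_one]; exact congrArg φ (by decide +kernel))
    obtain ⟨m, e1, e2⟩ := hZ _ (hq (n * ⟨_, h.mN (kk 11)⟩ * n⁻¹) ⟨_, h.mN (kk 11)⟩ (by
      rw [map_mul, map_mul, map_inv, hn, ps, ← map_inv, ← map_mul, ← map_mul]
      exact congrArg rho ((by decide +kernel : ∀ k, k * ks * k⁻¹ = ks) k)))
    have h2 := h.mem_Z.2 e2
    refine ⟨⟨φ m, le_normalizer h2⟩ * n, by
      rw [map_mul, (hk _).2 h2, one_mul, hn], mem_Ce'.2 ?_⟩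
    have h3 : (n : G) * φ (kk 11) * (n : G)⁻¹ = φ (kk 11 * m⁻¹) := by
      rw [map_mul, map_inv, e1]; simp
    calc _ = φ m * (n * φ (kk 11) * (n : G)⁻¹) * (φ m)⁻¹ := by simp [mul_assoc]
      _ = _ := by
        rw [h3, ← map_inv, ← map_mul, ← map_mul]
        rcases e2 with rfl | rfl | rfl <;> exact congrArg φ (by decide +kernel)
  choose f f1 f2 using ex
  let l0 : K48 →* Nz (φ (vc 0 0 1)) := MonoidHom.mk' f fun a b =>
    uniq _ _ (by rw [map_mul, f1, f1, f1, map_mul]) (f2 _) (mul_mem (f2 a) (f2 b))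
  have l1 : ∀ k, π (l0 k) = rho k := f1
  have l2 : ∀ k, (l0 k : G) ∈ Ce (φ (kk 11)) := f2
  clear_value l0
  have ls : l0 ks = ⟨_, h.mN (kk 11)⟩ := uniq _ _ ((l1 _).trans ps.symm) (l2 _) (mem_Ce.2 rfl)
  have lv : l0 kv = ⟨_, h.mN (vc 1 2 0)⟩ := uniq _ _ ((l1 _).trans pv.symm) (l2 _)
    ((map_mem_Ce h.inj).2 (by decide +kernel))
  have ld : l0 kd = ⟨_, h.mN (kk 3)⟩ := uniq _ _ ((l1 _).trans pd.symm) (l2 _)
    ((map_mem_Ce h.inj).2 (by decide +kernel))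
  let l := (Nz (φ (vc 0 0 1))).subtype.comp l0
  have ls' : l ks = φ (kk 11) := congrArg Subtype.val ls
  have lv' : l kv = φ (vc 1 2 0) := congrArg Subtype.val lv
  have ld' : l kd = φ (kk 3) := congrArg Subtype.val ld
  have rg : ∀ g ∈ Ce (φ (kk 11)), g ∈ Nz (φ (vc 0 0 1)) → g ∈ l.range := fun g a b => by
    obtain ⟨k, e⟩ := s6_cen (π ⟨g, b⟩) (by
      rw [← ps, ← map_mul, ← map_mul]; exact congrArg π (Subtype.ext (mem_Ce.1 a)))
    exact ⟨k, congrArg Subtype.val (uniq _ _ ((l1 k).trans e) (l2 k) a)⟩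
  have sq : ∀ k, k * k = 1 → l0 k * l0 k = 1 := fun k e => by rw [← map_mul, e, map_one]
  have cj' : ∀ (a b : Nz (φ (vc 0 0 1))), (∃ n : Nz (φ (vc 0 0 1)), n * a * n⁻¹ = b) →
      IsConj (a : G) b := fun a b ⟨n, e⟩ => isConj_iff.2 ⟨n, congrArg Subtype.val e⟩
  have cjm : ∀ a b : MM, (∃ m, m * a * m⁻¹ = b) → IsConj (φ a) (φ b) := fun a b e =>
    φ.map_isConj (isConj_iff.2 e)
  have e3 : φ (vc 0 0 1) ^ 3 = 1 := JI_cube ⟨_, rfl, rfl⟩
  have hN : Nz (φ (vc 0 0 1)) ≤ nr (Ce (φ (vc 0 0 1))) := by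
    rw [Ce, ← centralizer_closure, ← zpowers_eq_closure]
    exact normalizer_le_normalizer_centralizer _
  have hV : VV.map l ≤ Ce (φ (vc 0 0 1)) := by
    rintro _ ⟨k, hk, rfl⟩
    obtain ⟨c, rfl⟩ := (by decide +kernel : ∀ k ∈ VV, ∃ c, c * c = k) k hk
    have e := (H52.L3.mem_zp3 e3 (mem_Nz.1 (l0 c).2)).resolve_left (by
      rw [conj_eq_one_iff, map_eq_one_iff φ h.inj]; decide)
    rw [map_mul, mem_Ce']
    calc _ = (l0 c : G) * (l0 c * φ (vc 0 0 1) * (l0 c : G)⁻¹) * (l0 c : G)⁻¹ := by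
          simp [l, mul_assoc]
      _ = _ := by rcases e with e | e <;> simp only [e, ← conj_inv, inv_inv]
  have hVc : VV.map l ≤ cn (VV.map l) := by
    rintro _ ⟨a, ha, rfl⟩ _ ⟨b, hb, rfl⟩
    rw [← map_mul, ← map_mul]
    exact congrArg l ((by decide +kernel : ∀ a ∈ VV, ∀ b ∈ VV, b * a = a * b) a ha b hb)
  have V2 : ∀ x ∈ VV.map l, x * x = 1 := by
    rintro _ ⟨a, ha, rfl⟩
    rw [← map_mul, (by decide +kernel : ∀ a ∈ VV, a * a = 1) a ha, map_one]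
  have he : φ (vc 0 0 1) ∈ cn (VV.map l) := fun x hx => mem_Ce.1 (hV hx)
  have sc : ∀ g ∈ cn (VV.map l), g * φ (vc 0 0 1) = φ (vc 0 0 1) * g →
      g ∈ VV.map l ⊔ zpowers (φ (vc 0 0 1)) := fun g a b => by
    have hg : g ∈ Nz (φ (vc 0 0 1)) := Ce_le_nr (mem_Ce.2 b)
    have h1 : ∀ k ∈ VV, π ⟨g, hg⟩ * rho k = rho k * π ⟨g, hg⟩ := fun k hk => by
      rw [← l1, ← map_mul, ← map_mul]
      exact congrArg π (Subtype.ext (a _ ⟨k, hk, rfl⟩).symm)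
    obtain ⟨k, h2, e | e⟩ := s6_V _ (h1 _ (by decide)) (h1 _ (by decide))
    · simpa [l] using mul_mem_sup (mem_map_of_mem l h2) (hq _ _ ((l1 k).trans e))
    · have h3 := mul_mem (mul_mem (mem_Ce.2 b) (inv_mem (hZ' (hq _ _ ((l1 _).trans e)))))
        (inv_mem (hV ⟨k, h2, rfl⟩))
      rw [map_mul, ls] at h3
      exact absurd ((map_mem_Ce (m := kk 11) h.inj).1 (by simpa [l] using h3)) (by decide +kernel)
  have hD : DV.map φ ≤ JI φ := map_mono fun _ e => e.1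
  refine ⟨l, (Nz _).subtype_injective.comp fun a b e => rho_inj (by rw [← l1, ← l1, e]),
    fun g a b => ?_, fun g a b => rg g (ls' ▸ a) (mem_Nz.2 ?_), ls' ▸ ld' ▸ h.not_ds, ?_, ?_, ?_⟩
  · rw [ls'] at a
    rw [lv'] at b
    obtain ⟨m, rfl⟩ := h.cen_au (j := vc 1 2 0) rfl (by decide +kernel) b
    exact rg _ a (h.mN m ((by decide +kernel : ∀ m : MM, m * vc 1 2 0 = vc 1 2 0 * m →
      m * vc 0 0 1 * m⁻¹ = vc 0 0 1 ∨ m * vc 0 0 1 * m⁻¹ = (vc 0 0 1)⁻¹) m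
      ((map_mem_Ce h.inj).1 b)))
  · obtain ⟨n, hn⟩ := IsPGroup.iff_card.1 (isPGroup_iff_forall.2 fun x hx =>
      ⟨1, by rw [pow_one, pow_two, V2 x hx]⟩ : IsPGroup 2 (VV.map l))
    have h1 : DV.map φ ≤ nr (cn (VV.map l)) := by
      rintro _ ⟨m, hm, rfl⟩
      obtain ⟨i, -, j, -, rfl⟩ := (by decide +kernel : ∀ m : MM, m.k = 1 → m.j.1 + m.j.2.1 = 0 →
        ∃ i < 3, ∃ j < 3, vc 0 0 1 ^ i * vc 1 2 0 ^ j = m) m hm.1 hm.2
      rw [map_mul, map_pow, map_pow, ← lv']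
      exact mul_mem (pow_mem (le_normalizer he) _) (pow_mem (normalizer_le_normalizer_centralizer _
        (le_normalizer_map l ⟨_, (normalizer_eq_top_iff.2 inferInstance).ge trivial, rfl⟩)) _)
    refine (jobFT1 G (cn (VV.map l)) (VV.map l) (DV.map φ) _ ⟨hVc, fun z hz g hg => hg z hz,
      hn ▸ Nat.Coprime.pow_left n (by decide), he, orderOf_eq_prime e3
        (by rw [Ne, map_eq_one_iff φ h.inj]; decide), sc⟩ (JI_isPGroup.to_le hD) h1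
      (fun R r1 r2 r3 => ?_) g b).elim (fun e => e.symm ▸ mem_zpowers _)
      fun e => e.symm ▸ inv_mem (mem_zpowers _)
    have r4 : DV.map φ ≤ nr R := fun j hj => mem_normalizer_of_cj_le (by
      rintro _ ⟨k, hk, rfl⟩; exact r3 j hj k hk)
    refine gen3 (hD.trans (JI_le_cn.trans (centralizer_anti hD))) (fun a ha => JI_cube (hD ha))
      (x := φ (vc 0 0 1)) (y := φ (vc 1 2 0)) ⟨_, ⟨rfl, rfl⟩, rfl⟩ ⟨_, ⟨rfl, rfl⟩, rfl⟩
      ?_ ?_ ?_ ?_ r4 r2 ?_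
    · rw [Ne, map_eq_one_iff φ h.inj]; decide
    · rw [Ne, map_eq_one_iff φ h.inj]; decide
    · rw [Ne, h.inj.eq_iff]; decide
    · rw [Ne, ← map_inv, h.inj.eq_iff]; decide +kernel
    rintro _ ⟨x, hx, rfl⟩ x1 r hr
    refine mem_of_cube (not_dvd_of_mem r2 hr.1) ?_
    rcases (by decide +kernel : ∀ x : MM, x.k = 1 → x.j.1 + x.j.2.1 = 0 → x ≠ 1 →
      (∃ i < 3, x ^ i = vc 0 0 1) ∨ 6 ≤ (cls x).val ∧ ∀ n : MM, n * x = x * n →
        vc 0 0 1 * n = n * vc 0 0 1 → n ^ 3 = 1) x hx.1 hx.2 fun e => x1 (e ▸ φ.map_one) with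
      ⟨i, -, e⟩ | ⟨e, e'⟩
    · obtain ⟨w, hw, z, hz, rfl⟩ := (mem_sup_left_norm (hV.trans Ce_le_nr)).1 (sc r (r1 hr.1) (by
        rw [← e, map_pow]; exact (Commute.pow_right (mem_Ce.1 hr.2) i).eq))
      rw [(show Commute w z from ((zpowers_le.2 he) hz w hw)).mul_pow,
        JI_cube ((zpowers_le.2 ⟨_, rfl, rfl⟩ : _ ≤ JI φ) hz), mul_one]
      exact pow_mem hw 3
    · obtain ⟨n, rfl⟩ := h.cen_au hx.1 e hr.2
      rw [← map_pow, e' n ((map_mem_Ce h.inj).1 hr.2)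
        (h.comm_of r2 rfl (r4 ⟨_, ⟨rfl, rfl⟩, rfl⟩) hr.1), map_one]
      exact one_mem _
  · obtain ⟨c, e⟩ := s6_a
    exact cj' _ _ (cj _ _ c (sq _ (by decide +kernel)) (sq _ (by decide +kernel)) (by rwa [l1, l1]))
  · have h1 : (⟨_, h.mN (kk 1)⟩ : Nz (φ (vc 0 0 1))) * ⟨_, h.mN (kk 1)⟩ = 1 := Subtype.ext (by
      rw [coe_mul, ← map_mul, coe_one, ← φ.map_one]; exact congrArg φ (by decide +kernel))
    rcases s6_d (π ⟨_, h.mN (kk 1)⟩) (by rw [← map_mul, h1, map_one]) (by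
      rw [← ps, ← pd, ← map_inv, ← map_mul, ← map_mul, ← map_mul]
      refine congrArg π (Subtype.ext ?_)
      simp only [coe_mul, coe_inv, ← map_mul, ← map_inv]
      exact congrArg φ (by decide +kernel)) with ⟨c, e⟩ | ⟨c, e⟩
    · exact ld' ▸ (cjm _ (kk 1) (by decide +kernel)).trans
        (cj' _ _ (cj _ (l0 _) c h1 (sq _ (by decide +kernel)) (by rwa [l1])))
    · obtain ⟨n, e⟩ := cj _ _ c (sq kd (by decide +kernel)) h1 (by rwa [l1])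
      have h2 := conj_mem_of_mem_normalizer (hN n.2)
        ((map_mem_Ce (m := kk 3) h.inj).2 (by decide +kernel))
      rw [ld] at e
      rw [show (n : G) * φ (kk 3) * (n : G)⁻¹ = φ (kk 1) from congrArg Subtype.val e] at h2
      exact absurd ((map_mem_Ce h.inj).1 h2) (by decide +kernel)
  · rw [map_mul, ls', ld', ← map_mul]
    exact cjm _ _ (by decide +kernel)

end L0

end H28.A9
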