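import Cfsg.Agent.H28.A9Mod
import Cfsg.Agent.H28.D8Final
import Cfsg.Agent.H39.L3Hat
import Cfsg.Agent.H42.L3T
import Cfsg.Agent.H52.L3W
import Cfsg.Agent.H7.ThompsonNPC

/-! The `3`-local analysis of a group with `N(3³) = 3³ : S₄` and trivial cores. -/

set_option autoImplicit false
set_option maxRecDepth 100000
set_option synthInstance.maxSize 4000
open Cfsg Subgroup H28 H14 H44 H44.K24 H56.L3 H42.L3 H98

namespace H28.A9

universe u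

section General
variable {G : Type*} [Group G] [Finite G]

open H29 H31 in
/-- `H39.L3.hat_top` for two elements. -/
theorem hat2_top {S A : Subgroup G} (hS : IsSyl 3 S ⊤)
    (hi : A.relIndex S = 3) (hf : ∀ x ∈ S, ∀ g : G, g * x * g⁻¹ ∈ A → x ∈ A) {a b : G}
    (ha : a * a = 1) (hb : b ∈ A) (hb3 : b ^ 3 = 1)
    (h : ∀ x ∈ S, x ∉ A → ∀ g, g * x = x * g → g ^ 3 = 1) :
    ∃ N : Subgroup G, N.Normal ∧ (a ∈ N ∨ b ∈ N) ∧ S ⊓ N ≤ A := by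
  classical
  have := Fintype.ofFinite G
  let Z : G → Prop := fun g => ∃ x, IsPPart 3 g x ∧ ∃ k : G, k * x * k⁻¹ ∈ A
  have p3 := Nat.prime_three
  have self : ∀ {g x : G}, IsPPart 3 g x → IsPPart 3 x x := fun ⟨_, _, _, h3, _⟩ =>
    ⟨1, mul_one _, Commute.one_right _, h3, by simp⟩
  have pp : ∀ x : G, (∃ k, x ^ 3 ^ k = 1) → IsPPart 3 x x := fun x ⟨k, hk⟩ =>
    ⟨1, mul_one _, Commute.one_right _, by
      obtain ⟨j, -, hj⟩ := (Nat.dvd_prime_pow p3).1 (orderOf_dvd_of_pow_eq_one hk)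
      exact ⟨j, hj⟩, by simp⟩
  have hS' : ∀ x ∈ S, Z x ↔ x ∈ A := fun x hx => by
    have h1 := pp x (isPGroup_iff_forall.1 hS.isPGroup x hx)
    exact ⟨fun ⟨y, hy, k, hk⟩ => hf x hx k (by rwa [H41.isPPart_unique p3 h1 hy]),
      fun hx => ⟨x, h1, 1, by simpa using hx⟩⟩
  have cj : ∀ g t, Z g → Z (t * g * t⁻¹) := fun g t ⟨x, hx, k, hk⟩ =>
    ⟨_, H41.isPPart_conj hx t, k * t⁻¹, by simpa [mul_assoc] using hk⟩
  have h2 : ∀ g, g * g = 1 → Z g := fun g hg => ⟨1, isPPart_one_iff.2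
    (not_dvd_of_two (k := 1) (by rw [pow_one, sq, hg])), 1, by simp⟩
  have zb : Z b := ⟨b, pp b ⟨1, hb3⟩, 1, by simpa using hb⟩
  obtain ⟨N, hN, h5, h6⟩ := H39.L3.hat_core Z (isGenChar_of_sec_const hS.toSylowTop
    (fun g t => by
      rw [if_congr (⟨fun e => by simpa [mul_assoc] using cj _ t⁻¹ e, cj g t⟩ : Z _ ↔ Z g) rfl rfl])
    (fun g x hx => if_congr ⟨fun ⟨y, hy, e⟩ => ⟨y, by
        rw [H41.isPPart_unique p3 hx hy]; exact self hy, e⟩,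
      fun ⟨y, hy, e⟩ => ⟨x, hx, by rwa [H41.isPPart_unique p3 (self hx) hy]⟩⟩ rfl rfl) (by
      have : Fintype S := Fintype.ofFinite _
      have hN : (A.subgroupOf S).Normal := ⟨fun n hn g => hf _ (g * n * g⁻¹).2 g⁻¹ (by
        simpa [mul_assoc, mem_subgroupOf] using hn)⟩
      have := (isGeneralizedCharacter_one.intCast_smul 3).sub
        (isGenChar_indFun (A.subgroupOf S) isGeneralizedCharacter_one)
      show IsGeneralizedCharacter S fun s => if Z s then (0 : ℂ) else 3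
      convert this using 2 with s
      rw [if_congr (hS' s s.2) rfl rfl, Pi.sub_apply]
      split_ifs with e
      · have e1 := H33.indFun_normal_apply (A.subgroupOf S) (fun _ => 1) ⟨s, e⟩
        have e2 := H33.indFun_normal_apply (A.subgroupOf S) (fun _ => 1) 1
        rw [e1, ← e2, coe_one, H33.indFun_apply_one, ← relIndex, hi]
        simp
      · simp [H33.indFun_eq_zero_of_not_mem (A.subgroupOf S) _ (g := s) e])) (h2 1 (by simp))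
    (h2 a ha) zb fun p q => by
      obtain ⟨x, hx⟩ := H41.exists_isPPart p3 (p * a * p⁻¹ * (q * b * q⁻¹))
      obtain ⟨y, e, hc, ⟨j, hj⟩, -⟩ := id hx
      obtain ⟨k, -, hk⟩ := hS.exists_cj_le (isPGroup_zpowers (x := x) (k := j)
        (by rw [← hj, pow_orderOf_eq_one])) le_top
      by_cases h7 : k * x * k⁻¹ ∈ A
      · exact ⟨x, hx, k, h7⟩
      have h8 := h _ (hk (conj_mem_cj (mem_zpowers x))) h7 (k * (x * y) * k⁻¹) (by
        rw [conj_mul, conj_mul, mul_assoc x, ← hc.eq, mul_assoc])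
      rw [conj_pow, conj_eq_one_iff, e] at h8
      obtain ⟨c, hc⟩ := isConj_iff.1 (tri233 (by rw [conj_mul, ha]; simp)
        (by rw [conj_pow, hb3]; simp) h8)
      exact hc ▸ cj _ c (cj _ q zb)
  exact ⟨N, hN, h5, fun x hx => (hS' x hx.1).1 (h6 x hx.2)⟩

theorem hat2 {S A C : Subgroup G} (hS : IsSyl 3 S C)
    (hi : A.relIndex S = 3) (hf : ∀ x ∈ S, ∀ g ∈ C, g * x * g⁻¹ ∈ A → x ∈ A) {a b : G}
    (haC : a ∈ C) (hbC : b ∈ C) (ha : a * a = 1) (hb : b ∈ A) (hb3 : b ^ 3 = 1)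
    (h : ∀ x ∈ S, x ∉ A → ∀ g ∈ C, g * x = x * g → g ^ 3 = 1) :
    ∃ N : Subgroup G, N ≤ C ∧ C ≤ nr N ∧ (a ∈ N ∨ b ∈ N) ∧ S ⊓ N ≤ A := by
  obtain ⟨N, hN, h1, h2⟩ := hat2_top hS.subgroupOf_top (A := A.subgroupOf C)
    (by rwa [relIndex_subgroupOf hS.le])
    (fun x hx g e => hf x hx g g.2 e) (a := ⟨a, haC⟩) (b := ⟨b, hbC⟩) (Subtype.ext ha) hb
    (Subtype.ext hb3) fun x hx e g e' => Subtype.ext (h x hx e g g.2 (congrArg Subtype.val e'))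
  refine ⟨N.map C.subtype, map_subtype_le _, le_normalizer_map_subtype N,
    h1.imp (fun e => ⟨_, e, rfl⟩) fun e => ⟨_, e, rfl⟩, ?_⟩
  rintro _ ⟨hx, x, hx', rfl⟩
  exact h2 ⟨hx, hx'⟩

/-- coprime generation for a non-cyclic group of exponent three -/
theorem gen3 {A X L : Subgroup G} (hc : A ≤ cn A) (h3 : ∀ a ∈ A, a ^ 3 = 1) {x y : G} (hx : x ∈ A)
    (hy : y ∈ A) (x1 : x ≠ 1) (y1 : y ≠ 1) (h1 : y ≠ x) (h2 : y ≠ x⁻¹) (hn : A ≤ nr X)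
    (hX : (Nat.card X).Coprime 3) (h : ∀ a ∈ A, a ≠ 1 → X ⊓ Ce a ≤ L) : X ≤ L := by
  have : IsMulCommutative A := le_centralizer_iff_isMulCommutative.1 hc
  obtain ⟨n, hn'⟩ := IsPGroup.iff_card.1
    (isPGroup_iff_forall.2 fun a ha => ⟨1, h3 a ha⟩ : IsPGroup 3 A)
  refine H1.le_of_noncyclic_centralizer_le (fun hc => ?_) hn (hn' ▸ (hX.symm.pow_left n :)) L h
  obtain ⟨g, hg⟩ := hc.exists_generator
  have g3 : g ^ 3 = 1 := Subtype.ext (h3 g g.2)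
  rcases H52.L3.mem_zp3 g3 (hg ⟨x, hx⟩) with e | e | e <;>
    rcases H52.L3.mem_zp3 g3 (hg ⟨y, hy⟩) with e' | e' | e' <;>
    simp only [Subtype.ext_iff, coe_one, coe_inv] at e e' <;> simp_all

end General

/-- elements of the complement -/
def kk (i : ℕ) : MM := ⟨0, .mk i⟩

/-- `E₃ = ⟨e₁, e₂⟩` -/
def E3 : Subgroup MM where
  carrier := {m | m.k = 1 ∧ m.j.2.2 = 0}
  mul_mem' {a b} ha hb := ⟨by simp [ha.1, hb.1], by simp [ha.1, ha.2, hb.2]⟩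
  one_mem' := ⟨rfl, rfl⟩
  inv_mem' {a} ha := ⟨by simp [ha.1], by simp [ha.1, ha.2]⟩

/-- the vectors of trace zero -/
def A0 : Subgroup MM where
  carrier := {m | m.k = 1 ∧ m.j.1 + m.j.2.1 + m.j.2.2 = 0}
  mul_mem' {a b} ha hb := ⟨by simp [ha.1, hb.1], by
    simp only [SD.mul_j, ha.1, one_smul, Prod.fst_add, Prod.snd_add]
    linear_combination ha.2 + hb.2⟩
  one_mem' := ⟨rfl, rfl⟩
  inv_mem' {a} ha := ⟨by simp [ha.1], by
    simp only [SD.inv_j, ha.1, inv_one, one_smul, Prod.fst_neg, Prod.snd_neg]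
    linear_combination -ha.2⟩

theorem E3_idx : E3.relIndex SD.JJ = 3 := by
  have h1 : Nat.card E3 = 9 := by
    rw [Nat.card_congr (β := ZMod 3 × ZMod 3) ⟨fun m => (m.1.j.1, m.1.j.2.1),
      fun p => ⟨⟨(p.1, p.2, 0), 1⟩, rfl, rfl⟩, fun m => Subtype.ext
        (SD.ext (Prod.ext rfl (Prod.ext rfl m.2.2.symm)) m.2.1.symm), fun _ => rfl⟩]
    simp
  have := relIndex_mul_card (X := E3) (Y := SD.JJ) fun _ h => h.1
  rw [h1, card_JJ] at this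
  omega

/-- `3² : D₈` inside the model -/
def mu : N72 →* MM := MonoidHom.mk' (fun x => ⟨(x.v.1, x.v.2, 0), match x.q with
  | .r i => .mk 9 ^ i.val
  | .sr i => .mk 1 * .mk 9 ^ i.val⟩) (by decide +kernel)

/-- The hypothesis of the theorem. -/
structure L0 {G : Type*} [Group G] (φ : MM →* G) : Prop where
  inj : Function.Injective φ
  nor : nr (JI φ) = φ.range
  cor : ∀ m : MM, m.k = 1 → m ≠ 1 → opp 3 (Ce (φ m)) = ⊥

namespace L0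
variable {G : Type u} [Group G] [Finite G] {φ : MM →* G} (h : L0 φ) {A X : Subgroup G} {g : G}
include h

omit [Finite G] in
theorem ea_eq (h0 : A ≤ φ.range) (h1 : A ≤ cn A) (h2 : ∀ a ∈ A, a ^ 3 = 1)
    (h3 : 27 ≤ Nat.card A) : A = JI φ := by
  obtain ⟨B, hB⟩ := Sylow.exists_subgroup_card_pow_prime_of_le_card (n := 3) Nat.prime_three
    (isPGroup_iff_forall.2 fun a ha => ⟨1, h2 a ha⟩ : IsPGroup 3 A) h3
  have h4 := map_subtype_le B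
  have h5 : ((B.map A.subtype).comap φ).map φ = _ := map_comap_eq_self (h4.trans h0)
  rw [wk.eq_JJ (A := (B.map A.subtype).comap φ) (fun a ha b hb => h.inj (by
    rw [map_mul, map_mul]; exact h1 (h4 ha) _ (h4 hb))) (fun a ha => h.inj (by
    rw [map_pow, h2 _ (h4 ha), map_one])) (by
    rw [← card_map_of_injective h.inj, h5, card_map_of_injective A.subtype_injective, hB]; rfl)] at h5
  refine le_antisymm (fun x hx => ?_) (h5.le.trans h4)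
  obtain ⟨m, rfl⟩ := h0 hx
  refine ⟨m, wk.faith _ fun j => ?_, rfl⟩
  have := congrArg SD.j (h.inj (a₁ := ⟨j, 1⟩ * m) (a₂ := m * ⟨j, 1⟩) (by
    rw [map_mul, map_mul]; exact h1 hx _ (h4 (h5.le ⟨_, rfl, rfl⟩))))
  rw [SD.mul_j, SD.mul_j, one_smul, add_comm] at this
  exact (add_left_cancel this).symm

omit [Finite G] in
theorem card_J : Nat.card (JI φ) = 27 := by rw [card_map_of_injective h.inj, card_JJ]

omit [Finite G] in
theorem wc (hg : H98.cj g (JI φ) ≤ φ.range) : g ∈ φ.range := by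
  rw [← h.nor, ← cj_eq_self_iff]
  refine h.ea_eq hg ((cj_mono g JI_le_cn).trans (cj_centralizer g _).le) ?_
    (by rw [card_cj, h.card_J])
  rintro _ ⟨x, hx, rfl⟩
  rw [← map_pow, JI_cube hx, map_one]

theorem le_range (hA : IsPGroup 3 A) (hJ : JI φ ≤ A) : A ≤ φ.range := by
  by_contra hc
  obtain ⟨g, hg, h1⟩ := SetLike.exists_of_lt (lt_inf_normalizer hA
    (lt_of_le_of_ne (inf_le_left : A ⊓ φ.range ≤ A) fun e => hc (inf_eq_left.1 e)))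
  exact h1 ⟨hg.1, h.wc ((cj_le_of_le (le_inf hJ (map_le_range _ _)) hg.2).trans inf_le_right)⟩

theorem isSyl_J (hX : JI φ ≤ X) (h1 : ∀ m, φ m ∈ X → m.k ^ 3 = 1 → m.k = 1) :
    IsSyl 3 (JI φ) X := by
  refine ⟨hX, JI_isPGroup, fun Q hQ h2 h3 => le_antisymm (fun x hx => ?_) h2⟩
  obtain ⟨m, rfl⟩ := h.le_range hQ h2 hx
  obtain ⟨n, hn⟩ := isPGroup_iff_forall.1 hQ _ hx
  rw [← map_pow, ← φ.map_one, h.inj.eq_iff] at hn
  exact ⟨m, h1 m (h3 hx) (wk.cube (n := n) ((map_pow SD.π m _).symm.trans (congrArg SD.k hn))), rfl⟩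

theorem burn (hX : JI φ ≤ X) (h1 : ∀ m, φ m ∈ X → m.k = 1) :
    (∀ x ∈ X, ¬ 3 ∣ orderOf x → x ∈ opp 3 X) ∧ (opp 3 X = ⊥ → X ≤ JI φ) :=
  (H87.burnside_dec (h.isSyl_J hX fun m hm _ => h1 m hm) fun x hx => by
    obtain ⟨m, rfl⟩ := h.nor.le hx.2
    exact JI_le_cn ⟨m, h1 m hx.1, rfl⟩).imp_right fun e e' => e _ le_rfl (e'.le.trans bot_le)

theorem thompson (hA : IsPGroup 3 A) (hJ : JI φ ≤ A) : thompsonSubgroupOf 3 A = JI φ := by
  have hJ' : IsElementaryAbelian 3 (JI φ) :=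
    ⟨le_centralizer_iff_isMulCommutative.1 JI_le_cn, fun _ => JI_cube⟩
  have key : ∀ B ∈ H12.maxEA 3 A, B = JI φ := fun B hB =>
    h.ea_eq (hB.1.trans (h.le_range hA hJ)) (le_centralizer_iff_isMulCommutative.2 hB.2.1.1)
      hB.2.1.2 (h.card_J ▸ hB.2.2 _ hJ hJ')
  obtain ⟨B, hB⟩ := H12.exists_mem_maxEA (p := 3) A
  exact le_antisymm (H12.thompsonSubgroupOf_le_iff.2 fun B hB => (key B hB).le)
    (key B hB ▸ H12.le_thompsonSubgroupOf hB)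

/-- `C(a)` is a `3`-group. -/
theorem cen_a {j : MM} (hj : (cls j).val = 7) : IsPGroup 3 (Ce (φ j)) := by
  obtain ⟨hk, h1⟩ := cls_J j (by omega) (by omega)
  have h0 := JI_le_Ce (φ := φ) hk
  obtain ⟨T, hT, hJ⟩ := exists_isSyl_le JI_isPGroup h0
  obtain ⟨P, hP⟩ := hT.exists_sylow_map
  have h2 : thompsonSubgroupOf 3 (P : Subgroup (Ce (φ j))) = (JI φ).subgroupOf _ := by
    apply map_injective (Ce (φ j)).subtype_injective
    rw [H12.map_thompsonSubgroupOf _ _ (subtype_injective _), hP, h.thompson hT.isPGroup hJ,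
      map_subgroupOf_eq_of_le h0]
  have h3 := H7.hasNPC_of_centerThompson (p := 3) (by decide) P (H7.hasNPC_of_isPGroup (by
    rw [centerThompsonOf, h2, centralizer_subgroupOf h0,
      inf_eq_left.2 (fun x hx => JI_le_cn hx), ← subgroupOf_normalizer_eq h0, isPGroup_iff_forall]
    rintro ⟨x, hx⟩ hx'
    obtain ⟨m, rfl⟩ := h.nor.le hx'
    exact ⟨2, Subtype.ext (by
      rw [coe_pow, ← map_pow, a_cen j hj m ((map_mem_Ce h.inj).1 hx), map_one, coe_one])⟩))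
  have h4 := H36.index_pPrimeCore_of_hasNPC h3
  rw [opp_eq_bot_iff.1 (h.cor j hk h1), index_bot] at h4
  exact .of_card h4

theorem cen_a' {j : MM} (hj : (cls j).val = 7) : Ce (φ j) ≤ φ.range :=
  h.le_range (h.cen_a hj) (JI_le_Ce (cls_J j (by omega) (by omega)).1)

/-- `C(u) ≤ N(J)`. -/
theorem cen_u : Ce (φ (vc 1 1 0)) ≤ φ.range := by
  have hJ : JI φ ≤ Ce (φ (vc 1 1 0)) := JI_le_Ce rfl
  have hc := h.cor (vc 1 1 0) rfl (by decide)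
  have hm : ∀ m, φ m ∈ Ce (φ (vc 1 1 0)) → m.k = 1 ∨ m.k = .mk 8 := fun m hm =>
    (by decide +kernel : ∀ m : MM, m * vc 1 1 0 = vc 1 1 0 * m → m.k = 1 ∨ m.k = .mk 8) m
      ((map_mem_Ce h.inj).1 hm)
  have hS := h.isSyl_J hJ fun m e e' => (hm m e).resolve_right fun e => by
    rw [e] at e'; revert e'; decide
  have fus : ∀ x : MM, x.k = 1 → ∀ g ∈ Ce (φ (vc 1 1 0)), g * φ x * g⁻¹ ∈ JI φ → ∃ m,
      (m.k = 1 ∨ m.k = .mk 8) ∧ (φ m)⁻¹ * g ∈ Ce (φ x) ∧ g * φ x * g⁻¹ = φ (m * x * m⁻¹) :=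
    fun x hx g hg e => by
      obtain ⟨n, hn, h1⟩ := exists_nor_conj hS JI_le_cn ⟨x, hx, rfl⟩ hg e
      obtain ⟨m, rfl⟩ := h.nor.le hn.2
      refine ⟨m, hm m hn.1, h1, ?_⟩
      rw [map_mul, map_mul, map_inv]
      calc _ = φ m * ((φ m)⁻¹ * g * φ x * ((φ m)⁻¹ * g)⁻¹) * (φ m)⁻¹ := by group
        _ = _ := by rw [mem_Ce'.1 h1]
  generalize hX : Ce (φ (vc 1 1 0)) = X at hJ hc hm hS fus
  obtain ⟨N, h1, h2, h3, h4⟩ := hat2 hS (A := E3.map φ)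
    (by rw [relIndex_map_map_of_injective _ _ h.inj, E3_idx]) (by
      rintro _ ⟨x, hx, rfl⟩ g hg ⟨y, hy, e⟩
      obtain ⟨m, a, -, b⟩ := fus x hx g hg ⟨y, hy.1, e⟩
      exact ⟨x, ⟨hx, (by decide +kernel : ∀ x : MM, x.k = 1 → ∀ m : MM, m.k = 1 ∨ m.k = .mk 8 →
        (m * x * m⁻¹).j.2.2 = 0 → x.j.2.2 = 0) x hx m a (h.inj (e.trans b) ▸ hy.2)⟩, rfl⟩)
    (a := φ (kk 8)) (b := φ (vc 1 2 0)) (hX ▸ (map_mem_Ce h.inj).2 (by decide +kernel))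
    (hJ ⟨_, rfl, rfl⟩) (by rw [← map_mul, ← φ.map_one]; exact congrArg φ (by decide +kernel))
    ⟨_, ⟨rfl, rfl⟩, rfl⟩ (JI_cube ⟨_, rfl, rfl⟩) (by
      rintro _ ⟨x, hx, rfl⟩ h1 g hg e
      obtain ⟨i, hi⟩ := (by decide +kernel : ∀ x : MM, x.k = 1 → x.j.2.2 ≠ 0 →
        ∃ i < 3, (cls (x * vc 1 1 0 ^ i)).val = 7) x hx fun e => h1 ⟨x, ⟨hx, e⟩, rfl⟩
      have h2 : g ∈ Ce (φ (x * vc 1 1 0 ^ i)) := by
        rw [map_mul, map_pow]
        exact mem_Ce.2 (Commute.mul_right e (Commute.pow_right (mem_Ce.1 (hX ▸ hg)) i))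
      exact JI_cube (hS.le_of_le_normalizer' ((h.cen_a hi.2).to_le (zpowers_le.2 h2))
        (zpowers_le.2 hg) (zpowers_le.2 (h.nor.ge (h.cen_a' hi.2 h2))) (mem_zpowers g)))
  have h5 : ∀ m, φ m ∈ N ⊔ JI φ → m.k = 1 := fun m e => by
    refine (hm m (sup_le h1 hJ e)).resolve_right fun e' => ?_
    obtain ⟨n, hn, _, ⟨j, hj, rfl⟩, e⟩ := (mem_sup_right_norm (hJ.trans h2)).1 e
    have h6 : φ (m * j⁻¹ * (vc 0 0 1 * (m * j⁻¹)⁻¹ * (vc 0 0 1)⁻¹)) ∈ N := by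
      have : φ (m * j⁻¹) = n := by rw [map_mul, map_inv, e, mul_inv_cancel_right]
      rw [map_mul, map_mul _ _ (vc 0 0 1)⁻¹, map_mul _ (vc 0 0 1), map_inv, map_inv, this]
      exact N.mul_mem hn (conj_mem_of_mem_normalizer (h2 (hJ ⟨_, rfl, rfl⟩)) (N.inv_mem hn))
    obtain ⟨a, b⟩ := (by decide +kernel : ∀ m : MM, m.k = .mk 8 →
      (m * (vc 0 0 1 * m⁻¹ * (vc 0 0 1)⁻¹) : MM).k = 1 ∧
      (m * (vc 0 0 1 * m⁻¹ * (vc 0 0 1)⁻¹) : MM).j.2.2 ≠ 0) (m * j⁻¹) (by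
        simp [e', SD.mem_JJ.1 hj])
    obtain ⟨y, hy, e⟩ := h4 ⟨⟨_, a, rfl⟩, h6⟩
    exact b (h.inj e ▸ hy.2)
  have h6 : φ (vc 1 2 0) ∈ N := h3.resolve_left fun e => absurd (h5 _ (mem_sup_left e)) (by decide)
  obtain ⟨h7, h8⟩ := h.burn le_sup_right h5
  have h9 := h8 (eq_bot_iff.2 (hc ▸ le_opp ((opp_le _).trans (sup_le h1 hJ))
    (fun g hg => mem_normalizer_of_cj_le (by
      rintro _ ⟨x, hx, rfl⟩
      have ho := not_dvd_of_mem (coprime_card_opp _) hx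
      refine h7 _ (mem_sup_left (conj_mem_of_mem_normalizer (h2 hg) (mem_of_cube ho ?_)))
        (by rwa [MulEquiv.coe_toMonoidHom, MulEquiv.orderOf_eq])
      obtain ⟨n, hn, j, hj, rfl⟩ := (mem_sup_right_norm (hJ.trans h2)).1 (opp_le _ hx)
      have a := conj_mem_of_mem_normalizer (h2 (hJ hj)) hn
      have b := conj_mem_of_mem_normalizer (h2 (hJ hj)) a
      rw [show (n * j) ^ 3 = n * (j * n * j⁻¹) * (j * (j * n * j⁻¹) * j⁻¹) * j ^ 3 by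
        simp [pow_succ, mul_assoc], JI_cube hj, mul_one]
      exact N.mul_mem (N.mul_mem hn a) b)) (coprime_card_opp _)))
  have h10 : ∀ g ∈ X, ∃ m, φ m ∈ X ∧ (φ m)⁻¹ * g ∈ Ce (φ (vc 1 2 0)) ∧
      g * φ (vc 1 2 0) * g⁻¹ ∈ zpowers (φ (vc 1 2 0)) := fun g hg => by
    obtain ⟨m, a, b, c⟩ := fus _ rfl g hg (h9 (mem_sup_left (conj_mem_of_mem_normalizer (h2 hg) h6)))
    refine ⟨m, hX ▸ (map_mem_Ce h.inj).2 ((by decide +kernel : ∀ m : MM, m.k = 1 ∨ m.k = .mk 8 →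
      m * vc 1 1 0 = vc 1 1 0 * m) m a), b, ?_⟩
    rcases (by decide +kernel : ∀ m : MM, m.k = 1 ∨ m.k = .mk 8 → m * vc 1 2 0 * m⁻¹ = vc 1 2 0 ∨
      m * vc 1 2 0 * m⁻¹ = (vc 1 2 0)⁻¹) m a with e | e <;> rw [c, e]
    exacts [mem_zpowers _, map_inv φ _ ▸ inv_mem (mem_zpowers _)]
  have h11 := (h.burn (X := X ⊓ Ce (φ (vc 1 2 0))) (le_inf hJ (JI_le_Ce rfl)) fun m e =>
    (by decide +kernel : ∀ m : MM, m.k = 1 ∨ m.k = .mk 8 → m * vc 1 2 0 = vc 1 2 0 * m →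
      m.k = 1) m (hm m e.1) ((map_mem_Ce h.inj).1 e.2)).2 (eq_bot_iff.2 (hc ▸ le_opp
        ((opp_le _).trans inf_le_left) (le_trans (le_normalizer_inf le_normalizer (by
          rw [Ce, ← centralizer_closure, ← zpowers_eq_closure]
          exact le_normalizer_centralizer fun g hg => mem_Nz.2 (h10 g hg).choose_spec.2.2))
          (normalizer_le_normalizer_opp _)) (coprime_card_opp _)))
  intro g hg
  obtain ⟨m, a, b, -⟩ := h10 g hg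
  simpa using mul_mem (⟨m, rfl⟩ : φ m ∈ φ.range)
    (map_le_range _ _ (h11 ⟨X.mul_mem (X.inv_mem a) hg, b⟩))

theorem cen_au {j : MM} (hk : j.k = 1) (hj : 6 ≤ (cls j).val) : Ce (φ j) ≤ φ.range := by
  rcases (by decide +kernel : ∀ j : MM, j.k = 1 → 6 ≤ (cls j).val → (cls j).val = 7 ∨
    ∃ m : MM, m * vc 1 1 0 * m⁻¹ = j) j hk hj with e | ⟨m, rfl⟩
  · exact h.cen_a' e
  · rw [map_mul, map_mul, map_inv, ← cj_Ce]
    exact cj_le_of_le_of_mem h.cen_u ⟨m, rfl⟩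

theorem comm_of {j m : MM} (hX : (Nat.card X).Coprime 3) (hk : j.k = 1) (hj : φ j ∈ nr X)
    (hm : φ m ∈ X) : j * m = m * j := by
  have h1 : φ (j * m * j⁻¹ * m⁻¹) ∈ X := by
    simp only [map_mul, map_inv]
    exact X.mul_mem (conj_mem_of_mem_normalizer hj hm) (X.inv_mem hm)
  have h2 := mem_of_cube (Y := ⊥) (not_dvd_of_mem hX h1)
    (JI_cube ⟨_, by simp [SD.mem_JJ, hk], rfl⟩)
  rwa [mem_bot, map_eq_one_iff φ h.inj, mul_inv_eq_one, mul_inv_eq_iff_eq_mul] at h2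

theorem loc : Loc φ := by
  refine ⟨h.inj, h.nor, fun e => ?_, fun K h1 h2 => ?_⟩
  · obtain ⟨S, hS, h1⟩ := exists_isSyl_le (JI_isPGroup (φ := φ)) le_top
    exact hS.not_dvd_relIndex (relIndex_top_right S ▸
      e.trans (index_dvd_of_le (h.le_range hS.isPGroup h1)))
  have h3 : JI φ ≤ nr K := fun j hj => mem_normalizer_of_cj_le (by
    rintro _ ⟨k, hk, rfl⟩; exact h2 j hj k hk)
  have h4 : A0.map φ ≤ JI φ := map_mono fun _ e => e.1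
  refine eq_bot_iff.2 (gen3 (h4.trans (JI_le_cn.trans (centralizer_anti h4)))
    (fun a ha => JI_cube (h4 ha)) (x := φ (vc 1 1 1)) (y := φ (vc 1 2 0)) ⟨_, ⟨rfl, rfl⟩, rfl⟩
    ⟨_, ⟨rfl, rfl⟩, rfl⟩ ?_ ?_ ?_ ?_ (h4.trans h3) h1 ?_)
  · rw [Ne, map_eq_one_iff φ h.inj]; decide
  · rw [Ne, map_eq_one_iff φ h.inj]; decide
  · rw [Ne, h.inj.eq_iff]; decide
  · rw [Ne, ← map_inv, h.inj.eq_iff]; decide +kernel
  rintro _ ⟨a, ha, rfl⟩ a1 r hr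
  obtain ⟨m, rfl⟩ := h.cen_au ha.1 ((by decide +kernel : ∀ a : MM, a.k = 1 →
    a.j.1 + a.j.2.1 + a.j.2.2 = 0 → a ≠ 1 → 6 ≤ (cls a).val) a ha.1 ha.2
    fun e => a1 (e ▸ φ.map_one)) hr.2
  refine mem_of_cube (not_dvd_of_mem h1 hr.1) (JI_cube ⟨m, wk.faith _ fun j => ?_, rfl⟩)
  have := congrArg SD.j (h.comm_of (j := ⟨j, 1⟩) h1 rfl (h3 ⟨_, rfl, rfl⟩) hr.1)
  rw [SD.mul_j, SD.mul_j, one_smul, add_comm] at this
  exact (add_left_cancel this).symm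

omit [Finite G] in
theorem mem_Z {m : MM} : φ m ∈ zpowers (φ (vc 0 0 1)) ↔
    m = 1 ∨ m = vc 0 0 1 ∨ m = (vc 0 0 1)⁻¹ := by
  rw [← MonoidHom.map_zpowers, mem_map_iff_mem h.inj]
  refine ⟨H52.L3.mem_zp3 (by decide +kernel), ?_⟩
  rintro (rfl | rfl | rfl)
  exacts [one_mem _, mem_zpowers _, inv_mem (mem_zpowers _)]

theorem mem_N {m : MM} : φ m ∈ Nz (φ (vc 0 0 1)) ↔
    m * vc 0 0 1 * m⁻¹ = vc 0 0 1 ∨ m * vc 0 0 1 * m⁻¹ = (vc 0 0 1)⁻¹ := by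
  rw [mem_Nz, ← map_inv, ← map_mul, ← map_mul, h.mem_Z, conj_eq_one_iff]
  exact or_iff_right (by decide)

/-- The alternative for `N(⟨e₃⟩)`. -/
theorem cases_e : Ce (φ (vc 0 0 1)) ≤ φ.range ∨ ∃ π : Nz (φ (vc 0 0 1)) →* Equiv.Perm (Fin 6),
    Function.Surjective π ∧ ∀ n, π n = 1 ↔ (n : G) ∈ zpowers (φ (vc 0 0 1)) := by
  have hJ : JI φ ≤ Nz (φ (vc 0 0 1)) := (JI_le_Ce rfl).trans Ce_le_nr
  have hZ : zpowers (φ (vc 0 0 1)) ≤ JI φ := zpowers_le.2 ⟨_, rfl, rfl⟩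
  have hμ : ∀ x, φ.comp mu x ∈ Nz (φ (vc 0 0 1)) := fun x =>
    h.mem_N.2 (by revert x; decide +kernel)
  let f := QuotientGroup.mk' ((zpowers (φ (vc 0 0 1))).subgroupOf (Nz (φ (vc 0 0 1))))
  have hf : ∀ a b, f a = f b ↔ (a : G)⁻¹ * b ∈ zpowers (φ (vc 0 0 1)) := fun a b =>
    QuotientGroup.eq
  have hs : Function.Surjective f := QuotientGroup.mk'_surjective _
  obtain ⟨P, hP⟩ := isSyl_top_iff.1 (map_top_of_surjective f hs ▸ (h.isSyl_J hJ fun m hm =>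
    (by decide +kernel : ∀ m : MM, (m * vc 0 0 1 * m⁻¹ = vc 0 0 1 ∨
      m * vc 0 0 1 * m⁻¹ = (vc 0 0 1)⁻¹) → m.k ^ 3 = 1 → m.k = 1) m
      (h.mem_N.1 hm)).subgroupOf_top.map f)
  have h1 : ∀ n, f n ∈ P.toSubgroup ↔ (n : G) ∈ JI φ := fun n => by
    rw [hP]
    exact ⟨fun ⟨a, ha, e⟩ => by simpa using mul_mem (mem_subgroupOf.1 ha) (hZ ((hf _ _).1 e)),
      fun e => ⟨n, e, rfl⟩⟩
  have h2 : ∀ n, f n ∈ nr P.toSubgroup ↔ (n : G) ∈ φ.range := fun n => by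
    rw [← h.nor]
    refine ⟨fun e => mem_normalizer_of_cj_le ?_, fun e => mem_normalizer_of_cj_le ?_⟩
    · rintro _ ⟨x, hx, rfl⟩
      have := conj_mem_of_mem_normalizer e ((h1 ⟨x, hJ hx⟩).2 hx)
      rwa [← map_inv, ← map_mul, ← map_mul, h1] at this
    · rintro _ ⟨x, hx, rfl⟩
      obtain ⟨x, rfl⟩ := hs x
      show f n * f x * (f n)⁻¹ ∈ _
      rw [← map_inv, ← map_mul, ← map_mul, h1]
      exact conj_mem_of_mem_normalizer e ((h1 x).1 hx)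
  have h9 : Nat.card P.toSubgroup = 9 := by
    have := relIndex_mul_card hZ
    rw [h.card_J, Nat.card_zpowers, orderOf_eq_prime (JI_cube ⟨_, rfl, rfl⟩)
      (by rw [Ne, map_eq_one_iff φ h.inj]; decide)] at this
    rw [hP, ← relIndex_ker, QuotientGroup.ker_mk', relIndex_subgroupOf hJ]
    omega
  have key : Emb72 P.toSubgroup (f.comp ((φ.comp mu).codRestrict _ hμ)) := by
    refine ⟨syl3_of_sylow P (fun a ha b hb => ?_) (fun a ha => ?_) fun a ha a1 g hg => ?_,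
      (injective_iff_map_eq_one _).2 fun x e => ?_, fun g => ?_, fun x => ?_⟩
    · obtain ⟨a, rfl⟩ := hs a
      obtain ⟨b, rfl⟩ := hs b
      rw [← map_mul, ← map_mul]
      exact congrArg f (Subtype.ext (JI_le_cn ((h1 b).1 hb) _ ((h1 a).1 ha)))
    · obtain ⟨a, rfl⟩ := hs a
      rw [← map_pow, show a ^ 3 = 1 from Subtype.ext (JI_cube ((h1 a).1 ha)), map_one]
    · obtain ⟨⟨a, ha'⟩, rfl⟩ := hs a
      obtain ⟨g, rfl⟩ := hs g
      obtain ⟨a, hk, rfl⟩ := (h1 _).1 ha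
      obtain ⟨b, b1, b2, b3⟩ := (by decide +kernel : ∀ a : MM, a.k = 1 →
        ¬ (a = 1 ∨ a = vc 0 0 1 ∨ a = (vc 0 0 1)⁻¹) → ∃ b : MM, b.k = 1 ∧ 6 ≤ (cls b).val ∧
        (a⁻¹ * b = 1 ∨ a⁻¹ * b = vc 0 0 1 ∨ a⁻¹ * b = (vc 0 0 1)⁻¹)) a hk
        fun e => a1 ((QuotientGroup.eq_one_iff _).2 (h.mem_Z.2 e))
      have e : f ⟨φ a, ha'⟩ = f ⟨φ b, hJ ⟨b, b1, rfl⟩⟩ :=
        (hf _ _).2 (by rw [← map_inv, ← map_mul]; exact h.mem_Z.2 b3)
      refine (h2 g).2 (mem_range_of_conj wk h.loc le_rfl b1 (h.cen_au b1 b2) ?_)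
      rwa [← mem_Ce'.1 hg, e, ← map_inv, ← map_mul, ← map_mul, h1] at ha
    · exact (by decide +kernel : ∀ x, (mu x = 1 ∨ mu x = vc 0 0 1 ∨ mu x = (vc 0 0 1)⁻¹) → x = 1) x
        (h.mem_Z.1 (mem_subgroupOf.1 ((QuotientGroup.eq_one_iff
          ((φ.comp mu).codRestrict _ hμ x)).1 e)))
    · obtain ⟨g, rfl⟩ := hs g
      refine (h2 g).trans ⟨fun ⟨m, e⟩ => ?_, fun ⟨x, e⟩ => ?_⟩
      · obtain ⟨x, hx⟩ := (by decide +kernel : ∀ m : MM, (m * vc 0 0 1 * m⁻¹ = vc 0 0 1 ∨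
          m * vc 0 0 1 * m⁻¹ = (vc 0 0 1)⁻¹) → ∃ x, (mu x)⁻¹ * m = 1 ∨ (mu x)⁻¹ * m = vc 0 0 1 ∨
          (mu x)⁻¹ * m = (vc 0 0 1)⁻¹) m (h.mem_N.1 (e ▸ g.2))
        refine ⟨x, (hf _ _).2 ?_⟩
        rw [← e]
        simpa using h.mem_Z.2 hx
      · simpa using mul_mem (⟨mu x, rfl⟩ : φ (mu x) ∈ φ.range)
          (map_le_range _ _ (hZ ((hf _ _).1 e)))
    · refine (h1 _).trans ((mem_map_iff_mem h.inj).trans ?_)
      exact (by decide +kernel : ∀ x, (mu x).k = 1 ↔ x.q = 1) x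
  refine (key.normal_or_sym h9).imp (fun e g hg => ?_) fun ⟨e⟩ => ⟨e.toMonoidHom.comp f,
    e.surjective.comp hs, fun n => e.map_eq_one_iff.trans (QuotientGroup.eq_one_iff _)⟩
  exact (h2 ⟨g, Ce_le_nr hg⟩).1 ((normalizer_eq_top_iff.2 e).ge (mem_top _))

theorem eq_top (he : Ce (φ (vc 0 0 1)) ≤ φ.range) : φ.range = ⊤ := by
  have h1 : ∀ j : MM, j.k = 1 → j ≠ 1 → Ce (φ j) ≤ φ.range := fun j hk j1 => by
    rcases (by decide +kernel : ∀ j : MM, j.k = 1 → j ≠ 1 → 6 ≤ (cls j).val ∨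
      ∃ m : MM, m * vc 0 0 1 * m⁻¹ = j) j hk j1 with e | ⟨m, rfl⟩
    · exact h.cen_au hk e
    · rw [map_mul, map_mul, map_inv, ← cj_Ce]
      exact cj_le_of_le_of_mem he ⟨m, rfl⟩
  exact HI.eq_top ⟨h.inj, fun m m' g a b e => mem_range_of_conj wk h.loc le_rfl a.1 (h1 m a.1 a.2)
    ⟨m', b.1, e.symm⟩, fun j a b g e => h1 j a b (mem_Ce.2 e)⟩

end L0

end H28.A9
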