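import Cfsg.Agent.H28.A9X
import Cfsg.Agent.H42.L3Kit

/-! The normaliser in `A₉` of three disjoint `3`-cycles is the model `3³ : S₄`. -/

set_option autoImplicit false
set_option maxRecDepth 100000
set_option synthInstance.maxSize 4000
open Cfsg Subgroup H44 H44.K24 H56.L3 H42.L3 H98

namespace H28.A9

theorem wk : WK K24 := ⟨inferInstance, by rw [K24.card_eq]; decide, by decide +kernel,
  by decide +kernel⟩

/-- three points forming a block -/
def Blk (x y z : Fin 9) : Prop :=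
  x.val / 3 = y.val / 3 ∧ x.val / 3 = z.val / 3 ∧ x ≠ y ∧ x ≠ z ∧ y ≠ z

instance (x y z : Fin 9) : Decidable (Blk x y z) := by unfold Blk; infer_instance

def Val (k : K24) (j : J3) (x0 x1 x2 x3 x4 x5 x6 x7 x8 : Fin 9) : Prop :=
  tr9 j (pt k 1) = x1 ∧ tr9 j (pt k 4) = x4 ∧ tr9 j (pt k 7) = x7 ∧ tr9 j (pt k 0) = x0 ∧
    tr9 j (pt k 3) = x3 ∧ tr9 j (pt k 6) = x6 ∧ tr9 j (pt k 2) = x2 ∧ tr9 j (pt k 5) = x5 ∧
    tr9 j (pt k 8) = x8

instance (k : K24) (j : J3) (x0 x1 x2 x3 x4 x5 x6 x7 x8 : Fin 9) :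
    Decidable (Val k j x0 x1 x2 x3 x4 x5 x6 x7 x8) := by unfold Val; infer_instance

theorem blk_all : ∀ x0 x1 x2, Blk x0 x1 x2 → ∀ x3 x4 x5, Blk x3 x4 x5 → x0.val / 3 ≠ x3.val / 3 →
    ∀ x6 x7 x8, Blk x6 x7 x8 → x0.val / 3 ≠ x6.val / 3 → x3.val / 3 ≠ x6.val / 3 →
    ∃ k, (pt k 0).val / 3 = x0.val / 3 ∧ (pt k 3).val / 3 = x3.val / 3 ∧
      ∃ j, Val k j x0 x1 x2 x3 x4 x5 x6 x7 x8 ∨ Val k j x1 x0 x2 x3 x4 x5 x6 x7 x8 := by
  decide +kernel

theorem psi_even (m : MM) : psi m ∈ alternatingGroup (Fin 9) := by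
  rw [← evw_word m]
  refine evw_mem (S := (alternatingGroup (Fin 9)).comap psi) (fun i => ?_) _
  have h0 : psi (gen 0) = Equiv.swap (0 : Fin 9) 1 * Equiv.swap 1 2 :=
    Equiv.ext (by simp only [psi_apply]; decide +kernel)
  have h1 : psi (gen 1) = Equiv.swap (0 : Fin 9) 3 * Equiv.swap 3 6 *
      (Equiv.swap (1 : Fin 9) 4 * Equiv.swap 4 7) * (Equiv.swap (2 : Fin 9) 5 * Equiv.swap 5 8) :=
    Equiv.ext (by simp only [psi_apply]; decide +kernel)
  have h2 : psi (gen 2) = Equiv.swap (0 : Fin 9) 1 * Equiv.swap 3 4 :=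
    Equiv.ext (by simp only [psi_apply]; decide +kernel)
  have h3 : psi (gen 3) = Equiv.swap (0 : Fin 9) 3 * Equiv.swap 1 4 * Equiv.swap 2 5 *
      Equiv.swap 6 7 := Equiv.ext (by simp only [psi_apply]; decide +kernel)
  rw [mem_comap, Equiv.Perm.mem_alternatingGroup]
  match i with
  | 0 => rw [h0]; simp
  | 1 => rw [h1]; simp
  | 2 => rw [h2]; simp
  | n + 3 => rw [show gen (n + 3) = gen 3 from rfl, h3]; simp

theorem psi_J : Subgroup.closure {Equiv.swap (0 : Fin 9) 1 * Equiv.swap 1 2,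
    Equiv.swap (3 : Fin 9) 4 * Equiv.swap 4 5, Equiv.swap (6 : Fin 9) 7 * Equiv.swap 7 8} =
    JI psi := by
  have h0 : psi (vc 1 0 0) = Equiv.swap (0 : Fin 9) 1 * Equiv.swap 1 2 :=
    Equiv.ext (by simp only [psi_apply]; decide +kernel)
  have h1 : psi (vc 0 1 0) = Equiv.swap (3 : Fin 9) 4 * Equiv.swap 4 5 :=
    Equiv.ext (by simp only [psi_apply]; decide +kernel)
  have h2 : psi (vc 0 0 1) = Equiv.swap (6 : Fin 9) 7 * Equiv.swap 7 8 :=
    Equiv.ext (by simp only [psi_apply]; decide +kernel)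
  rw [← h0, ← h1, ← h2]
  refine le_antisymm ((closure_le _).2 ?_) ?_
  · rintro _ (rfl | rfl | rfl) <;> exact ⟨_, rfl, rfl⟩
  · rintro _ ⟨m, hm, rfl⟩
    rw [(by decide +kernel : ∀ m : MM, m.k = 1 →
      m = vc 1 0 0 ^ m.j.1.val * vc 0 1 0 ^ m.j.2.1.val * vc 0 0 1 ^ m.j.2.2.val) m hm]
    simp only [map_mul, map_pow]
    exact mul_mem (mul_mem (pow_mem (Subgroup.subset_closure (by simp)) _)
      (pow_mem (Subgroup.subset_closure (by simp)) _)) (pow_mem (Subgroup.subset_closure (by simp)) _)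

theorem range_le_nr {G : Type*} [Group G] (φ : MM →* G) : φ.range ≤ nr (JI φ) := by
  rintro _ ⟨m, rfl⟩
  exact le_normalizer_map φ (by
    rw [normalizer_eq_top_iff.2 inferInstance, ← MonoidHom.range_eq_map]; exact ⟨m, rfl⟩)

theorem psi_range : alternatingGroup (Fin 9) ⊓ nr (JI psi) = psi.range := by
  refine le_antisymm (fun g hg => ?_) (le_inf (by rintro _ ⟨m, rfl⟩; exact psi_even m)
    (range_le_nr _))
  have h1 : ∀ j : J3, ∃ j' : J3, ∀ p, g (tr9 j p) = tr9 j' (g p) := fun j => by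
    obtain ⟨m, hm, e⟩ := conj_mem_of_mem_normalizer hg.2 (show psi ⟨j, 1⟩ ∈ JI psi from ⟨_, rfl, rfl⟩)
    refine ⟨m.j, fun p => ?_⟩
    have := congrArg (fun f : Equiv.Perm (Fin 9) => f (g p)) e
    have h1 : ∀ p, pt 1 p = p := by decide +kernel
    simpa [psi_apply, SD.mem_JJ.1 hm, h1] using this.symm
  have h2 : ∀ p q : Fin 9, p.val / 3 = q.val / 3 ↔ ∃ j, tr9 j p = q := by decide +kernel
  have h3 : ∀ p q : Fin 9, p.val / 3 = q.val / 3 → (g p).val / 3 = (g q).val / 3 := fun p q e => by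
    obtain ⟨j, rfl⟩ := (h2 p q).1 e
    obtain ⟨j', e⟩ := h1 j
    exact (h2 _ _).2 ⟨j', (e p).symm⟩
  have h4 : ∀ p q r : Fin 9, Blk p q r → Blk (g p) (g q) (g r) := fun p q r ⟨a, b, c, d, e⟩ =>
    ⟨h3 _ _ a, h3 _ _ b, g.injective.ne c, g.injective.ne d, g.injective.ne e⟩
  have h5 : ∀ p q r s : Fin 9, Blk p q r → s ≠ p → s ≠ q → s ≠ r →
      (g p).val / 3 ≠ (g s).val / 3 := fun p q r s h a b c e =>
    ((by decide +kernel : ∀ p q r : Fin 9, Blk p q r → ∀ s : Fin 9, p.val / 3 = s.val / 3 →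
      s = p ∨ s = q ∨ s = r) _ _ _ (h4 p q r h) _ e).elim (g.injective.ne a)
      fun e => e.elim (g.injective.ne b) (g.injective.ne c)
  obtain ⟨k, -, -, j, h | h⟩ := blk_all _ _ _ (h4 0 1 2 (by decide)) _ _ _ (h4 3 4 5 (by decide))
    (h5 0 1 2 3 (by decide) (by decide) (by decide) (by decide)) _ _ _ (h4 6 7 8 (by decide))
    (h5 0 1 2 6 (by decide) (by decide) (by decide) (by decide))
    (h5 3 4 5 6 (by decide) (by decide) (by decide) (by decide))
  · obtain ⟨a1, a2, a3, a4, a5, a6, a7, a8, a9⟩ := h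
    refine ⟨⟨j, k⟩, Equiv.ext fun p => ?_⟩
    fin_cases p <;> assumption
  · obtain ⟨a1, a2, a3, a4, a5, a6, a7, a8, a9⟩ := h
    have h6 : psi ⟨j, k⟩ = g * Equiv.swap 0 1 := Equiv.ext fun p => by
      fin_cases p <;> assumption
    have h7 := psi_even ⟨j, k⟩
    rw [h6, Equiv.Perm.mem_alternatingGroup, map_mul, Equiv.Perm.mem_alternatingGroup.1 hg.1] at h7
    simp at h7

theorem exists_phi9 {G : Type*} [Group G] [Finite G] {J : Subgroup G} (h1 : J ≤ cn J)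
    (h2 : ∀ a ∈ J, a ^ 3 = 1) (h3 : Nat.card J = 27)
    (e : nr J ≃* ↥(alternatingGroup (Fin 9) ⊓ nr (JI psi))) :
    ∃ φ : MM →* G, Function.Injective φ ∧ φ.range = nr J ∧ JI φ = J := by
  let e' := (MonoidHom.ofInjective psi_inj).trans ((MulEquiv.subgroupCongr psi_range.symm).trans e.symm)
  have hi : Function.Injective ((nr J).subtype.comp e'.toMonoidHom) :=
    (nr J).subtype_injective.comp e'.injective
  have hr : ((nr J).subtype.comp e'.toMonoidHom).range = nr J := by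
    rw [MonoidHom.range_comp, MonoidHom.range_eq_top.2 e'.surjective, ← MonoidHom.range_eq_map,
      Subgroup.range_subtype]
  refine ⟨_, hi, hr, ?_⟩
  generalize (nr J).subtype.comp e'.toMonoidHom = φ at hi hr
  have h4 : (J.comap φ).map φ = J := map_comap_eq_self (hr ▸ le_normalizer)
  rw [← h4, JI, wk.eq_JJ (A := J.comap φ) (fun a ha b hb => hi (by
    rw [map_mul, map_mul]; exact h1 ha _ hb)) (fun a ha => hi (by
    rw [map_pow, h2 _ ha, map_one])) (by rw [← card_map_of_injective hi, h4, h3])]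

end H28.A9
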