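import Cfsg.Agent.H44.A9N

/-! Special classes with the weak trivial intersection property; a group containing `3³ : S₄`
and the centralisers of the non-identity elements of `3³`. -/

set_option autoImplicit false
set_option maxRecDepth 100000
set_option synthInstance.maxSize 4000
set_option linter.style.haveILetI false
open Cfsg H28 H33 H44 H44.Emb
open scoped ComplexConjugate

namespace H28.A9

section
variable {M G : Type*} [Group M] [Group G] {φ : M →* G} {A : M → Prop}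

/-- elements of `A` are fused only by elements of the image -/
def WTI (φ : M →* G) (A : M → Prop) : Prop :=
  ∀ m m' g, A m → A m' → g * φ m * g⁻¹ = φ m' → g ∈ φ.range

variable [Fintype G]

theorem indh_apply' (hφ : Function.Injective φ) (hA : WTI φ A) {θ : M → ℂ}
    (hθ : IsClassFunction M θ) (hs : ∀ m, θ m ≠ 0 → A m) {m : M} (hm : A m) :
    indh φ θ (φ m) = θ m := by
  have := H31.indFun_apply_of_conj_vanish φ.range (ψ := fun h => θ (Function.invFun φ h))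
    (by simp only [invFun_eq_symm hφ]; exact hθ.comp (MonoidHom.ofInjective hφ).symm.toMonoidHom)
    ⟨φ m, m, rfl⟩ fun g hg y hy => by
      by_contra h0
      exact hg (hA m _ g hm (hs _ h0) (hy.trans (Function.invFun_eq y.2).symm))
  rw [indh, this, Function.leftInverse_invFun hφ]

theorem conv_indh' (hφ : Function.Injective φ) (hA : WTI φ A) {J : Subgroup M}
    (hJ : ∀ j ∈ J, j ≠ 1 → A j) {f f' : M → ℂ} (hf : IsClassFunction M f)
    (hf' : IsClassFunction M f') (hs : ∀ m, f m ≠ 0 → m ∈ J ∧ m ≠ 1)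
    (hs' : ∀ m, f' m ≠ 0 → m ∈ J ∧ m ≠ 1) {κ : Type*} [Fintype κ] {ι : κ → M}
    (hι : Function.Injective ι) (hκ : ∀ j ∈ J, j ∈ Set.range ι) (hκ' : ∀ k, ι k ∈ J) {z : M}
    (hz : z ∈ J) (ht : ∀ x j j', f j ≠ 0 → f' j' ≠ 0 → IsConj x (φ j) →
      IsConj (x⁻¹ * φ z) (φ j') → ∃ m ∈ J, φ m = x) :
    ∑ x, indh φ f x * indh φ f' (x⁻¹ * φ z) = ∑ k, f (ι k) * f' ((ι k)⁻¹ * z) := by
  have key : ∀ {f : M → ℂ}, IsClassFunction M f → (∀ m, f m ≠ 0 → m ∈ J ∧ m ≠ 1) → ∀ m ∈ J,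
      indh φ f (φ m) = f m := fun {f} hf hs m hm => by
    by_cases h : m = 1
    · rw [h, map_one, indh_one hφ, show f 1 = 0 from by_contra fun e => (hs 1 e).2 rfl, mul_zero]
    · exact indh_apply' hφ hA hf (fun m e => hJ m (hs m e).1 (hs m e).2) (hJ m hm h)
  refine (Fintype.sum_of_injective (fun k => φ (ι k)) (hφ.comp hι) _ _ (fun x hx => ?_)
    fun k => ?_).symm
  · by_contra hc
    obtain ⟨h1, h2⟩ := mul_ne_zero_iff.1 hc
    obtain ⟨j, hj, hc1⟩ := indh_ne_zero h1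
    obtain ⟨j', hj', hc2⟩ := indh_ne_zero h2
    obtain ⟨m, hm, rfl⟩ := ht x j j' hj hj' hc1 hc2
    obtain ⟨k, rfl⟩ := hκ m hm
    exact hx ⟨k, rfl⟩
  · rw [← map_inv, ← map_mul, key hf hs _ (hκ' k), key hf' hs' _ (mul_mem (inv_mem (hκ' k)) hz)]

variable [Fintype M] {θ : ℕ → M → ℂ}

/-- `H44.Spec` with the weak property -/
structure WSpec (φ : M →* G) (A : M → Prop) (θ : ℕ → M → ℂ) : Prop where
  inj : Function.Injective φ
  wti : WTI φ A
  zero : θ 0 = fun _ => 1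
  gen : ∀ a, IsGeneralizedCharacter M (θ a)
  supp : ∀ a, a ≠ 0 → ∀ m, θ a m ≠ 0 → A m
  one : ¬ A 1

namespace WSpec
variable (h : WSpec φ A θ)
include h

omit [Fintype M] in
theorem th_gen (a : ℕ) : IsGeneralizedCharacter G (Th φ θ a) := by
  unfold Th; split_ifs
  exacts [isGeneralizedCharacter_one, indh_gen h.inj (h.gen a)]

omit [Fintype M] in
theorem th_apply (a : ℕ) {m : M} (hm : A m) : Th φ θ a (φ m) = θ a m := by
  unfold Th; split_ifs with e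
  · rw [e, h.zero]
  · exact indh_apply' h.inj h.wti (h.gen a).isClassFunction (h.supp a e) hm

omit [Fintype M] in
theorem cast_vec (χ : IrrCharacter G) (a : ℕ) : (vec φ θ χ a : ℂ) = classInner (Th φ θ a) χ := by
  obtain ⟨n, hn⟩ := (h.th_gen a).classInner_int χ.2.isGeneralizedCharacter
  simp [vec, hn]

theorem gram {a b : ℕ} (hb : b ≤ a) {n : ℤ} (hn : classInner (θ a) (θ b) = n) :
    ∑ χ, vec φ θ χ a * vec φ θ χ b = n := by
  have e : classInner (Th φ θ a) (Th φ θ b) = n := by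
    rw [← hn]
    by_cases ha : a = 0
    · obtain rfl : b = 0 := by omega
      simp [ha, Th, h.zero, classInner_one_one]
    · rw [Th, if_neg ha, inner_indh h.inj _ (h.th_gen b).isClassFunction, classInner, classInner]
      congr 1
      refine Finset.sum_congr rfl fun m _ => ?_
      by_cases h0 : θ a m = 0
      · rw [h0, zero_mul, zero_mul]
      · rw [h.th_apply b (h.supp a ha m h0)]
  rw [(h.th_gen a).isClassFunction.classInner_eq_sum_irr] at e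
  refine Int.cast_injective (α := ℂ) ?_
  rw [← e, Int.cast_sum]
  refine Finset.sum_congr rfl fun χ _ => ?_
  rw [Int.cast_mul, h.cast_vec, h.cast_vec, χ.2.isGeneralizedCharacter.classInner_comm (h.th_gen b)]

omit [Fintype M] in
theorem cast_lf (n : ℕ) (α : List ℤ) (χ : IrrCharacter G) :
    (lf α (col (vec φ θ) n χ) : ℂ) = classInner (cmb n α (Th φ θ)) χ := by
  simp [lf_col, cmb, classInner_sum_left, classInner_smul_left, h.cast_vec]

theorem cast_lf' (n : ℕ) {α : List ℤ} (h0 : α.getD 0 0 = 0) (χ : IrrCharacter G) :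
    (lf α (col (vec φ θ) n χ) : ℂ) = classInner (cmb n α θ) fun m => χ.1 (φ m) := by
  rw [h.cast_lf, Spec.cmb_th n h0, inner_indh h.inj _ χ.2.isClassFunction]

omit [Fintype M] in
theorem sum_lf_dg {n : ℕ} (hn : n ≠ 0) (α : List ℤ) :
    ∑ χ : IrrCharacter G, lf α (col (vec φ θ) n χ) * dg χ = α.getD 0 0 := by
  refine Int.cast_injective (α := ℂ) ?_
  simp only [Int.cast_sum, Int.cast_mul, cast_dg, h.cast_lf]
  rw [← (cmb_gen n α h.th_gen).isClassFunction.apply_eq_sum_irr, cmb_apply,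
    Finset.sum_eq_single_of_mem 0 (by simpa [Nat.pos_iff_ne_zero])]
  · simp [Th]
  · intro a _ ha
    have : θ a 1 = 0 := by_contra fun h0 => h.one (h.supp a ha 1 h0)
    rw [Th, if_neg ha, indh_one h.inj, this, mul_zero, mul_zero]

theorem dg_modEq (n : ℕ) {α : List ℤ} (h0 : α.getD 0 0 = 0) {q : ℤ} {ρ : M → ℂ}
    (hρ : IsGeneralizedCharacter M ρ) (he : cmb n α θ = regChar M - (q : ℂ) • ρ)
    (χ : IrrCharacter G) : q ∣ dg χ - lf α (col (vec φ θ) n χ) := by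
  obtain ⟨k, hk⟩ := hρ.classInner_int (χ.2.isGeneralizedCharacter.comp φ)
  refine ⟨k, Int.cast_injective (α := ℂ) ?_⟩
  rw [Int.cast_sub, h.cast_lf' n h0, he, classInner_sub_left, classInner_smul_left, hk,
    classInner_regChar_left, map_one, χ.2.isCharacter.conj_apply_one, cast_dg]
  push_cast; ring

theorem cubic {J : Subgroup M} (hA : ∀ j ∈ J, j ≠ 1 → A j) (n : ℕ) {α β γ : List ℤ}
    (hα : α.getD 0 0 = 0) (hβ : β.getD 0 0 = 0) (hγ : γ.getD 0 0 = 0)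
    (sα : ∀ m, cmb n α θ m ≠ 0 → m ∈ J ∧ m ≠ 1) (sβ : ∀ m, cmb n β θ m ≠ 0 → m ∈ J ∧ m ≠ 1)
    (sγ : ∀ m, cmb n γ θ m ≠ 0 → m ∈ J)
    (ht : ∀ z x j j', cmb n γ θ z ≠ 0 → cmb n α θ j ≠ 0 → cmb n β θ j' ≠ 0 → IsConj x (φ j) →
      IsConj (x⁻¹ * φ z) (φ j') → ∃ m ∈ J, φ m = x) {κ : Type*} [Fintype κ] {ι : κ → M}
    (hι : Function.Injective ι) (hκ : ∀ j ∈ J, j ∈ Set.range ι) (hκ' : ∀ k, ι k ∈ J) {N : ℤ}
    (hN : ∑ l, ∑ k, cmb n α θ (ι k) * cmb n β θ ((ι k)⁻¹ * ι l) * conj (cmb n γ θ (ι l)) = N) :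
    (Nat.card M : ℚ) * Nat.card G * ∑ χ : IrrCharacter G, (lf α (col (vec φ θ) n χ) : ℚ) *
      lf β (col (vec φ θ) n χ) * lf γ (col (vec φ θ) n χ) / dg χ = N := by
  have e1 : ∑ l, ∑ k, cmb n α θ (ι k) * cmb n β θ ((ι k)⁻¹ * ι l) * conj (cmb n γ θ (ι l)) =
      ∑ z, (∑ x, indh φ (cmb n α θ) x * indh φ (cmb n β θ) (x⁻¹ * φ z)) * conj (cmb n γ θ z) := by
    refine Fintype.sum_of_injective ι hι _ _ (fun z hz => ?_) fun l => ?_
    · rw [show cmb n γ θ z = 0 from by_contra fun h0 => hz (hκ z (sγ z h0)), map_zero, mul_zero]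
    · rw [← Finset.sum_mul]
      by_cases h0 : cmb n γ θ (ι l) = 0
      · simp [h0]
      · rw [conv_indh' h.inj h.wti hA (cmb_gen n α h.gen).isClassFunction
          (cmb_gen n β h.gen).isClassFunction sα sβ hι hκ hκ' (sγ _ h0) fun x j j' => ht _ x j j' h0]
  refine Rat.cast_injective (α := ℂ) ?_
  simp only [conv_eq (indh_cf _) (indh_cf _)] at e1
  simp only [← Spec.cmb_th n hα, ← Spec.cmb_th n hβ, ← h.cast_lf, Finset.mul_sum,
    Finset.sum_mul] at e1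
  rw [Finset.sum_comm (γ := M)] at e1
  push_cast
  rw [← hN, e1, Finset.mul_sum]
  refine Finset.sum_congr rfl fun χ _ => ?_
  have e2 := card_mul_classInner (fun m => χ.1 (φ m)) (cmb n γ θ)
  rw [classInner_comm_of_int (h.cast_lf' n hγ χ).symm] at e2
  simp only [cast_dg, div_mul_eq_mul_div, mul_assoc, ← mul_div_assoc, ← Finset.sum_div,
    ← Finset.mul_sum, ← e2]
  ring

omit [Fintype M] in
theorem sol_deg {n : ℕ} {s : List (List ℤ)} {x : List ℤ} (hs : Sol (vec φ θ) dg n s x)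
    (hn : n ≠ 0) (α : List ℤ) : (List.zipWith (fun c d => lf α c * d) s x).sum = α.getD 0 0 := by
  rw [hs.sum_eq _ (fun c z => by simp [lf_neg]) (fun z => by simp [lf_zero]), h.sum_lf_dg hn]

end WSpec

end

section tri
variable {G : Type*} [Group G]

theorem tri_t {u v : G} (hu : u ^ 3 = 1) (hv : v ^ 3 = 1) (huv : (u * v) ^ 3 = 1) :
    Commute (u⁻¹ * v) (u * (u⁻¹ * v) * u⁻¹) ∧ u * (u * (u⁻¹ * v) * u⁻¹) * u⁻¹ =
      (u⁻¹ * v * (u * (u⁻¹ * v) * u⁻¹))⁻¹ := by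
  have hu' : u⁻¹ = u * u := by rw [inv_eq_iff_mul_eq_one, ← mul_assoc, ← pow_three', hu]
  have hv' : v⁻¹ = v * v := by rw [inv_eq_iff_mul_eq_one, ← mul_assoc, ← pow_three', hv]
  have h1 : v * u * v = u⁻¹ * v⁻¹ * u⁻¹ := by
    rw [pow_three'] at huv
    calc v * u * v = u⁻¹ * (u * v * (u * v) * (u * v)) * v⁻¹ * u⁻¹ * u * v * v⁻¹ * u⁻¹ := by group
      _ = _ := by rw [huv]; group
  constructor
  · show u⁻¹ * v * (u * (u⁻¹ * v) * u⁻¹) = u * (u⁻¹ * v) * u⁻¹ * (u⁻¹ * v)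
    calc u⁻¹ * v * (u * (u⁻¹ * v) * u⁻¹) = u⁻¹ * (v * v) * u⁻¹ := by group
      _ = v * (u * u)⁻¹ * v := by rw [← hv', ← h1, ← hu', inv_inv]
      _ = _ := by group
  · rw [eq_inv_iff_mul_eq_one]
    calc u * (u * (u⁻¹ * v) * u⁻¹) * u⁻¹ * (u⁻¹ * v * (u * (u⁻¹ * v) * u⁻¹))
        = u * v * (u ^ 3)⁻¹ * v * v * u⁻¹ := by group
      _ = u * v ^ 3 * u⁻¹ := by rw [hu]; simp [pow_three', mul_assoc]
      _ = 1 := by rw [hv]; group

theorem mem_of_tri [Finite G] {H : Subgroup G} {a τ : G} {k : ℕ} (haH : a ∈ H) (h3 : a ^ 3 = 1)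
    (hTI : ∀ g, g * a * g⁻¹ ∈ H → g ∈ H) (h4 : τ ^ 3 ^ k = 1) (h5 : Commute τ (a * τ * a⁻¹))
    (h6 : a * (a * τ * a⁻¹) * a⁻¹ = (τ * (a * τ * a⁻¹))⁻¹) : τ ∈ H := by
  haveI := Fact.mk Nat.prime_three
  have m1 : τ ∈ Subgroup.zpowers τ ⊔ Subgroup.zpowers (a * τ * a⁻¹) :=
    Subgroup.mem_sup_left (Subgroup.mem_zpowers _)
  have m2 : a * τ * a⁻¹ ∈ Subgroup.zpowers τ ⊔ Subgroup.zpowers (a * τ * a⁻¹) :=
    Subgroup.mem_sup_right (Subgroup.mem_zpowers _)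
  refine le_of_normalizes (p := 3) haH hTI
    (isPGroup_zpowers' (k := 1) h3) (IsPGroup.to_sup_of_normal_left' (isPGroup_zpowers' h4)
      (isPGroup_zpowers' (k := k) (by rw [conj_pow, h4]; group)) (Subgroup.zpowers_le.2
        (Subgroup.centralizer_le_normalizer _ ?_))) (H7.mem_normalizer_of_forall ?_) m1
  · rintro _ ⟨i, rfl⟩
    exact (h5.zpow_left i).eq
  · have : Subgroup.zpowers τ ⊔ Subgroup.zpowers (a * τ * a⁻¹) ≤ Subgroup.comap
        (MulAut.conj a).toMonoidHom (Subgroup.zpowers τ ⊔ Subgroup.zpowers (a * τ * a⁻¹)) :=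
      sup_le (Subgroup.zpowers_le.2 m2) (Subgroup.zpowers_le.2
        (show a * (a * τ * a⁻¹) * a⁻¹ ∈ _ from h6 ▸ inv_mem (mul_mem m1 m2)))
    exact fun x hx => this hx

end tri

open K24

abbrev MM := SD J3 K24

theorem cls_lt : ∀ m : MM, (cls m).val < 5 → m ^ 4 = 1 ∨ m.k ≠ 1 ∧ m ^ 3 = 1 := by decide +kernel
theorem cls_conj : ∀ j : MM, j.k = 1 → ∀ h, cls (h * j⁻¹ * h⁻¹) = cls j := by decide +kernel
theorem cls_e : ∀ j : MM, (cls j).val = 5 → ∀ n, n ^ 3 = 1 → (j * n) ^ 3 = 1 → n.k = 1 := by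
  decide +kernel
theorem cls_J : ∀ j : MM, 5 ≤ (cls j).val → (cls j).val ≤ 7 → j.k = 1 ∧ j ≠ 1 := by decide +kernel
theorem y_ex : ∀ m : MM, m.k ≠ 1 → m ^ 3 = 1 → ∃ a : MM, a.k = 1 ∧ a ≠ 1 ∧ a * m = m * a := by
  decide +kernel
theorem y_cen : ∀ m : MM, m.k ≠ 1 → m ^ 3 = 1 →
    ∀ j : MM, j.k = 1 → j ≠ 1 → j * m = m * j → (cls j).val = 7 := by decide +kernel
theorem y_conj : ∀ m : MM, m.k ≠ 1 → m ^ 3 = 1 → ∃ h : MM, h * ⟨0, .mk 12⟩ * h⁻¹ = m := by
  decide +kernel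
theorem a_cen : ∀ j : MM, (cls j).val = 7 → ∀ m, m * j = j * m → m ^ 3 ^ 2 = 1 := by decide +kernel

variable {G : Type*} [Group G] [Finite G] {φ : MM →* G}

/-- the hypothesis of case (i) -/
structure HI (φ : MM →* G) : Prop where
  inj : Function.Injective φ
  wti : WTI φ fun m => m.k = 1 ∧ m ≠ 1
  cen : ∀ j : MM, j.k = 1 → j ≠ 1 → ∀ g, g * φ j = φ j * g → g ∈ φ.range

namespace HI
variable (h : HI φ)
include h

omit [Finite G] in
theorem cls_eq {j m : MM} {g : G} (hj : j.k = 1) (hj1 : j ≠ 1) (e : g * φ j * g⁻¹ = φ m)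
    (hg : g ∉ φ.range) : (cls j).val = 7 ∧ m.k ≠ 1 ∧ m ^ 3 = 1 := by
  have h1 : m.k ≠ 1 := fun h1 => hg (h.wti j m g ⟨hj, hj1⟩ ⟨h1, by
    rintro rfl
    exact hj1 (h.inj (by simpa [mul_inv_eq_one] using e))⟩ e)
  have h2 : m ^ 3 = 1 := h.inj (by rw [map_pow, ← e, conj_pow, ← map_pow, cube j hj]; simp)
  obtain ⟨a, ha, ha1, hc⟩ := y_ex m h1 h2
  have hc' := congrArg φ hc
  rw [map_mul, map_mul, ← e] at hc'
  have hc2 : g⁻¹ * φ a * g * φ j = φ j * (g⁻¹ * φ a * g) := by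
    calc _ = g⁻¹ * (φ a * (g * φ j * g⁻¹)) * g := by group
      _ = _ := by rw [hc']; group
  obtain ⟨n, hn⟩ := h.cen j hj hj1 _ hc2
  have e2 : g⁻¹ * φ a * g⁻¹⁻¹ = φ n := by rw [inv_inv, hn]
  refine ⟨y_cen n (fun h3 => hg (inv_mem_iff.1 (h.wti a n _ ⟨ha, ha1⟩ ⟨h3, ?_⟩ e2)))
    (h.inj ?_) j hj hj1 (h.inj (by rw [map_mul, map_mul, hn, hc2])), h1, h2⟩
  · rintro rfl
    exact ha1 (h.inj (by rwa [map_one, mul_inv_eq_one, mul_eq_left, ← φ.map_one] at e2))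
  · rw [map_pow, ← e2, conj_pow, ← map_pow, cube a ha]; simp

theorem tri (hy : ∀ τ : MM, τ.k ≠ 1 → τ ^ 3 = 1 → ∀ t, t * φ τ = φ τ * t → t ^ 3 ^ 2 = 1)
    {z j j' : MM} {x : G} (hz : z.k = 1 ∧ z ≠ 1) (hj' : j'.k = 1 ∧ j' ≠ 1)
    (hj : (cls j).val = 5 ∨ (cls j).val = 6 ∧ (cls j').val = 6) (hne : (cls z).val ≠ (cls j).val)
    (hx : IsConj x (φ j)) (hv : IsConj (x⁻¹ * φ z) (φ j')) : ∃ m ∈ SD.JJ, φ m = x := by
  obtain ⟨hJ, hj1⟩ := cls_J j (by omega) (by omega)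
  obtain ⟨g, hg⟩ := isConj_iff.1 hx
  obtain ⟨c, hc⟩ := isConj_iff.1 hv.symm
  have sti : ∀ g, g * φ j * g⁻¹ ∈ φ.range → g ∈ φ.range := fun g ⟨m, e⟩ =>
    by_contra fun hg => by have := (h.cls_eq hJ hj1 e.symm hg).1; omega
  have e : φ j * (g * (x⁻¹ * φ z) * g⁻¹) = g * φ z * g⁻¹ := by rw [← hg]; group
  have e' : g * (x⁻¹ * φ z) * g⁻¹ = g * c * φ j' * (g * c)⁻¹ := by rw [← hc]; group
  generalize g * (x⁻¹ * φ z) * g⁻¹ = v at e e'
  have a3 : φ j ^ 3 = 1 := by rw [← map_pow, cube j hJ, map_one]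
  have v3 : v ^ 3 = 1 := by rw [e', conj_pow, ← map_pow, cube j' hj'.1]; simp
  have z3 : (φ j * v) ^ 3 = 1 := by rw [e, conj_pow, ← map_pow, cube z hz.1]; simp
  obtain ⟨τ, h1, h2, ⟨k, h4⟩, h5, h6⟩ := tri333' a3 v3 z3
  obtain ⟨m, rfl⟩ := mem_of_tri (H := φ.range) ⟨j, rfl⟩ a3 sti h4 h5 h6
  have ht : (φ j)⁻¹ * v ∈ φ.range := by
    by_cases h7 : (cls m).val < 5
    · rcases cls_lt m h7 with h8 | h8
      · obtain rfl : m = 1 := by
          have := pow_gcd_eq_one.2 ⟨h8, h.inj ((map_pow φ _ _).trans (h4.trans φ.map_one.symm))⟩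
          rwa [Nat.Coprime.gcd_eq_one (Nat.Coprime.pow_right k (by norm_num)), pow_one] at this
        rw [map_one, mul_one, e] at h1
        obtain ⟨d, hd⟩ := isConj_iff.1 h1
        have e2 : g⁻¹ * d * φ j⁻¹ * (g⁻¹ * d)⁻¹ = φ z := by
          rw [map_inv, mul_assoc g⁻¹, mul_inv_rev, ← mul_assoc, mul_assoc g⁻¹, hd]; group
        obtain ⟨n, hn⟩ := h.wti j⁻¹ _ _ ⟨SD.JJ.inv_mem hJ, inv_ne_one.2 hj1⟩ hz e2
        rw [← hn, ← map_inv, ← map_mul, ← map_mul, h.inj.eq_iff] at e2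
        exact absurd (by rw [← e2, cls_conj j hJ]) hne
      · exact mem_of_tri ⟨j, rfl⟩ a3 sti (hy m h8.1 h8.2 _ h2.symm) (tri_t a3 v3 z3).1
          (tri_t a3 v3 z3).2
    · obtain ⟨i, -, h8⟩ := cls_pow m (by omega)
      exact h.cen _ h8.1 h8.2 _ (by rw [map_pow]; exact (h2.symm.pow_right i).eq)
  obtain ⟨n, rfl⟩ : v ∈ φ.range := by simpa using mul_mem (show φ j ∈ φ.range from ⟨j, rfl⟩) ht
  have hn : n.k = 1 := by
    rcases hj with h7 | h7
    · exact cls_e j h7 n (h.inj (by rw [map_pow, v3, map_one]))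
        (h.inj (by rw [map_pow, map_mul, z3, map_one]))
    · obtain ⟨b, hb⟩ : g * c ∈ φ.range := by_contra fun hg => by
        have := (h.cls_eq hj'.1 hj'.2 e'.symm hg).1; omega
      rw [← hb, ← map_inv, ← map_mul, ← map_mul, h.inj.eq_iff] at e'
      exact e' ▸ Subgroup.Normal.conj_mem (H := SD.JJ) inferInstance j' hj'.1 b
  obtain ⟨b, rfl⟩ := h.wti z (j * n) g hz ⟨mul_mem (show j ∈ SD.JJ from hJ) hn, fun e2 => by
    rw [← map_mul, e2, map_one, eq_comm, mul_inv_eq_one, mul_eq_left, map_eq_one_iff φ h.inj] at e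
    exact hz.2 e⟩ (by rw [← e, map_mul])
  exact ⟨b⁻¹ * j * b, Subgroup.Normal.conj_mem' (H := SD.JJ) inferInstance j hJ b, by
    rw [map_mul, map_mul, ← hg, map_inv]; group⟩

end HI

theorem sol1_arith {g a b c d : ℚ} (hg : g ≠ 0) (ha : a ≠ 0) (hb : b ≠ 0) (hc : c ≠ 0) (hd : d ≠ 0)
    (h : 2 * a = 2 * d + b + c) (h1 : g / b = -2 * (g / c)) (h2 : 3 * (g / d) = 4 * (g / c))
    (h3 : 16 * (g / a) = 3 + 16 * (g / c)) : False := by
  field_simp at h1 h2 h3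
  obtain rfl : c = -2 * b := by linarith
  obtain rfl : d = -3 / 2 * b := by linarith
  obtain rfl : a = -2 * b := by linarith
  exact hb (mul_self_eq_zero.1 (by linarith))

theorem cls_pow' : ∀ m : MM, 5 ≤ (cls m).val →
    (m ^ (36 / 3 ^ (if (cls m).val < 12 then 2 else 1)) ).k = 1 ∧
      m ^ (36 / 3 ^ (if (cls m).val < 12 then 2 else 1)) ≠ 1 := by decide +kernel

theorem cls_pow'' : ∀ m : MM, 5 ≤ (cls m).val → (12 ≤ (cls m).val ↔ m ^ 12 ≠ 1) := by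
  decide +kernel

omit [Finite G] in
theorem HI.wti' (h : HI φ) : WTI φ fun m => 5 ≤ (cls m).val := fun m m' g hm hm' e => by
  have h1 : ∀ i : ℕ, g * φ (m ^ i) * g⁻¹ = φ (m' ^ i) := fun i => by
    rw [map_pow, map_pow, ← e, conj_pow]
  have h2 : (cls m).val < 12 ↔ (cls m').val < 12 := by
    rw [← not_le, ← not_le, cls_pow'' m hm, cls_pow'' m' hm', ← h.inj.ne_iff, ← h.inj.ne_iff (x := m' ^ 12),
      ← h1, map_one, Ne, Ne, mul_inv_eq_one, mul_eq_left]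
  exact h.wti _ _ g (cls_pow' m hm) (by simpa only [h2] using cls_pow' m' hm') (h1 _)

theorem cubic_cls' [Fintype G] (h : WSpec φ (fun m => 5 ≤ (cls m).val) fun a m => toC (mval ms a m))
    {α β γ : List ℤ} {a b c : ℕ} {s t u : ℤ}
    (hα : α.getD 0 0 = 0 ∧ (∀ i, ctab 10 α tab i = zi (dl a s i)) ∧
      ∀ m, dl a s (cls m) = 0 ∨ m.k = 1 ∧ m ≠ 1)
    (hβ : β.getD 0 0 = 0 ∧ (∀ i, ctab 10 β tab i = zi (dl b t i)) ∧
      ∀ m, dl b t (cls m) = 0 ∨ m.k = 1 ∧ m ≠ 1)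
    (hγ : γ.getD 0 0 = 0 ∧ (∀ i, ctab 10 γ tab i = zi (dl c u i)) ∧
      ∀ m, dl c u (cls m) = 0 ∨ m.k = 1 ∧ m ≠ 1) (h0 : HI φ)
    (hy : ∀ τ : MM, τ.k ≠ 1 → τ ^ 3 = 1 → ∀ t, t * φ τ = φ τ * t → t ^ 3 ^ 2 = 1)
    {N : ℤ} (hN : ((a = 5 ∨ a = 6 ∧ b = 6) ∧ c ≠ a) ∧ ∑ l : J3, ∑ k : J3, dl a s (cls (SD.inl k)) *
      dl b t (cls ((SD.inl k)⁻¹ * SD.inl l)) * dl c u (cls (SD.inl l)) = N) :
    (Nat.card MM : ℚ) * Nat.card G * ∑ χ : IrrCharacter G,
      (lf α (col (vec φ fun a m => toC (mval ms a m)) 10 χ) : ℚ) *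
      lf β (col (vec φ fun a m => toC (mval ms a m)) 10 χ) *
      lf γ (col (vec φ fun a m => toC (mval ms a m)) 10 χ) / dg χ = N := by
  have e : ∀ {α : List ℤ} {s : Fin 14 → ℤ}, (∀ i, ctab 10 α tab i = zi (s i)) → ∀ m,
      cmb 10 α (fun a m => toC (mval ms a m)) m = s (cls m) := fun h m => by
    rw [cmb_cls _ mval_eq, h, toC_zi]
  have f : ∀ {α : List ℤ} {a : ℕ} {s : ℤ}, α.getD 0 0 = 0 ∧ (∀ i, ctab 10 α tab i = zi (dl a s i)) ∧
      (∀ m, dl a s (cls m) = 0 ∨ m.k = 1 ∧ m ≠ 1) → ∀ m,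
      cmb 10 α (fun a m => toC (mval ms a m)) m ≠ 0 → (m.k = 1 ∧ m ≠ 1) ∧ (cls m).val = a :=
    fun h m hm => by
      rw [e h.2.1, Int.cast_ne_zero] at hm
      exact ⟨(h.2.2 m).resolve_left hm, by_contra fun e => hm (if_neg e)⟩
  refine h.cubic (J := SD.JJ) (by decide +kernel : ∀ j : MM, j.k = 1 → j ≠ 1 → 5 ≤ (cls j).val) 10
    hα.1 hβ.1 hγ.1 (fun m hm => (f hα m hm).1) (fun m hm => (f hβ m hm).1)
    (fun m hm => (f hγ m hm).1.1) (fun z x j j' h1 h2 h3 => h0.tri hy (f hγ z h1).1 (f hβ j' h3).1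
      (by rw [(f hα j h2).2, (f hβ j' h3).2]; exact hN.1.1)
      (by rw [(f hα j h2).2, (f hγ z h1).2]; exact hN.1.2))
    SD.inl_injective SD.mem_range_inl (fun _ => rfl) ?_
  simp [e hα.2.1, e hβ.2.1, e hγ.2.1, ← hN.2]

set_option maxHeartbeats 2000000 in
theorem HI.eq_top (h0 : HI φ) : φ.range = ⊤ := by
  classical
  haveI := Fintype.ofFinite G
  by_cases hs : STI φ fun m => m ∈ SD.JJ ∧ m ≠ 1
  · exact range_eq_top h0.inj hs
  obtain ⟨j, ⟨hj, hj1⟩, g, ⟨m, hm⟩, hg⟩ : ∃ j : MM, (j ∈ SD.JJ ∧ j ≠ 1) ∧ ∃ g,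
      g * φ j * g⁻¹ ∈ φ.range ∧ g ∉ φ.range := by simpa only [STI, not_forall, exists_prop] using hs
  obtain ⟨c7, hm1, hm3⟩ := h0.cls_eq hj hj1 hm.symm hg
  have hy : ∀ τ : MM, τ.k ≠ 1 → τ ^ 3 = 1 → ∀ t, t * φ τ = φ τ * t → t ^ 3 ^ 2 = 1 :=
    fun τ h1 h2 t ht => by
      obtain ⟨b, rfl⟩ := y_conj τ h1 h2
      obtain ⟨c, hc⟩ := y_conj m hm1 hm3
      have e : φ (b * ⟨0, .mk 12⟩ * b⁻¹) = φ (b * c⁻¹) * g * φ j * (φ (b * c⁻¹) * g)⁻¹ := by
        calc _ = φ (b * c⁻¹) * φ m * (φ (b * c⁻¹))⁻¹ := by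
              rw [← hc, ← map_inv, ← map_mul, ← map_mul]; congr 1; group
          _ = _ := by rw [hm]; group
      rw [e] at ht
      generalize φ (b * c⁻¹) * g = k at ht
      have e2 : k⁻¹ * t * k * φ j = φ j * (k⁻¹ * t * k) := by
        calc _ = k⁻¹ * (t * (k * φ j * k⁻¹)) * k := by group
          _ = _ := by rw [ht]; group
      obtain ⟨n, hn⟩ := h0.cen j hj hj1 _ e2
      rw [show t = k * φ n * k⁻¹ by rw [hn]; group, conj_pow, ← map_pow,
        a_cen j c7 n (h0.inj (by rw [map_mul, map_mul, hn, e2]))]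
      simp
  clear c7 hm1 hm3 hm hg hj hj1 hs j g m
  have h : WSpec φ (fun m => 5 ≤ (cls m).val) fun a m => toC (mval ms a m) := by
    refine ⟨h0.inj, h0.wti', by ext; simp [mval, toC_zi], mval_gen ms, fun a ha m hm => ?_,
      by decide +kernel⟩
    by_cases h : a < 10
    · rw [mval_eq a h] at hm
      exact ((tab_supp a h _).resolve_left ha).resolve_right fun e => hm (by rw [e, map_zero])
    · exact absurd (by rw [mval_of_le ms (show 9 < a by omega), map_zero]) hm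
  obtain ⟨s, hs, x, hx⟩ := Emb.exists_sol (rows := rows) (vec φ fun a m => toC (mval ms a m)) dg
    (fun a ha b hb => h.gram hb (inner_cls card_cls
      (mval_eq a ha) (mval_eq b (hb.trans_lt ha)) (tab_gram a ha b hb))) rows_gram
  change Emb.Sol _ _ 10 _ _ at hx
  have e1 := cubic_cls' h ha ha hb h0 hy (N := 15116544) (by decide +kernel)
  have e2 := cubic_cls' h ha ha hc h0 hy (N := 0) (by decide +kernel)
  have e3 := cubic_cls' h ha hb hb h0 hy (N := 7558272) (by decide +kernel)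
  have e4 := cubic_cls' h ha hb hc h0 hy (N := 11337408) (by decide +kernel)
  have e5 := cubic_cls' h ha hc hc h0 hy (N := 17006112) (by decide +kernel)
  have e6 := cubic_cls' h hb hb hc h0 hy (N := 11337408) (by decide +kernel)
  have hG : Nat.card G = 648 * φ.range.index := by
    rw [← φ.range.card_mul_index, ← Nat.card_congr (MonoidHom.ofInjective h0.inj).toEquiv, card_M]
  rw [← Spec.sol_cubic hx, card_M, hG] at e1 e2 e3 e4 e5 e6
  have hm := Spec.sol_mod hx (h.dg_modEq 10 (α := αd) rfl (q := 27)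
    ((isCharacter_regChar (G := K24)).comp SD.π).isGeneralizedCharacter (funext fun m => by
      rw [cmb_cls _ mval_eq, hd, toC_zi]
      simp [regChar, -Nat.card_eq_fintype_card, card_M, card_eq, SD.π]
      norm_num))
  have hq := Spec.sol_sq hx
  have hn := Spec.sol_ne hx
  have hl := hn.length_eq
  have d := fun a : ℕ => h.sol_deg hx (by norm_num) (List.replicate a 0 ++ [1])
  have d0 := d 0; have d1 := d 1; have d2 := d 2; have d3 := d 3; have d4 := d 4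
  have d5 := d 5; have d6 := d 6; have d7 := d 7; have d8 := d 8; have d9 := d 9
  clear d hx
  rw [hG] at hq
  rw [← Subgroup.index_eq_one]
  have hg : 0 < φ.range.index := Nat.pos_of_ne_zero Subgroup.index_ne_zero_of_finite
  generalize φ.range.index = g at *
  rw [run_eq] at hs
  simp only [List.mem_cons, List.not_mem_nil, or_false] at hs
  rcases hs with rfl | rfl | rfl | rfl
  · match x, hl with
    | [x0, x1, x2, x3, x4, x5, x6, x7, x8, x9, x10, x11, x12], _ =>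
      simp [Emb.lf, αa, αb, αc, List.replicate, -mul_eq_zero] at e1 e2 e3 e4 e5 e6 hn d0 d3 d4 d6 d7 d9
      obtain rfl : x7 = x6 := by omega
      obtain ⟨-, -, -, -, -, -, n7, -, -, n9, n10, n11, -⟩ := hn
      have hd : (2 * x7 : ℚ) = 2 * x11 + x9 + x10 := by
        exact_mod_cast (by omega : 2 * x7 = 2 * x11 + x9 + x10)
      have h1 : (g : ℚ) / x9 = -2 * (g / x10) := by
        linear_combination ((-1 / 18) * e1 + (-1 / 18) * e3 + (1 / 9) * e4) / (648 * 648)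
      have h2 : 3 * ((g : ℚ) / x11) = 4 * (g / x10) := by
        linear_combination ((2 / 27) * e1 + (-2 / 27) * e2 + (5 / 27) * e3 + (-1 / 9) * e4 + (-2 / 27) * e5) / (648 * 648)
      have h3 : 16 * ((g : ℚ) / x7) = 3 + 16 * (g / x10) := by
        linear_combination ((4 / 9) * e1 + (-2 / 9) * e2 + (4 / 9) * e3 + (-4 / 9) * e4 + (-2 / 9) * e5) / (648 * 648)
      exact (sol1_arith (by exact_mod_cast hg.ne') (by exact_mod_cast n7) (by exact_mod_cast n9)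
        (by exact_mod_cast n10) (by exact_mod_cast n11) hd h1 h2 h3).elim
  · match x, hl with
    | [x0, x1, x2, x3, x4, x5, x6, x7, x8, x9, x10, x11, x12, x13], _ =>
      simp [Emb.lf, αa, αb, αc, αd, List.replicate] at e1 e3 e6 hn hm hq d0 d3 d4 d6 d8 d9
      obtain rfl : x7 = x6 := by omega
      have hB : (g : ℚ) / x12 + g / x13 = 1 / 6 := by
        linear_combination (-e1 - 3 * e3 + 4 * e6) / (108 * 648 * 648)
      have hC : (g : ℚ) / x7 + g / x7 + g / x10 = 3 / 8 := by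
        linear_combination (e1 - e3) / (48 * 648 * 648)
      obtain ⟨-, -, -, -, -, -, n7, -, -, -, n10, -, n12, n13⟩ := hn
      have n7' : (x7 : ℚ) ≠ 0 := by exact_mod_cast n7
      have n10' : (x10 : ℚ) ≠ 0 := by exact_mod_cast n10
      have n12' : (x12 : ℚ) ≠ 0 := by exact_mod_cast n12
      have n13' : (x13 : ℚ) ≠ 0 := by exact_mod_cast n13
      field_simp at hB hC
      have hq' : x12 ^ 2 + x13 ^ 2 ≤ 648 * (g : ℤ) := by
        have := sq_nonneg x0; have := sq_nonneg x1; have := sq_nonneg x2; have := sq_nonneg x3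
        have := sq_nonneg x4; have := sq_nonneg x5; have := sq_nonneg x7; have := sq_nonneg x8
        have := sq_nonneg x9; have := sq_nonneg x10; have := sq_nonneg x11; linarith
      exact_mod_cast a9_arith (g := g) (x := x12) (y := x13) (u := x7) (w := x10) (by omega)
        (by exact_mod_cast (by linarith : (6 * g * (x12 + x13) : ℚ) = x12 * x13))
        (by exact_mod_cast (by linarith : (8 * g * (2 * x10 + x7) : ℚ) = 3 * x7 * x10)) (by omega)
        (by omega) (by omega) (by omega) hq'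
  · match x, hl with
    | [x0, x1, x2, x3, x4, x5, x6, x7, x8, x9, x10, x11, x12], _ =>
      simp [Emb.lf, List.replicate] at hn d1 d2 d7
      omega
  · match x, hl with
    | [x0, x1, x2, x3, x4, x5, x6, x7, x8, x9, x10, x11], _ =>
      simp [Emb.lf, List.replicate] at hn d1 d2 d7
      omega

end H28.A9
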