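/- Tower EA (S4546, S4577), slot C8. -/
import Cfsg.Agent.H68.EaSpec

set_option autoImplicit false

open scoped MonoidAlgebra
open Cfsg H34 H35 H39 H24.KB Subgroup H68.EA

namespace H28.EaC8

universe u

theorem card_of_odd {ι : Type*} (s : Finset ι) (d : ι → ℤ) (h1 : ∀ i ∈ s, Odd (d i))
    (h2 : ∑ i ∈ s, d i ^ 2 = 8) : s.card = 8 := by
  have h3 : ∀ i ∈ s, d i ^ 2 = 1 := fun i hi => by
    have h4 : d i ^ 2 ≤ 8 := h2 ▸ Finset.single_le_sum (f := fun i => d i ^ 2)
      (fun _ _ => sq_nonneg _) hi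
    obtain ⟨k, hk⟩ := h1 i hi
    have h5 : d i < 3 := by nlinarith
    have h6 : -3 < d i := by nlinarith
    have h7 : d i = 1 ∨ d i = -1 := by omega
    rcases h7 with h7 | h7 <;> rw [h7] <;> norm_num
  rw [Finset.sum_congr rfl h3, Finset.sum_const, nsmul_eq_mul, mul_one] at h2
  exact_mod_cast h2

theorem jobC8 : JobC8.{u} := by
  intro hEV hLat hN G _ _ M _ B D e v h hD h2 hv htr hst
  classical
  have := Fact.mk h.hM.1
  have hco : ∀ a b : D, a * b = b * a :=
    Commute.of_orderOf_dvd_two fun g => orderOf_dvd_of_pow_eq_one (h2 g)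
  have hab : D ≤ Cen D := le_cen_of_comm hco
  have hne : D ≠ ⊥ := by
    rintro rfl
    simp at hD
  have hR : NCj {1, v} h.s := fun i hi j hj hij => by
    obtain ⟨α, -, rfl⟩ := (cj_iff_AI h hab).1 hij
    simp only [Finset.mem_insert, Finset.mem_singleton] at hi hj
    rcases hi with rfl | rfl
    · exact (map_one α).symm
    · rcases hj with hj | hj
      · exact absurd ((map_eq_one_iff α α.injective).1 hj) hv
      · exact hj.symm
  have hc : ∀ t : SS 2 M B, ∃ i ∈ ({1, v} : Finset D), t.Cj (h.s i) := fun t => by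
    obtain ⟨x, hx⟩ := h.exists_cj t
    by_cases x1 : x = 1
    · exact ⟨1, by simp, x1 ▸ hx⟩
    · exact ⟨v, by simp, hx.trans ((cj_iff_AI h hab).2 (htr x x1)).symm⟩
  have hl := rank_s h hab v rfl (Nat.le_of_dvd (by norm_num) hst)
  have hk := hR.card_eq h.hM h.hB hc
  rw [Finset.sum_pair hv.symm, h.rank_one, hl, ← card_bF] at hk
  rw [← hk]
  have ev : ∀ w : IrrCharacter G → ℤ, (∀ χ ∈ bF B, ∑ ψ ∈ bF B, (h.s v).con χ ψ * w ψ = 0) →
      Even (∑ χ ∈ bF B, w χ) := fun w hw => hEV G M B D e h h2 hne {1, v} hc w fun x hx x1 => by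
    obtain rfl : x = v := by simpa [x1] using hx
    exact hw
  obtain ⟨i, hi, hi0⟩ := H35.exists_height_zero 2 (block_nonempty h.hB)
  have hi' := mem_bF.2 hi
  rcases (Nat.dvd_prime Nat.prime_three).1 hst with h1 | h3
  · obtain ⟨d, -, d1, -, d3, d4⟩ := exists_col' h hab (hl.trans h1) fun t ht =>
      ⟨1, one_mem _, by rw [pow_eq_pow_mod t (h2 v), show t % 2 = 1 by omega, pow_one]; rfl⟩
    rw [hD] at d1 d3
    have hio : Odd (d i) := Int.not_even_iff_odd.1 fun h0 =>
      (d4 i hi').1 (by exact_mod_cast even_iff_two_dvd.1 h0) hi0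
    refine card_of_odd (bF B) d (fun p hp => Int.not_even_iff_odd.1 fun hpe => ?_)
      (by exact_mod_cast d3)
    have h4 := ev (fun ψ => (if ψ = p then d i else 0) - if ψ = i then d p else 0) fun χ _ => by
      have h5 : ∀ ψ : IrrCharacter G, (h.s v).con χ ψ = (d χ * d ψ : ℂ) / 8 := fun ψ => by
        rw [← d1]; push_cast; ring
      simp only [h5, Int.cast_sub, Int.cast_ite, Int.cast_zero, mul_sub, mul_ite, mul_zero,
        Finset.sum_sub_distrib, Finset.sum_ite_eq', hp, hi', if_true]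
      ring
    simp only [Finset.sum_sub_distrib, Finset.sum_ite_eq', hp, hi', if_true] at h4
    exact Int.not_even_iff_odd.2 hio ((Int.even_sub.1 h4).2 hpe)
  · have hcen : ∀ x : D, x ∈ center D := fun x => mem_center_iff.2 fun y => hco y x
    have hd : blockDefect 2 B = 3 :=
      Nat.pow_right_injective le_rfl (h.card_eq.symm.trans hD)
    obtain ⟨A, a1, a2, a3⟩ := h.exists_maj (hcen v) (h2 v)
    obtain ⟨A', b1, b2, -⟩ := h.exists_maj (hcen 1) (h2 1)
    rw [hd] at a1 a2 a3 b1 b2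
    rw [hl, h3] at a3
    have a1' : ∀ χ ψ, (A χ ψ : ℂ) = 8 * (h.s v).con χ ψ := fun χ ψ => by rw [a1]; norm_num
    have hlt : ∀ χ ∈ bF B, A χ χ < 8 := fun χ hχ => by
      have h5 := hR.sum_con_eq h.hM h.hB hc (mem_bF.1 hχ) (mem_bF.1 hχ)
      rw [Finset.sum_pair hv.symm, if_pos rfl] at h5
      have h6 : A' χ χ + A χ χ = 8 := Int.cast_injective (α := ℂ) (by
        push_cast
        rw [a1, b1]
        linear_combination 8 * h5)
      have := b2.pos χ hχ
      omega
    refine hN _ (bF B) (fun χ => blockHeight 2 B χ.1) A (by simpa using a2)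
      (fun χ _ ψ _ => Int.cast_injective (α := ℂ) ?_)
      (fun χ _ ψ _ => Int.cast_injective (α := ℂ) ?_) hlt (fun χ hχ h0 => ?_)
      (by simpa using a3) ⟨i, hi', hi0⟩ fun w hw => ev w fun χ hχ => ?_
    · rw [← map_intCast (starRingEnd ℂ), a1', a1', map_mul, SS.conj_con, map_ofNat]
    · have c1 : ∑ k ∈ bF B, (h.s v).con χ k * (h.s v).con k ψ = (h.s v).con χ ψ :=
        SS.sum_mul_self h.hM _ (SS.inV_f h.hM _ _) _
      push_cast
      rw [a1' χ ψ, ← c1, Finset.mul_sum, Finset.mul_sum]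
      exact Finset.sum_congr rfl fun k _ => by rw [a1', a1']; ring
    · have h5 : Odd (A χ χ) := Int.not_even_iff_odd.1 fun h6 =>
        (a2.dvd_iff χ hχ χ hχ).1 (by
          have h7 : blockHeight 2 B χ.1 = 0 := h0
          simp only [h7]
          simpa using even_iff_two_dvd.1 h6) h0
      have h6 := hLat G M B D e h v hD h2 hv (hl.trans h3) χ (A χ χ) (a1' χ χ) h5
      have h7 := a2.pos χ hχ
      have h8 := hlt χ hχ
      omega
    · have h5 := congrArg (Int.cast : ℤ → ℂ) (hw χ hχ)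
      push_cast at h5
      simp only [a1', mul_assoc, ← Finset.mul_sum] at h5
      exact (mul_eq_zero.1 h5).resolve_left (by norm_num)

end H28.EaC8
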