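import Cfsg.Agent.H63.KgvSpec
import Cfsg.Agent.H28.GenChar
import Cfsg.Agent.H29.GalChar

set_option autoImplicit false

open Finset Cfsg H63.Kgv H28 H29

namespace H28.KgvOr

universe u

theorem sub_finset {E : Type u} [Group E] [Fintype E] {χ : E → ℂ} (hχ : IsCharacter E χ)
    (ψ : ℕ → E → ℂ) (s : Finset ℕ) (hψ : ∀ i, IsIrrCharacter E (ψ i))
    (hin : ∀ i, classInner χ (ψ i) ≠ 0) (hinj : Set.InjOn ψ s) :
    IsCharacter E (χ - ∑ i ∈ s, ψ i) := by
  classical
  induction s using Finset.induction_on with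
  | empty => simpa using hχ
  | insert a s ha ih =>
    have h1 := ih (hinj.mono (by simp))
    have h2 : classInner (χ - ∑ i ∈ s, ψ i) (ψ a) ≠ 0 := by
      rw [classInner_sub_left, classInner_sum_left, Finset.sum_eq_zero, sub_zero]
      · exact hin a
      · intro i hi
        refine (hψ i).classInner_of_ne (hψ a) fun e => ha ?_
        have := hinj (by simp [hi]) (by simp) e
        rwa [← this]
    have := h1.sub_irr (hψ a) h2
    rwa [sub_sub, add_comm, ← Finset.sum_insert ha] at this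

theorem inner_pow {E : Type u} [Group E] [Fintype E] (f g : E → ℂ) {m : ℕ}
    (hm : m.Coprime (Nat.card E)) :
    classInner (fun y => f (y ^ m)) (fun y => g (y ^ m)) = classInner f g := by
  unfold classInner
  congr 1
  exact Fintype.sum_equiv (powCoprime hm.symm) _ _ fun y => rfl

theorem sum_push {α : Type} [Fintype α] [DecidableEq α] (π : α → α) (m : α → ℕ) (G : α → ℂ) :
    ∑ x, ((∑ z ∈ univ.filter (fun z => π z = x), m z : ℕ) : ℂ) * G x = ∑ z, (m z : ℂ) * G (π z) := by
  rw [← Finset.sum_fiberwise (s := univ) (g := π) (f := fun z => (m z : ℂ) * G (π z))]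
  refine Finset.sum_congr rfl fun x _ => ?_
  rw [Nat.cast_sum, Finset.sum_mul]
  refine Finset.sum_congr rfl fun z hz => ?_
  rw [(Finset.mem_filter.1 hz).2]

theorem prod_push {α : Type} [Fintype α] [DecidableEq α] (π : α → α) (m : α → ℕ) (F : α → ℂ)
    (d : ℕ) : ∏ x, F x ^ (d * ∑ z ∈ univ.filter (fun z => π z = x), m z) =
      ∏ z, F (π z) ^ (d * m z) := by
  rw [← Finset.prod_fiberwise (s := univ) (g := π) (f := fun z => F (π z) ^ (d * m z))]
  refine Finset.prod_congr rfl fun x _ => ?_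
  rw [Finset.mul_sum, ← Finset.prod_pow_eq_pow_sum]
  refine Finset.prod_congr rfl fun z hz => ?_
  rw [(Finset.mem_filter.1 hz).2]

theorem job : JOR.{u} := by
  classical
  intro eg p hp M K _ _ θ a Hf hs E _ _ hE d χ hd hχ hq h0
  have hp1 : 1 ≤ p ^ M := Nat.one_le_pow _ _ hp.out.pos
  have hyM : ∀ y : E, y ^ (p ^ M - 1) = 1 := fun y => by
    obtain ⟨c, hc⟩ := hE
    rw [hc, pow_mul, pow_card_eq_one', one_pow]
  have hyM' : ∀ y : E, y ^ p ^ M = y := fun y => by
    rw [← Nat.sub_add_cancel hp1, pow_succ, hyM, one_mul]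
  have hcop : p.Coprime (Nat.card E) := by
    refine Nat.Coprime.coprime_dvd_right hE ?_
    have : (p ^ M).Coprime (p ^ M - 1) := (Nat.coprime_self_sub_right hp1).2 (by simp)
    exact (Nat.coprime_pow_left_iff hs.pos _ _).1 this
  obtain ⟨χ₀, hχ₀, hin⟩ := hχ.exists_constituent h0
  let σ : (E → ℂ) → (E → ℂ) := fun f y => f (y ^ p ^ d)
  have hσ : ∀ (i : ℕ) (f : E → ℂ), σ^[i] f = fun y => f (y ^ p ^ (d * i)) := by
    intro i
    induction i with
    | zero => intro f; simp
    | succ i ih =>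
      intro f
      rw [Function.iterate_succ_apply, ih]
      funext y
      simp only [σ]
      rw [← pow_mul, ← pow_add, Nat.mul_succ]
  obtain ⟨c, hc⟩ := hd
  have hc0 : 0 < c := Nat.pos_of_ne_zero fun h => hs.pos.ne' (by rw [hc, h, mul_zero])
  have hper : Function.IsPeriodicPt σ c χ₀ := by
    rw [Function.IsPeriodicPt, Function.IsFixedPt, hσ, ← hc]
    funext y
    rw [hyM']
  set e := Function.minimalPeriod σ χ₀ with he
  have he0 : 0 < e := hper.minimalPeriod_pos hc0
  have hec : e ∣ c := hper.minimalPeriod_dvd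
  have hfix : σ^[e] χ₀ = χ₀ := Function.isPeriodicPt_minimalPeriod σ χ₀
  have hχi : ∀ i, σ^[i] χ = χ := fun i => Function.iterate_fixed (funext hq) i
  have hirr : ∀ i, IsIrrCharacter E (σ^[i] χ₀) := fun i => by
    rw [hσ]; exact hχ₀.comp_pow (hcop.pow_left _)
  have hini : ∀ i, classInner χ (σ^[i] χ₀) ≠ 0 := fun i => by
    rw [← hχi i, hσ, hσ, inner_pow _ _ (hcop.pow_left _)]
    exact hin
  have hch : IsCharacter E (χ - ∑ i ∈ range e, σ^[i] χ₀) :=
    sub_finset hχ (fun i => σ^[i] χ₀) (range e) hirr hini (by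
      rw [Finset.coe_range]; exact Function.iterate_injOn_Iio_minimalPeriod)
  set χ' := χ - ∑ i ∈ range e, σ^[i] χ₀ with hχ'
  have hval : ∀ y, χ y = χ' y + ∑ i ∈ range e, χ₀ (y ^ p ^ (d * i)) := fun y => by
    simp only [hχ', Pi.sub_apply, Finset.sum_apply, hσ]; ring
  have hfix' : ∀ y, χ₀ (y ^ p ^ (d * e)) = χ₀ y := fun y => by
    have := congrFun hfix y
    rwa [hσ] at this
  obtain ⟨k, hk⟩ := hχ.exists_degree
  obtain ⟨k', hk'⟩ := hch.exists_degree
  obtain ⟨k₀, hk0, hk₀⟩ := hχ₀.exists_degree_pos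
  refine ⟨e, k, k', χ₀, χ', hc ▸ Nat.mul_dvd_mul_left d hec, hχ₀, hfix', hch, fun y => ?_, hk, hk',
    ?_, fun t ht y => ?_⟩
  · have h1 := hval (y ^ p ^ d)
    rw [hq, hval y] at h1
    have h2 : ∑ i ∈ range e, χ₀ ((y ^ p ^ d) ^ p ^ (d * i)) =
        ∑ i ∈ range e, χ₀ (y ^ p ^ (d * i)) := by
      have h3 := Finset.sum_range_succ (fun i => χ₀ (y ^ p ^ (d * i))) e
      rw [Finset.sum_range_succ', hfix'] at h3
      simp only [mul_zero, pow_zero, pow_one, add_left_inj] at h3
      rw [← h3]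
      refine Finset.sum_congr rfl fun i _ => ?_
      rw [← pow_mul, ← pow_add, Nat.mul_succ, add_comm]
    rw [h2] at h1
    exact (add_right_cancel h1).symm
  · have h1 := hval 1
    simp only [one_pow, hk, hk', hk₀, Finset.sum_const, Finset.card_range, nsmul_eq_mul] at h1
    have h2 : k = k' + e * k₀ := by exact_mod_cast h1
    have := Nat.mul_pos he0 hk0
    omega
  · obtain ⟨eu, ex⟩ := eg K θ E hs.inj
    have hy : y ^ (Fintype.card K - 1) = 1 := by rw [hs.card]; exact hyM y
    have e0 := ex χ₀ y hχ₀.isCharacter hy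
    have e1 := ex χ' y hch hy
    have hm := eu χ y (fun x => em θ χ' y x + ∑ i ∈ range e,
        ∑ z ∈ univ.filter (fun z : Kˣ => z ^ p ^ (d * i) = x), em θ χ₀ y z) (by
      intro j
      rw [hval, e1 j]
      simp only [Nat.cast_add, add_mul, Finset.sum_add_distrib]
      congr 1
      simp only [Nat.cast_sum (s := range e), Finset.sum_mul (s := range e)]
      rw [Finset.sum_comm]
      refine Finset.sum_congr rfl fun i _ => ?_
      rw [← pow_mul, e0]
      convert (sum_push (fun z : Kˣ => z ^ p ^ (d * i)) (em θ χ₀ y)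
        (fun x => (θ x : ℂ) ^ j)).symm using 3
      rw [map_pow, Units.val_pow_eq_pow_val, ← pow_mul, mul_comm])
    have hfr : ∀ (n : ℕ) (z : Kˣ), Hf t (z ^ p ^ n) = Hf t z := fun n z => by
      induction n with
      | zero => simp
      | succ n ih => rw [pow_succ, pow_mul, hs.frob t _ ht, ih]
    unfold gam
    rw [hm, mul_comm]
    simp only [mul_add, pow_add, Finset.prod_mul_distrib]
    congr 1
    simp only [Finset.mul_sum (s := range e), ← Finset.prod_pow_eq_pow_sum (s := range e)]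
    rw [Finset.prod_comm]
    have h4 : ∀ i ∈ range e, ∏ x : Kˣ, Hf t x ^ (d * ∑ z ∈ univ.filter
        (fun z : Kˣ => z ^ p ^ (d * i) = x), em θ χ₀ y z) = ∏ x : Kˣ, Hf t x ^ (d * em θ χ₀ y x) :=
      fun i _ => by
        rw [prod_push (fun z : Kˣ => z ^ p ^ (d * i))]
        simp only [hfr]
    rw [Finset.prod_congr rfl h4, Finset.prod_const, Finset.card_range, ← Finset.prod_pow]
    refine Finset.prod_congr rfl fun x _ => ?_
    rw [← pow_mul]
    congr 1
    ring

end H28.KgvOr
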