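import Cfsg.Agent.H28.KgvOr

set_option autoImplicit false

open Finset Cfsg H63.Kgv H28 H29 H28.KgvOr

namespace H28.KgvVl

universe u

theorem prod_orb {α : Type} [Fintype α] (s : α → α) (hs : ∀ u, u ∈ Function.periodicPts s)
    (a b : α → ℂ) (ha : ∀ u, a (s u) = a u) (hb : ∀ u, b (s u) = b u)
    (h : ∀ u, a u ^ Function.minimalPeriod s u = b u ^ Function.minimalPeriod s u) :
    ∏ u, a u = ∏ u, b u := by
  classical
  have key : ∀ (f : α → ℂ), (∀ u, f (s u) = f u) → ∀ u₀,
      ∏ u ∈ univ.filter (fun u => Function.periodicOrbit s u = Function.periodicOrbit s u₀), f u =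
        f u₀ ^ Function.minimalPeriod s u₀ := by
    intro f hf u₀
    have hit : ∀ n, f (s^[n] u₀) = f u₀ := fun n => by
      induction n with
      | zero => rfl
      | succ n ih => rw [Function.iterate_succ_apply', hf, ih]
    have e : univ.filter (fun u => Function.periodicOrbit s u = Function.periodicOrbit s u₀) =
        (range (Function.minimalPeriod s u₀)).image fun i => s^[i] u₀ := by
      ext u
      simp only [mem_filter, mem_univ, true_and, mem_image, mem_range]
      constructor
      · intro hu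
        have h1 := Function.self_mem_periodicOrbit (hs u)
        rw [hu, Function.mem_periodicOrbit_iff (hs u₀)] at h1
        obtain ⟨n, hn⟩ := h1
        exact ⟨n % _, Nat.mod_lt _ (Function.minimalPeriod_pos_of_mem_periodicPts (hs u₀)),
          by rw [Function.iterate_mod_minimalPeriod_eq, hn]⟩
      · rintro ⟨i, -, rfl⟩
        exact Function.periodicOrbit_apply_iterate_eq (hs u₀) i
    rw [e, Finset.prod_image (by
      rw [Finset.coe_range]; exact Function.iterate_injOn_Iio_minimalPeriod)]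
    simp only [hit, prod_const, card_range]
  have hm : ∀ u ∈ (univ : Finset α), Function.periodicOrbit s u ∈
      univ.image (Function.periodicOrbit s) := fun u hu => mem_image_of_mem _ hu
  rw [← Finset.prod_fiberwise_of_maps_to hm a, ← Finset.prod_fiberwise_of_maps_to hm b]
  refine Finset.prod_congr rfl fun c hc => ?_
  obtain ⟨u₀, -, rfl⟩ := mem_image.1 hc
  rw [key a ha, key b hb, h]

theorem fib {K : Type} [Field K] [Fintype Kˣ] [DecidableEq Kˣ] {r : ℕ} (hr : r.Prime) {ω : Kˣ}
    (hω : orderOf ω = r) (w₀ : Kˣ) :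
    univ.filter (fun w : Kˣ => w ^ r = w₀ ^ r) = (range r).image (fun i => w₀ * ω ^ i) ∧
      Set.InjOn (fun i => w₀ * ω ^ i) (range r : Set ℕ) := by
  have : NeZero r := ⟨hr.ne_zero⟩
  have hpr : IsPrimitiveRoot (ω : K) r := IsPrimitiveRoot.coe_units_iff.2 (hω ▸ IsPrimitiveRoot.orderOf ω)
  have hω1 : ω ^ r = 1 := hω ▸ pow_orderOf_eq_one ω
  refine ⟨?_, fun i hi j hj e => ?_⟩
  · ext w
    simp only [mem_filter, mem_univ, true_and, mem_image, mem_range]
    constructor
    · intro hw
      have h1 : ((w₀⁻¹ * w : Kˣ) : K) ^ r = 1 := by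
        rw [← Units.val_pow_eq_pow_val, mul_pow, hw, inv_pow, inv_mul_cancel, Units.val_one]
      obtain ⟨i, hi, e⟩ := hpr.eq_pow_of_pow_eq_one h1
      refine ⟨i, hi, ?_⟩
      have : ω ^ i = w₀⁻¹ * w := Units.ext (by rw [Units.val_pow_eq_pow_val, e])
      rw [this, mul_inv_cancel_left]
    · rintro ⟨i, -, rfl⟩
      rw [mul_pow, ← pow_mul, mul_comm i, pow_mul, hω1, one_pow, mul_one]
  · rw [Finset.coe_range, ← hω] at hi hj
    exact pow_injOn_Iio_orderOf hi hj (mul_left_cancel e)

theorem root {K : Type} [Field K] [Fintype K] {r N : ℕ} (hN : Fintype.card K - 1 = r * N)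
    {u : Kˣ} (hu : u ^ N = 1) : ∃ w : Kˣ, w ^ r = u := by
  classical
  obtain ⟨g, hg⟩ := IsCyclic.exists_monoid_generator (α := Kˣ)
  obtain ⟨a, rfl⟩ := hg u
  have ho : orderOf g = r * N := by
    rw [← hN, ← Fintype.card_units, ← Nat.card_eq_fintype_card]
    exact orderOf_eq_card_of_forall_mem_powers hg
  have h0 : 0 < N := Nat.pos_of_ne_zero fun h => by
    have := orderOf_pos g
    rw [ho, h] at this
    simp at this
  simp only at hu
  rw [← pow_mul, ← orderOf_dvd_iff_pow_eq_one, ho] at hu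
  obtain ⟨c, rfl⟩ := Nat.dvd_of_mul_dvd_mul_right h0 hu
  exact ⟨g ^ c, by rw [← pow_mul, mul_comm]⟩

theorem job : JVL.{u} := by
  classical
  intro eg p hp M K _ _ θ a Hf hs E _ _ hE H _ r d x χ φ ω hI hd hrd hω hq
  have hp1 : ∀ n, 1 ≤ p ^ n := fun n => Nat.one_le_pow _ _ hp.out.pos
  have hyM : ∀ y : E, y ^ (Fintype.card K - 1) = 1 := fun y => by
    obtain ⟨c, hc⟩ := hE
    rw [hs.card, hc, pow_mul, pow_card_eq_one', one_pow]
  have hhM : ∀ h : H, h ^ (Fintype.card K - 1) = 1 := fun h => Subtype.ext (by simpa using hyM h)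
  obtain ⟨eu, -⟩ := eg K θ E hs.inj
  obtain ⟨euH, exH⟩ := eg K θ H hs.inj
  have eH := fun h : H => exH φ h hI.ch (hhM h)
  obtain ⟨n, hn⟩ := hI.ch.exists_degree
  have hr := hI.pr
  have hω1 : ω ^ r = 1 := hω ▸ pow_orderOf_eq_one ω
  refine ⟨n, hn, fun t ht => ⟨fun h => ?_, fun y h hy hh => ?_⟩⟩
  · have hm := eu χ h (fun w => ∑ j ∈ range r, em θ φ (MulAut.conjNormal (x ^ j) h) w) (by
      intro k
      rw [← Subgroup.coe_pow, hI.on]
      simp only [Nat.cast_sum, Finset.sum_mul]
      rw [Finset.sum_comm]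
      refine Finset.sum_congr rfl fun j _ => ?_
      rw [map_pow, eH])
    unfold gam
    rw [hm, Finset.prod_comm]
    simp only [Finset.mul_sum, Finset.prod_pow_eq_pow_sum]
  · have : Fact r.Prime := ⟨hr⟩
    have hcard : Nat.card (E ⧸ H) = r := hI.idx
    have hy1 : (y : E ⧸ H) ≠ 1 := fun e => hy ((QuotientGroup.eq_one_iff y).1 e)
    have hoy : orderOf (y : E ⧸ H) = r := by
      refine orderOf_eq_prime ?_ hy1
      rw [← hcard, pow_card_eq_one']
    have hmem : ∀ k, y ^ k ∈ H ↔ r ∣ k := fun k => by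
      rw [← QuotientGroup.eq_one_iff, QuotientGroup.mk_pow, ← orderOf_dvd_iff_pow_eq_one, hoy]
    have hcj : ∀ (g : E) (k : ℕ), φ (MulAut.conjNormal g (h ^ k)) = φ (h ^ k) := fun g k => by
      obtain ⟨i, hi⟩ := mem_powers_of_prime_card hcard hy1 (g' := (g : E ⧸ H))
      have hb : g * (y ^ i)⁻¹ ∈ H := by
        rw [← QuotientGroup.eq_one_iff, QuotientGroup.mk_mul, QuotientGroup.mk_inv,
          QuotientGroup.mk_pow, ← hi, mul_inv_cancel]
      rw [← hI.ch.isClassFunction (h ^ k) ⟨_, hb⟩]
      congr 1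
      ext
      simp only [MulAut.conjNormal_apply, Subgroup.coe_mul, Subgroup.coe_inv, Subgroup.coe_pow, hh]
      group
    have hon : ∀ k, χ (y ^ (r * k)) = r * φ (h ^ k) := fun k => by
      rw [pow_mul, ← hh, ← Subgroup.coe_pow, hI.on]
      simp only [hcj, sum_const, card_range, nsmul_eq_mul]
    set m := em θ φ h with hmdef
    have em0 : Eg θ φ h m := eH h
    obtain ⟨c, hc⟩ := hd
    obtain ⟨N, hN⟩ : r ∣ Fintype.card K - 1 := by
      rw [hs.card]; exact hrd.trans (Nat.pow_sub_one_dvd_pow_sub_one p ⟨c, hc⟩)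
    have hsupp : ∀ u, m u ≠ 0 → ∃ w : Kˣ, w ^ r = u := by
      intro u hu
      refine root hN ?_
      by_contra hne
      have h1 : h ^ N = 1 := Subtype.ext (by
        rw [Subgroup.coe_pow, hh, ← pow_mul, ← hN, hyM, Subgroup.coe_one])
      have e1 := euH φ 1 (fun x => if x = 1 then n else 0) (fun j => by simp [hn])
      have e2 := euH φ 1 (fun x => ∑ z ∈ univ.filter (fun z : Kˣ => z ^ N = x), m z) (fun j => by
        rw [← h1, ← pow_mul, em0]
        convert (sum_push (fun z : Kˣ => z ^ N) m (fun x => (θ x : ℂ) ^ j)).symm using 3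
        rw [map_pow, Units.val_pow_eq_pow_val, ← pow_mul])
      have e3 := congrFun (e2.symm.trans e1) (u ^ N)
      simp only [if_neg hne, Finset.sum_eq_zero_iff] at e3
      exact hu (e3 u (by simp))
    have hm := eu χ y (fun w => m (w ^ r)) (by
      intro k
      by_cases hk : r ∣ k
      · obtain ⟨k, rfl⟩ := hk
        rw [hon, em0, Finset.mul_sum,
          ← Finset.sum_fiberwise (s := univ) (g := fun w : Kˣ => w ^ r)
            (f := fun w => (m (w ^ r) : ℂ) * (θ w : ℂ) ^ (r * k))]
        refine Finset.sum_congr rfl fun u _ => ?_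
        by_cases hu : m u = 0
        · rw [hu, Finset.sum_eq_zero]
          · simp
          · intro w hw
            rw [(mem_filter.1 hw).2, hu]; simp
        · obtain ⟨w₀, rfl⟩ := hsupp u hu
          rw [Finset.sum_congr rfl (g := fun _ => (m (w₀ ^ r) : ℂ) * (θ (w₀ ^ r) : ℂ) ^ k),
            sum_const, (fib hr hω w₀).1, Finset.card_image_of_injOn (fib hr hω w₀).2, card_range,
            nsmul_eq_mul]
          intro w hw
          rw [← (mem_filter.1 hw).2, map_pow, Units.val_pow_eq_pow_val, ← pow_mul]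
      · rw [hI.off _ fun e => hk ((hmem k).1 e)]
        have h1 : (θ ω : ℂ) ^ k ≠ 1 := fun e => hk (by
          rw [← hω, orderOf_dvd_iff_pow_eq_one]
          apply hs.inj
          rw [map_pow, map_one]
          exact Units.ext (by rw [Units.val_pow_eq_pow_val, e, Units.val_one]))
        have h2 : ∑ w : Kˣ, (m (w ^ r) : ℂ) * (θ w : ℂ) ^ k =
            (θ ω : ℂ) ^ k * ∑ w : Kˣ, (m (w ^ r) : ℂ) * (θ w : ℂ) ^ k := by
          rw [Finset.mul_sum]
          refine (Fintype.sum_equiv (Equiv.mulLeft ω) _ _ fun w => ?_).symm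
          simp only [Equiv.coe_mulLeft, mul_pow, hω1, one_mul, map_mul, Units.val_mul]
          ring
        by_contra h3
        exact h1 (mul_right_cancel₀ (Ne.symm h3) (h2.symm.trans (one_mul _).symm)))
    let s : Kˣ → Kˣ := fun u => u ^ p ^ d
    have hsi : ∀ (i : ℕ) (u : Kˣ), s^[i] u = u ^ p ^ (d * i) := fun i u => by
      induction i with
      | zero => simp
      | succ i ih => rw [Function.iterate_succ_apply', ih]; simp only [s]; rw [← pow_mul, ← pow_add, Nat.mul_succ]
    have hc0 : 0 < c := Nat.pos_of_ne_zero fun h => hs.pos.ne' (by rw [hc, h, mul_zero])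
    have hper : ∀ u, Function.IsPeriodicPt s c u := fun u => by
      rw [Function.IsPeriodicPt, Function.IsFixedPt, hsi, ← hc, ← hs.card]
      exact Units.ext (by rw [Units.val_pow_eq_pow_val, FiniteField.pow_card])
    have hinj : Function.Injective s := fun u v e =>
      Function.IsPeriodicPt.eq_of_apply_eq_same (hper u) (hper v) hc0 e
    have hminv : ∀ u, m (s u) = m u := fun u => by
      have e2 := euH φ h (fun x => ∑ z ∈ univ.filter (fun z : Kˣ => s z = x), m z) (fun j => by
        have e4 : φ (h ^ j) = φ (h ^ (p ^ d * j)) := by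
          apply mul_left_cancel₀ (Nat.cast_ne_zero.2 hr.ne_zero : (r : ℂ) ≠ 0)
          rw [← hon, ← hon, ← hq, ← pow_mul]
          congr 2
          ring
        rw [e4, em0]
        convert (sum_push s m (fun x => (θ x : ℂ) ^ j)).symm using 3
        simp only [s]
        rw [map_pow, Units.val_pow_eq_pow_val, ← pow_mul])
      have e3 := congrFun e2 (s u)
      rw [← hmdef] at e3
      rw [e3, Finset.sum_eq_single u]
      · intro v hv hne
        exact absurd (hinj (mem_filter.1 hv).2) hne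
      · simp
    have hfr : ∀ (t : ZMod p), t ≠ 0 → ∀ (n : ℕ) (z : Kˣ), Hf t (z ^ p ^ n) = Hf t z :=
      fun t ht n z => by
      induction n with
      | zero => simp
      | succ n ih => rw [pow_succ, pow_mul, hs.frob t _ ht, ih]
    have hrp : (r : ZMod p) ≠ 0 := fun e => by
      have h1 : p ∣ p ^ d - 1 := ((ZMod.natCast_eq_zero_iff r p).1 e).trans hrd
      have hd0 : d ≠ 0 := fun h => hs.pos.ne' (by rw [hc, h, zero_mul])
      have h2 := Nat.dvd_sub (dvd_pow_self p hd0) h1
      rw [Nat.sub_sub_self (hp1 d)] at h2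
      exact hp.out.one_lt.ne' (Nat.dvd_one.1 h2)
    have hωd : ω ^ p ^ d = ω := by
      obtain ⟨b, hb⟩ := hrd
      rw [← Nat.sub_add_cancel (hp1 d), hb, pow_succ, pow_mul, hω1, one_pow, one_mul]
    let A : Kˣ → ℂ := fun u => ∏ w ∈ univ.filter (fun w : Kˣ => w ^ r = u), Hf t w
    have hA : ∀ w₀, A (w₀ ^ r) = ∏ i ∈ range r, Hf t (w₀ * ω ^ i) := fun w₀ => by
      simp only [A]
      rw [(fib hr hω w₀).1, Finset.prod_image (fib hr hω w₀).2]
    have main := prod_orb s (fun u => ⟨c, hc0, hper u⟩) (fun u => (A u ^ d) ^ m u)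
      (fun u => ((∏ i ∈ range r, Hf t (ω ^ i) ^ d) * Hf (r * t) u ^ d) ^ m u) (fun u => by
        rw [hminv]
        by_cases hu : m u = 0
        · simp [hu]
        obtain ⟨w₀, rfl⟩ := hsupp u hu
        have : s (w₀ ^ r) = (w₀ ^ p ^ d) ^ r := by simp only [s]; rw [← pow_mul, ← pow_mul, mul_comm]
        rw [this, hA, hA]
        congr 2
        refine Finset.prod_congr rfl fun i _ => ?_
        rw [← hfr t ht d (w₀ * ω ^ i), mul_pow, ← pow_mul ω, mul_comm i, pow_mul, hωd])
      (fun u => by rw [hminv]; simp only [s]; rw [hfr _ (mul_ne_zero hrp ht)]) (fun u => by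
        by_cases hu : m u = 0
        · simp [hu]
        obtain ⟨w₀, rfl⟩ := hsupp u hu
        set e := Function.minimalPeriod s (w₀ ^ r)
        have h1 : (w₀ ^ r) ^ p ^ (d * e) = w₀ ^ r := by
          rw [← hsi]; exact Function.isPeriodicPt_minimalPeriod s _
        have h2 := hs.prod r d ω hr ⟨c, hc⟩ hrd hω t (d * e) w₀ ht (Dvd.intro _ rfl)
          (hc ▸ Nat.mul_dvd_mul_left d (hper _).minimalPeriod_dvd) h1
        rw [pow_right_comm _ (m _), pow_right_comm _ (m _)]
        congr 1
        rw [← pow_mul, hA, ← Finset.prod_pow, h2, mul_pow, ← pow_mul, ← Finset.prod_pow]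
        simp only [← pow_mul])
    have hsum : ∑ u, m u = n := by
      have := em0 0
      simp only [pow_zero, mul_one, hn] at this
      exact_mod_cast this.symm
    unfold gam
    rw [hm, ← hmdef, ← Finset.prod_fiberwise (s := univ) (g := fun w : Kˣ => w ^ r)
      (f := fun w => Hf t w ^ (d * m (w ^ r)))]
    simp only [mul_pow, Finset.prod_mul_distrib, Finset.prod_pow_eq_pow_sum, hsum, ← pow_mul] at main
    rw [← main]
    refine Finset.prod_congr rfl fun u _ => ?_
    simp only [A]
    rw [← Finset.prod_pow]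
    refine Finset.prod_congr rfl fun w hw => ?_
    rw [(mem_filter.1 hw).2]

end H28.KgvVl
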