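import Cfsg.Agent.H42.McK

/-! The faithful `4`-dimensional `𝔽₃A₆`-module: the matrices (blueprint `LOCAL3C.md`, §1.2). -/

set_option autoImplicit false
set_option maxRecDepth 100000
set_option synthInstance.maxSize 4096

open H47.MC
open scoped Matrix

namespace H28.M2

/-- the matrix with the given columns -/
def cols (a b c d : V) : Mat := Matrix.of fun i j => ![a, b, c, d] j i

theorem cols_mulVec (a b c d x : V) :
    cols a b c d *ᵥ x = x 0 • a + x 1 • b + x 2 • c + x 3 • d := by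
  ext i
  simp [cols, Matrix.mulVec, dotProduct, Fin.sum_univ_four]
  ring

theorem mul_cols (M : Mat) (a b c d : V) :
    M * cols a b c d = cols (M *ᵥ a) (M *ᵥ b) (M *ᵥ c) (M *ᵥ d) := by
  ext i j
  fin_cases j <;> simp [cols, Matrix.mul_apply, Matrix.mulVec, dotProduct]

theorem cols_mT (a b c d : V) : cols a b c d * mT = cols a b (-c) (-d) := by
  ext i j
  fin_cases j <;> simp [cols, Matrix.mul_apply, mT, Fin.sum_univ_four]

theorem cols_mR (a b c d : V) : cols a b c d * mR = cols a (-b) c (-d) := by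
  ext i j
  fin_cases j <;> simp [cols, Matrix.mul_apply, mR, Fin.sum_univ_four]

theorem cols_mS (a b c d : V) : cols a b c d * mS = cols a c d b := by
  ext i j
  fin_cases j <;> simp [cols, Matrix.mul_apply, mS, Fin.sum_univ_four]

theorem exists_mulVec_ne {A : Mat} (h : A ≠ 0) : ∃ w, A *ᵥ w ≠ 0 := by
  by_contra hh
  push Not at hh
  exact h (Matrix.mulVec_injective (funext fun w => by rw [hh, Matrix.zero_mulVec]))

theorem four {a b c d : ZMod 3} : a + b + c + d = 0 → a + b - c - d = 0 → a - b + c - d = 0 →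
    a - b - c + d = 0 → a = 0 ∧ b = 0 ∧ c = 0 ∧ d = 0 := by
  revert a b c d
  decide

theorem smul_zero' {a : ZMod 3} {y : V} (hy : y ≠ 0) (h : ∀ i, (a • y) i = 0) : a = 0 :=
  (smul_eq_zero.1 (funext h)).resolve_right hy

theorem fixTR : ∀ x : V, mT *ᵥ x = x → mR *ᵥ x = x → x = ![x 0, 0, 0, 0] := by
  decide +kernel

theorem step1 {T R S : Mat} (hT : T * T = 1) (hR : R * R = 1) (hTR : T * R = R * T)
    (hS : S * S * S = 1) (h1 : S * T = R * S) (h2 : S * R = T * R * S) (hT1 : T ≠ 1) :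
    ∃ P : Mat, IsUnit P ∧ T * P = P * mT ∧ R * P = P * mR ∧ S * P = P * mS := by
  have hTT : ∀ X : Mat, T * (T * X) = X := fun X => by rw [← mul_assoc, hT, one_mul]
  have hRR : ∀ X : Mat, R * (R * X) = X := fun X => by rw [← mul_assoc, hR, one_mul]
  have hRT : ∀ X : Mat, R * (T * X) = T * (R * X) := fun X => by
    rw [← mul_assoc, ← hTR, mul_assoc]
  have h3 : S * (T * R) = T * S := by
    rw [← mul_assoc, h1, mul_assoc, h2, mul_assoc, hRT, hRR]
  have cS : ∀ X : Mat, X * S = 0 → X = 0 := fun X hX => by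
    rw [← mul_one X, ← hS, ← mul_assoc, ← mul_assoc, hX, zero_mul, zero_mul]
  have hA : 1 + T - R - T * R ≠ 0 := by
    intro h
    have e2 : 1 + R - T * R - T = 0 := cS _ (by
      rw [sub_mul, sub_mul, add_mul, ← h3, ← h2, ← h1, one_mul]
      have := congrArg (S * ·) h
      simpa [mul_sub, mul_add] using this)
    have e3 : 1 + T * R - T - R = 0 := cS _ (by
      rw [sub_mul, sub_mul, add_mul, ← h3, ← h2, ← h1, one_mul]
      have := congrArg (S * ·) e2
      simpa [mul_sub, mul_add] using this)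
    apply hT1
    have e4 : (1 - T) + (1 - T) = 0 := by
      rw [← add_zero (0 : Mat)]
      nth_rewrite 1 [← e2]
      rw [← e3]
      abel
    have e5 : 1 - T = 0 := by
      ext i j
      have := congrFun (congrFun e4 i) j
      rw [Matrix.add_apply, Matrix.zero_apply] at this
      rw [Matrix.zero_apply]
      revert this
      generalize (1 - T) i j = a
      revert a
      decide
    exact (sub_eq_zero.1 e5).symm
  have tr : ∀ X Y : Mat, S * X = Y * S → X.trace = Y.trace := fun X Y h => by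
    rw [← one_mul X, ← hS, mul_assoc (S * S), h, Matrix.trace_mul_comm, mul_assoc Y,
      ← mul_assoc S, hS, mul_one]
  have hB : 1 + T + R + T * R ≠ 0 := by
    intro h
    have := congrArg Matrix.trace h
    rw [Matrix.trace_add, Matrix.trace_add, Matrix.trace_add, ← tr _ _ h2, ← tr _ _ h1,
      Matrix.trace_zero, Matrix.trace_one] at this
    revert this
    generalize T.trace = a
    revert a
    decide
  obtain ⟨w, hw⟩ := exists_mulVec_ne hA
  obtain ⟨w', hw'⟩ := exists_mulVec_ne hB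
  set e : V := (1 + T - R - T * R) *ᵥ w with he
  set y : V := (1 + T + R + T * R) *ᵥ w' with hy
  have Te : T *ᵥ e = e := by
    rw [he, Matrix.mulVec_mulVec]
    congr 1
    simp only [mul_add, mul_sub, mul_one, hT, hTT]
    abel
  have Re : R *ᵥ e = -e := by
    rw [he, Matrix.mulVec_mulVec, ← Matrix.neg_mulVec]
    congr 1
    simp only [mul_add, mul_sub, mul_one, hR, hRT, ← hTR]
    abel
  have Ty : T *ᵥ y = y := by
    rw [hy, Matrix.mulVec_mulVec]
    congr 1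
    simp only [mul_add, mul_one, hT, hTT]
    abel
  have Ry : R *ᵥ y = y := by
    rw [hy, Matrix.mulVec_mulVec]
    congr 1
    simp only [mul_add, mul_one, hR, hRT, ← hTR]
    abel
  have k1 : ∀ x : V, R *ᵥ S *ᵥ x = S *ᵥ T *ᵥ x := fun x => by
    rw [Matrix.mulVec_mulVec, Matrix.mulVec_mulVec, h1]
  have k2 : ∀ x : V, T *ᵥ S *ᵥ x = S *ᵥ T *ᵥ R *ᵥ x := fun x => by
    rw [Matrix.mulVec_mulVec, Matrix.mulVec_mulVec, Matrix.mulVec_mulVec, ← h3, mul_assoc]
  have k3 : ∀ x : V, S *ᵥ S *ᵥ S *ᵥ x = x := fun x => by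
    rw [Matrix.mulVec_mulVec, Matrix.mulVec_mulVec, hS, Matrix.one_mulVec]
  have Re2 : R *ᵥ S *ᵥ e = S *ᵥ e := by rw [k1, Te]
  have Te2 : T *ᵥ S *ᵥ e = -(S *ᵥ e) := by
    rw [k2, Re, Matrix.mulVec_neg, Te, Matrix.mulVec_neg]
  have Re3 : R *ᵥ S *ᵥ S *ᵥ e = -(S *ᵥ S *ᵥ e) := by rw [k1, Te2, Matrix.mulVec_neg]
  have Te3 : T *ᵥ S *ᵥ S *ᵥ e = -(S *ᵥ S *ᵥ e) := by rw [k2, Re2, Te2, Matrix.mulVec_neg]
  have n2 : S *ᵥ e ≠ 0 := fun h => hw (by rw [← k3 e, h, Matrix.mulVec_zero, Matrix.mulVec_zero])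
  have n3 : S *ᵥ S *ᵥ e ≠ 0 := fun h => hw (by rw [← k3 e, h, Matrix.mulVec_zero])
  set P := cols y e (S *ᵥ e) (S *ᵥ S *ᵥ e) with hP
  have pT : T * P = P * mT := by rw [hP, mul_cols, cols_mT, Ty, Te, Te2, Te3]
  have pR : R * P = P * mR := by rw [hP, mul_cols, cols_mR, Ry, Re, Re2, Re3]
  have inj : Function.Injective P.mulVec := by
    refine (injective_iff_map_eq_zero P.mulVecLin).2 fun x hx => ?_
    rw [Matrix.mulVecLin_apply] at hx
    have x1 : (P * mT) *ᵥ x = 0 := by rw [← pT, ← Matrix.mulVec_mulVec, hx, Matrix.mulVec_zero]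
    have x2 : (P * mR) *ᵥ x = 0 := by rw [← pR, ← Matrix.mulVec_mulVec, hx, Matrix.mulVec_zero]
    have x3 : (P * mT * mR) *ᵥ x = 0 := by
      rw [← pT, mul_assoc, ← Matrix.mulVec_mulVec, x2, Matrix.mulVec_zero]
    rw [hP, cols_mT, cols_mulVec] at x1
    rw [hP, cols_mR, cols_mulVec] at x2
    rw [hP, cols_mT, cols_mR, cols_mulVec] at x3
    rw [hP, cols_mulVec] at hx
    have := fun i => four (a := (x 0 • y) i) (b := (x 1 • e) i) (c := (x 2 • S *ᵥ e) i)
      (d := (x 3 • S *ᵥ S *ᵥ e) i) (congrFun hx i)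
      (by simpa [sub_eq_add_neg] using congrFun x1 i)
      (by simpa [sub_eq_add_neg] using congrFun x2 i)
      (by simpa [sub_eq_add_neg] using congrFun x3 i)
    funext i
    fin_cases i
    · exact smul_zero' hw' fun i => (this i).1
    · exact smul_zero' hw fun i => (this i).2.1
    · exact smul_zero' n2 fun i => (this i).2.2.1
    · exact smul_zero' n3 fun i => (this i).2.2.2
  have hu : IsUnit P := Matrix.mulVec_injective_iff_isUnit.1 inj
  refine ⟨P, hu, pT, pR, ?_⟩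
  obtain ⟨x, hx⟩ := Matrix.mulVec_surjective_iff_isUnit.2 hu (S *ᵥ y)
  have hx' : P *ᵥ x = S *ᵥ y := hx
  have := fixTR x
    (inj (by
      show P *ᵥ _ = P *ᵥ _
      rw [Matrix.mulVec_mulVec, ← pT, ← Matrix.mulVec_mulVec, hx', k2, Ry, Ty]))
    (inj (by
      show P *ᵥ _ = P *ᵥ _
      rw [Matrix.mulVec_mulVec, ← pR, ← Matrix.mulVec_mulVec, hx', k1, Ty]))
  rw [this, hP, cols_mulVec] at hx'
  have sy : S *ᵥ y = x 0 • y := by simpa using hx'.symm
  have h4 : (x 0 * x 0 * x 0 - 1) • y = 0 := by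
    have := k3 y
    rw [sy, Matrix.mulVec_smul, sy, Matrix.mulVec_smul, Matrix.mulVec_smul, sy] at this
    rw [sub_smul, one_smul, mul_smul, mul_smul, this, sub_self]
  have h5 : x 0 = 1 := by
    have := (smul_eq_zero.1 h4).resolve_right hw'
    revert this
    generalize x 0 = a
    revert a
    decide
  rw [hP, mul_cols, cols_mS, k3, sy, h5, one_smul]

theorem cols_eta (U : Mat) : ∃ a b c d, U = cols a b c d :=
  ⟨fun i => U i 0, fun i => U i 1, fun i => U i 2, fun i => U i 3, by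
    ext i j; fin_cases j <;> rfl⟩

theorem cols_inj {a b c d a' b' c' d' : V} (h : cols a b c d = cols a' b' c' d') :
    a = a' ∧ b = b' ∧ c = c' ∧ d = d' :=
  ⟨funext fun i => congrFun (congrFun h i) 0, funext fun i => congrFun (congrFun h i) 1,
    funext fun i => congrFun (congrFun h i) 2, funext fun i => congrFun (congrFun h i) 3⟩

theorem cols_mU (a b c d : V) : cols a b c d * mU = cols (-a) b d c := by
  ext i j
  fin_cases j <;> simp [cols, Matrix.mul_apply, mU, Fin.sum_univ_four]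

theorem cols_mU' (a b c d : V) : cols a b c d * (-mU) = cols a (-b) (-d) (-c) := by
  ext i j
  fin_cases j <;> simp [cols, Matrix.mul_apply, mU, Fin.sum_univ_four]

theorem decU : ∀ a : V, a = mT *ᵥ a → a = (mR * mT) *ᵥ a → ∀ b : V, b = mT *ᵥ b →
    -b = (mR * mT) *ᵥ b →
    (cols a b ((mS * mS) *ᵥ b) (mS *ᵥ b)) * (cols a b ((mS * mS) *ᵥ b) (mS *ᵥ b)) = 1 →
    (cols a b ((mS * mS) *ᵥ b) (mS *ᵥ b)).trace = 0 →
    cols a b ((mS * mS) *ᵥ b) (mS *ᵥ b) = mU ∨ cols a b ((mS * mS) *ᵥ b) (mS *ᵥ b) = -mU := by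
  decide +kernel

theorem step2 {U : Mat} (hU : U * U = 1) (h1 : U * mT = mT * U) (h2 : U * mR = mR * mT * U)
    (h3 : U * mS = mS * mS * U) (h4 : U.trace = 0) : U = mU ∨ U = -mU := by
  obtain ⟨a, b, c, d, rfl⟩ := cols_eta U
  rw [cols_mT, mul_cols] at h1
  rw [cols_mR, mul_cols] at h2
  rw [cols_mS, mul_cols] at h3
  obtain ⟨a1, b1, -, -⟩ := cols_inj h1
  obtain ⟨a2, b2, -, -⟩ := cols_inj h2
  obtain ⟨-, rfl, rfl, -⟩ := cols_inj h3
  rw [Matrix.mulVec_mulVec, show mS * mS * (mS * mS) = mS by decide +kernel] at hU h4 ⊢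
  exact decU a a1 a2 b b1 b2 hU h4

/-- change of the sign of `y` -/
def mD : Mat := !![-1, 0, 0, 0; 0, 1, 0, 0; 0, 0, 1, 0; 0, 0, 0, 1]

theorem decW : ∀ a : V, a = mU *ᵥ a → -a = (mT * mU) *ᵥ a → ∀ b : V, b = mU *ᵥ b →
    b = (mT * mU) *ᵥ b → ∀ c : V, -c = mU *ᵥ c →
    (cols a b c ((mT * mU) *ᵥ c)) * (cols a b c ((mT * mU) *ᵥ c)) *
      (cols a b c ((mT * mU) *ᵥ c)) = 1 →
    mR * (cols a b c ((mT * mU) *ᵥ c)) * mR =
      (cols a b c ((mT * mU) *ᵥ c)) * (cols a b c ((mT * mU) *ᵥ c)) →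
    cols a b c ((mT * mU) *ᵥ c) = mW ∨ mD * cols a b c ((mT * mU) *ᵥ c) * mD = mW := by
  decide +kernel

theorem step3 {W : Mat} (h1 : W * mT = mU * W) (h2 : W * mU = mT * mU * W)
    (h3 : W * W * W = 1) (h4 : mR * W * mR = W * W) : W = mW ∨ mD * W * mD = mW := by
  obtain ⟨a, b, c, d, rfl⟩ := cols_eta W
  rw [cols_mT, mul_cols] at h1
  rw [cols_mU, mul_cols] at h2
  obtain ⟨a1, b1, c1, -⟩ := cols_inj h1
  obtain ⟨a2, b2, rfl, -⟩ := cols_inj h2
  exact decW a a1 a2 b b1 b2 c c1 h3 h4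

theorem decW' : ∀ a : V, a = (-mU) *ᵥ a → a = (mT * -mU) *ᵥ a → ∀ b : V, b = (-mU) *ᵥ b →
    -b = (mT * -mU) *ᵥ b → ∀ c : V, -c = (-mU) *ᵥ c →
    (cols a b c (-(mT * -mU) *ᵥ c)) * (cols a b c (-(mT * -mU) *ᵥ c)) *
      (cols a b c (-(mT * -mU) *ᵥ c)) = 1 →
    mR * (cols a b c (-(mT * -mU) *ᵥ c)) * mR =
      (cols a b c (-(mT * -mU) *ᵥ c)) * (cols a b c (-(mT * -mU) *ᵥ c)) →
    mT * ((mS * cols a b c (-(mT * -mU) *ᵥ c)) * (mS * cols a b c (-(mT * -mU) *ᵥ c))) ≠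
      (cols a b c (-(mT * -mU) *ᵥ c) * mS) * (cols a b c (-(mT * -mU) *ᵥ c) * mS) := by
  decide +kernel

theorem step3' {W : Mat} (h1 : W * mT = -mU * W) (h2 : W * -mU = mT * -mU * W)
    (h3 : W * W * W = 1) (h4 : mR * W * mR = W * W) :
    mT * ((mS * W) * (mS * W)) ≠ (W * mS) * (W * mS) := by
  obtain ⟨a, b, c, d, rfl⟩ := cols_eta W
  rw [cols_mT, mul_cols] at h1
  rw [cols_mU', mul_cols] at h2
  obtain ⟨a1, b1, c1, -⟩ := cols_inj h1
  obtain ⟨a2, b2, d2, -⟩ := cols_inj h2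
  obtain rfl : d = -(mT * -mU) *ᵥ c := by rw [Matrix.neg_mulVec, ← d2, neg_neg]
  exact decW' a a1 a2 b b1 b2 c c1 h3 h4

end H28.M2
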