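import Cfsg.Agent.H28.McM2a

/-! The faithful `4`-dimensional `𝔽₃A₆`-module: the normal form of the representation. -/

set_option autoImplicit false
set_option maxRecDepth 100000
set_option synthInstance.maxSize 4096

open H47.MC Equiv Equiv.Perm
open scoped Matrix

namespace H28.M2

/-- change of basis -/
def cg (P P' : Mat) (h : P * P' = 1) (h' : P' * P = 1) : Mat →* Mat where
  toFun X := P' * X * P
  map_one' := by rw [mul_one, h']
  map_mul' X Y := by
    rw [mul_assoc (P' * X) P, ← mul_assoc P, ← mul_assoc P, h, one_mul, mul_assoc, mul_assoc,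
      mul_assoc]

theorem normal_form {A : Type*} [Monoid A] (ρ : A →* Mat) {t r σ τ s : A} (hT : t * t = 1)
    (hR : r * r = 1) (hTR : t * r = r * t) (hS : σ * σ * σ = 1) (h1 : σ * t = r * σ)
    (h2 : σ * r = t * r * σ) (hU : τ * τ = 1) (u1 : τ * t = t * τ) (u2 : τ * r = r * t * τ)
    (u3 : τ * σ = σ * σ * τ) (w1 : s * t = τ * s) (w2 : s * τ = t * τ * s) (w3 : s * s * s = 1)
    (w4 : r * s * r = s * s) (w5 : t * ((σ * s) * (σ * s)) = (s * σ) * (s * σ))
    (hT1 : ρ t ≠ 1) : ∃ (P P' : Mat) (h : P * P' = 1) (h' : P' * P = 1),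
      cg P P' h h' (ρ t) = mT ∧ cg P P' h h' (ρ r) = mR ∧ cg P P' h h' (ρ σ) = mS ∧
      cg P P' h h' (ρ τ) = mU ∧ cg P P' h h' (ρ s) = mW := by
  obtain ⟨P, hP, pT, pR, pS⟩ := step1 (T := ρ t) (R := ρ r) (S := ρ σ)
    (by rw [← map_mul, hT, map_one]) (by rw [← map_mul, hR, map_one])
    (by rw [← map_mul, hTR, map_mul]) (by rw [← map_mul, ← map_mul, hS, map_one])
    (by rw [← map_mul, h1, map_mul]) (by rw [← map_mul, h2, map_mul, map_mul]) hT1
  obtain ⟨u, rfl⟩ := hP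
  have h : (u : Mat) * (u⁻¹ : Matˣ) = 1 := u.mul_inv
  have h' : ((u⁻¹ : Matˣ) : Mat) * u = 1 := u.inv_mul
  set φ : A →* Mat := (cg _ _ h h').comp ρ with hφ
  have key : ∀ {a : A} {M : Mat}, ρ a * u = u * M → φ a = M := fun {a M} e => by
    show ((u⁻¹ : Matˣ) : Mat) * ρ a * u = M
    rw [mul_assoc, e, ← mul_assoc, h', one_mul]
  have fT := key pT
  have fR := key pR
  have fS := key pS
  have W3 : φ s * φ s * φ s = 1 := by rw [← map_mul, ← map_mul, w3, map_one]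
  have W1 : φ s * mT = φ τ * φ s := by rw [← fT, ← map_mul, w1, map_mul]
  have W2 : φ s * φ τ = mT * φ τ * φ s := by rw [← fT, ← map_mul, w2, map_mul, map_mul]
  have W4 : mR * φ s * mR = φ s * φ s := by rw [← fR, ← map_mul, ← map_mul, w4, map_mul]
  have W5 : mT * ((mS * φ s) * (mS * φ s)) = (φ s * mS) * (φ s * mS) := by
    rw [← fT, ← fS]
    simp only [← map_mul]
    rw [w5]
  have tU : (φ τ).trace = 0 := by
    rw [← mul_one (φ τ), ← W3, ← mul_assoc, ← mul_assoc, ← W1, mul_assoc, mul_assoc,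
      Matrix.trace_mul_comm, mul_assoc, W3, mul_one]
    decide +kernel
  rcases step2 (U := φ τ) (by rw [← map_mul, hU, map_one])
    (by rw [← fT, ← map_mul, u1, map_mul]) (by rw [← fT, ← fR, ← map_mul, u2, map_mul, map_mul])
    (by rw [← fS, ← map_mul, u3, map_mul, map_mul]) tU with fU | fU
  · rw [fU] at W1 W2
    rcases step3 W1 W2 W3 W4 with fW | fW
    · exact ⟨_, _, h, h', fT, fR, fS, fU, fW⟩
    · have dd : mD * mD = 1 := by decide +kernel
      have k : ∀ a, mD * (u⁻¹ : Matˣ) * ρ a * (u * mD) = mD * φ a * mD := fun a => by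
        show _ = mD * (((u⁻¹ : Matˣ) : Mat) * ρ a * u) * mD
        simp only [mul_assoc]
      refine ⟨u * mD, mD * (u⁻¹ : Matˣ),
        by rw [mul_assoc, ← mul_assoc mD, dd, one_mul, h],
        by rw [mul_assoc, ← mul_assoc _ _ mD, h', one_mul, dd],
        (k _).trans ?_, (k _).trans ?_, (k _).trans ?_, (k _).trans ?_, (k _).trans fW⟩
      · rw [fT]; decide +kernel
      · rw [fR]; decide +kernel
      · rw [fS]; decide +kernel
      · rw [fU]; decide +kernel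
  · rw [fU] at W1 W2
    exact (step3' W1 W2 W3 W4 W5).elim

abbrev A6 := alternatingGroup (Fin 6)

def pt : Perm (Fin 6) := ⟨![1, 0, 3, 2, 4, 5], ![1, 0, 3, 2, 4, 5], by decide, by decide⟩
def pr : Perm (Fin 6) := ⟨![2, 3, 0, 1, 4, 5], ![2, 3, 0, 1, 4, 5], by decide, by decide⟩
def ps : Perm (Fin 6) := ⟨![0, 2, 3, 1, 4, 5], ![0, 3, 1, 2, 4, 5], by decide, by decide⟩
def pu : Perm (Fin 6) := ⟨![0, 1, 3, 2, 5, 4], ![0, 1, 3, 2, 5, 4], by decide, by decide⟩
def pw : Perm (Fin 6) := ⟨![2, 3, 4, 5, 0, 1], ![4, 5, 0, 1, 2, 3], by decide, by decide⟩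

/-- the five generators -/
def pg : Fin 5 → Perm (Fin 6) := ![pt, pr, ps, pu, pw]

theorem pg_mem : ∀ i, pg i ∈ alternatingGroup (Fin 6) := by
  simp only [mem_alternatingGroup]
  decide +kernel

/-- the five generators in `A₆` -/
def ag (i : Fin 5) : A6 := ⟨pg i, pg_mem i⟩

/-- their matrices -/
def mg : Fin 5 → Mat := ![mT, mR, mS, mU, mW]

def wd : Fin 6 → Fin 6 → List (Fin 5) :=
  ![![[], [], [1, 2], [2, 1, 2], [1, 3, 4, 2, 4], [4, 4, 2, 2, 4]],
  ![[], [], [0, 2, 2], [0, 2], [1, 4, 2, 2, 4], [4, 4, 2, 4]],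
  ![[1, 2], [0, 2, 2], [], [0], [4, 3, 2, 4, 1], [4, 2, 4, 3, 1]],
  ![[2, 1, 2], [0, 2], [0], [], [4, 2, 3, 4, 4], [4, 3, 2, 4, 4]],
  ![[1, 3, 4, 2, 4], [1, 4, 2, 2, 4], [4, 3, 2, 4, 1], [4, 2, 3, 4, 4], [], [0, 3]],
  ![[4, 4, 2, 2, 4], [4, 4, 2, 4], [4, 2, 4, 3, 1], [4, 3, 2, 4, 4], [0, 3], []]]

theorem wd_spec : ∀ x y : Fin 6, x ≠ y → swap 0 1 * swap x y = ((wd x y).map pg).prod := by
  decide +kernel

theorem gen_top (K : Subgroup A6) (h : ∀ i, ag i ∈ K) (a : A6) : a ∈ K := by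
  set K' := K.map (alternatingGroup (Fin 6)).subtype with hK
  have h1 : ∀ x y : Fin 6, x ≠ y → swap 0 1 * swap x y ∈ K' := fun x y hxy => by
    rw [wd_spec x y hxy]
    refine list_prod_mem fun g hg => ?_
    obtain ⟨i, -, rfl⟩ := List.mem_map.1 hg
    exact ⟨ag i, h i, rfl⟩
  have h2 : ∀ f : Perm (Fin 6), (sign f = 1 → f ∈ K') ∧ (sign f = -1 → swap 0 1 * f ∈ K') := by
    intro f
    induction f using swap_induction_on with
    | one => exact ⟨fun _ => one_mem _, fun h => absurd h (by simp)⟩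
    | swap_mul f x y hxy ih =>
      rw [map_mul, sign_swap hxy]
      refine ⟨fun e => ?_, fun e => ?_⟩
      · have := mul_mem (inv_mem (h1 x y hxy)) (ih.2 (by rw [← e]; simp))
        simpa [mul_assoc] using this
      · have := mul_mem (h1 x y hxy) (ih.1 (by simpa using e))
        rwa [mul_assoc] at this
  obtain ⟨b, hb, e⟩ := (h2 a).1 (mem_alternatingGroup.1 a.2)
  rwa [← Subtype.ext e]

theorem normal_A6 (ρ : A6 →* Mat) (hT1 : ρ (ag 0) ≠ 1) :
    ∃ (P P' : Mat) (h : P * P' = 1) (h' : P' * P = 1), ∀ i, cg P P' h h' (ρ (ag i)) = mg i := by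
  obtain ⟨P, P', h, h', a0, a1, a2, a3, a4⟩ := normal_form ρ (t := ag 0) (r := ag 1) (σ := ag 2)
    (τ := ag 3) (s := ag 4) (by decide +kernel) (by decide +kernel) (by decide +kernel)
    (by decide +kernel) (by decide +kernel) (by decide +kernel) (by decide +kernel)
    (by decide +kernel) (by decide +kernel) (by decide +kernel) (by decide +kernel)
    (by decide +kernel) (by decide +kernel) (by decide +kernel) (by decide +kernel) hT1
  refine ⟨P, P', h, h', fun i => ?_⟩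
  fin_cases i
  exacts [a0, a1, a2, a3, a4]

theorem mg_iso : ∀ i, (mg i)ᵀ * B * mg i = B ∧ (mg i).det = 1 ∧ ∀ x, q (mg i *ᵥ x) = q x := by
  decide +kernel

section

variable {ρ : A6 →* Mat} (hρ : ∀ i, ρ (ag i) = mg i)
include hρ

theorem iso (a : A6) : (ρ a)ᵀ * B * ρ a = B ∧ (ρ a).det = 1 ∧ ∀ x, q (ρ a *ᵥ x) = q x := by
  let K : Subgroup A6 :=
    { carrier := {a | (ρ a)ᵀ * B * ρ a = B ∧ (ρ a).det = 1 ∧ ∀ x, q (ρ a *ᵥ x) = q x}
      one_mem' := by simp
      mul_mem' := fun {a b} ha hb => by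
        refine ⟨?_, ?_, fun x => ?_⟩
        · rw [map_mul, Matrix.transpose_mul, mul_assoc, mul_assoc, ← mul_assoc B,
            ← mul_assoc (ρ a)ᵀ, ← mul_assoc (ρ a)ᵀ, ha.1, ← mul_assoc, hb.1]
        · rw [map_mul, Matrix.det_mul, ha.2.1, hb.2.1, one_mul]
        · rw [map_mul, ← Matrix.mulVec_mulVec, ha.2.2, hb.2.2]
      inv_mem' := fun {a} ha => by
        have e : ρ a * ρ a⁻¹ = 1 := by rw [← map_mul, mul_inv_cancel, map_one]
        refine ⟨?_, ?_, fun x => ?_⟩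
        · conv_lhs => rw [← ha.1]
          rw [← mul_assoc, ← mul_assoc, ← Matrix.transpose_mul, mul_assoc, e, mul_one,
            Matrix.transpose_one, one_mul]
        · rw [← one_mul (ρ a⁻¹).det, ← ha.2.1, ← Matrix.det_mul, e, Matrix.det_one, ha.2.1]
        · rw [← ha.2.2, Matrix.mulVec_mulVec, e, Matrix.one_mulVec] }
  exact gen_top K (fun i => by show _ ∧ _; rw [hρ]; exact mg_iso i) a

/-- representatives of the orbits -/
def base (c : ZMod 3) : V := if c = 0 then vz else if c = 1 then vy else ![0, 1, 0, 0]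

/-- distance from the representative -/
def rk (x : V) : ℕ := [0, 1, 2, 2, 2, 1, 3, 2, 3, 0, 4, 3, 3, 2, 1, 2, 2, 3, 1, 3, 4, 3, 2, 2, 3,
  3, 3, 0, 1, 2, 2, 3, 4, 3, 3, 3, 0, 4, 5, 4, 3, 4, 5, 5, 4, 1, 5, 5, 4, 4, 4, 4, 5, 5, 1, 2, 3,
  2, 2, 3, 2, 4, 3, 1, 4, 5, 3, 4, 5, 4, 5, 4, 2, 5, 5, 4, 4, 5, 4, 5, 4].getD
    (27 * (x 0).val + 9 * (x 1).val + 3 * (x 2).val + (x 3).val) 0

omit hρ in
theorem rk_spec : ∀ x : V, x ≠ 0 → x = base (q x) ∨
    ∃ i, rk (mg i *ᵥ x) < rk x ∧ mg i *ᵥ x ≠ 0 := by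
  decide +kernel

theorem trans_base : ∀ (n : ℕ) (x : V), rk x = n → x ≠ 0 → ∃ a, ρ a *ᵥ x = base (q x) := by
  intro n
  induction n using Nat.strong_induction_on with
  | _ n ih =>
    intro x hn hx
    rcases rk_spec x hx with e | ⟨i, h1, h2⟩
    · exact ⟨1, by rw [map_one, Matrix.one_mulVec]; exact e⟩
    · obtain ⟨a, ha⟩ := ih _ (hn ▸ h1) _ rfl h2
      refine ⟨a * ag i, ?_⟩
      rw [map_mul, ← Matrix.mulVec_mulVec, hρ, ha, (mg_iso i).2.2]

theorem trans_q {x y : V} (hx : x ≠ 0) (hy : y ≠ 0) (e : q x = q y) : ∃ a, ρ a *ᵥ x = y := by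
  obtain ⟨a, ha⟩ := trans_base hρ _ x rfl hx
  obtain ⟨b, hb⟩ := trans_base hρ _ y rfl hy
  refine ⟨b⁻¹ * a, ?_⟩
  rw [map_mul, ← Matrix.mulVec_mulVec, ha, e, ← hb, Matrix.mulVec_mulVec, ← map_mul,
    inv_mul_cancel, map_one, Matrix.one_mulVec]

omit hρ in
theorem card_level : ∀ c : ZMod 3, c ≠ 0 →
    (Finset.univ.filter fun y : V => q y = c).card = 30 := by
  decide +kernel

theorem sing_of_nine {x : V} (K : Subgroup A6) (hK : Nat.card K = 9)
    (hx : ∀ a ∈ K, ρ a *ᵥ x = x) : q x = 0 := by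
  by_contra hq
  let _ : MulAction A6 V :=
    { smul := fun a y => ρ a *ᵥ y
      one_smul := fun y => by show ρ 1 *ᵥ y = y; rw [map_one, Matrix.one_mulVec]
      mul_smul := fun a b y => by
        show ρ (a * b) *ᵥ y = ρ a *ᵥ ρ b *ᵥ y
        rw [map_mul, Matrix.mulVec_mulVec] }
  have q0 : q 0 = 0 := by decide
  have h1 : MulAction.orbit A6 x = ↑(Finset.univ.filter fun y : V => q y = q x) := by
    ext y
    simp only [Finset.coe_filter, Finset.mem_univ, true_and, Set.mem_ofPred_eq]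
    constructor
    · rintro ⟨a, rfl⟩
      exact (iso hρ a).2.2 x
    · intro e
      exact trans_q hρ (fun h => hq (h ▸ q0)) (fun h => hq (by rw [← e, h, q0])) e.symm
  have h2 := MulAction.index_stabilizer A6 x
  rw [h1, Set.ncard_coe_finset, card_level _ hq] at h2
  have h3 := (MulAction.stabilizer A6 x).card_mul_index
  have h4 : Nat.card K ∣ Nat.card (MulAction.stabilizer A6 x) :=
    Subgroup.card_dvd_of_le fun a ha => hx a ha
  have h5 : Nat.card A6 = 360 := by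
    rw [nat_card_alternatingGroup, Nat.card_fin]; rfl
  rw [h2, h5] at h3
  rw [hK] at h4
  omega

end

/-- the dihedral group of order `8` -/
def dl : List A6 := [1, ag 0, ag 0 * ag 3, ag 1, ag 1 * ag 3, ag 0 * ag 1, ag 3 * ag 1, ag 3]

theorem dl_spec : ∀ a ∈ dl, a ^ 4 = 1 ∧ a⁻¹ ∈ dl ∧ ∀ b ∈ dl, a * b ∈ dl := by
  decide +kernel

theorem exists_D : ∃ D : Subgroup A6, IsPGroup 2 D ∧ ag 0 ∈ D ∧ ag 1 ∈ D ∧ ag 3 ∈ D :=
  ⟨{ carrier := {a | a ∈ dl}
     one_mem' := by simp [dl]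
     mul_mem' := fun {a b} ha hb => (dl_spec a ha).2.2 b hb
     inv_mem' := fun {a} ha => (dl_spec a ha).2.1 },
    fun a => ⟨2, Subtype.ext (dl_spec a a.2).1⟩, by simp [dl], by simp [dl], by simp [dl]⟩

end H28.M2
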