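import Cfsg.Agent.H74.O8Kit2

/-! Slot XF42 of the tower O8. -/

set_option autoImplicit false

open Cfsg Subgroup H98 H74.OC H74.O8
open scoped IsMulCommutative

namespace H28.O8F

universe u

variable {G : Type u} [Group G] [Finite G]

local instance : Fact (Nat.Prime 2) := ⟨Nat.prime_two⟩
local instance : Fact (Nat.Prime 7) := ⟨by norm_num⟩

theorem ord7 (h : Sp 8 G) {s c : G} (hs : orderOf s = 7) (hc : c * s = s * c) (h1 : c ≠ 1) :
    orderOf c = 7 := by
  have a := h c
  have b := orderOf_pos c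
  by_cases e : 7 ∣ orderOf c
  · omega
  · have := h.mul_le hc (by
      rw [hs]; exact ((Nat.Prime.coprime_iff_not_dvd (by norm_num)).2 e).symm)
    rw [hs] at this
    exact absurd (orderOf_eq_one_iff.1 (by omega)) h1

/-- An element of order 7 is self centralising. -/
theorem cen7 (h : Sp 8 G) {R : Subgroup G} [R.Normal] (hR : IsPGroup 2 R) (hne : R ≠ ⊥) {s c : G}
    (hs : orderOf s = 7) (hc : c * s = s * c) : c ∈ zpowers s := by
  set A : Subgroup G := closure {s, c} with hA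
  have hcomm : IsMulCommutative A := isMulCommutative_closure (by
    rintro x (rfl | rfl) y (rfl | rfl) <;> simp [hc])
  have sA : s ∈ A := subset_closure (by simp)
  have cA : c ∈ A := subset_closure (by simp)
  have o : ∀ a ∈ A, a ≠ 1 → orderOf a = 7 := fun a ha => ord7 h hs (setLike_mul_comm ha sA)
  have p7 : IsPGroup 7 A := isPGroup_iff_forall.2 fun a ha => ⟨1, by
    by_cases e : a = 1
    · simp [e]
    · rw [pow_one, ← o a ha e, pow_orderOf_eq_one]⟩
  have cyc : IsCyclic A := by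
    by_contra nc
    refine hne (le_bot_iff.1 (H46.coprime_abelian_gen_cent1 hcomm nc le_normalizer_of_normal ?_
      fun a ha h1 => (fpf h (.inr (o a ha h1)) hR).le))
    obtain ⟨m, e⟩ := p7.exists_card_eq
    obtain ⟨n, e'⟩ := hR.exists_card_eq
    rw [e, e']
    exact Nat.Coprime.pow m n (by norm_num)
  obtain ⟨g, hg⟩ := cyc.exists_ofOrder_eq_natCard
  have l := h g
  rw [orderOf_coe, hg] at l
  have le : zpowers s ≤ A := zpowers_le.2 sA
  have d := card_dvd_of_le le
  rw [Nat.card_zpowers, hs] at d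
  have := Nat.card_pos (α := A)
  exact (eq_of_le_of_card_ge le (by rw [Nat.card_zpowers, hs]; omega)).ge cA

theorem syl7 (h : Sp 8 G) {R : Subgroup G} [R.Normal] (hR : IsPGroup 2 R) (hne : R ≠ ⊥) {s : G}
    (hs : orderOf s = 7) : IsSyl 7 (zpowers s) ⊤ := by
  have s1 : s ≠ 1 := by rintro rfl; simp at hs
  refine ⟨le_top, isPGroup_zpowers (k := 1) (by rw [pow_one, ← hs, pow_orderOf_eq_one]),
    fun Q hQ h1 _ => le_antisymm (fun q hq => ?_) h1⟩
  have sQ := h1 (mem_zpowers s)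
  obtain ⟨⟨z, hz⟩, z1⟩ := ne_bot_iff_exists_ne_one.1 (oz_ne_bot hQ (by
    rintro rfl; exact s1 (mem_bot.1 sQ)))
  have c := oz_le_centralizer Q hz
  have zs : z * s = s * z := (c s sQ).symm
  exact zpowers_le.2 (cen7 h hR hne hs zs)
    (cen7 h hR hne (ord7 h hs zs fun e => z1 (Subtype.ext e)) (c q hq))

/-- Sylow conjugacy of elements of order 7. -/
theorem conj7 (h : Sp 8 G) {R : Subgroup G} [R.Normal] (hR : IsPGroup 2 R) (hne : R ≠ ⊥) {s t : G}
    (hs : orderOf s = 7) (ht : orderOf t = 7) {M : Subgroup G} (h1 : s ∈ M) (h2 : t ∈ M) :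
    ∃ m ∈ M, ∃ k : ℕ, k < 7 ∧ m * t * m⁻¹ = s ^ k := by
  classical
  obtain ⟨m, hm, e⟩ := ((syl7 h hR hne hs).of_le (zpowers_le.2 h1) le_top).exists_cj_le
    (syl7 h hR hne ht).isPGroup (zpowers_le.2 h2)
  have : m * t * m⁻¹ ∈ zpowers s := e ⟨t, mem_zpowers t, rfl⟩
  rw [← mem_powers_iff_mem_zpowers, (isOfFinOrder_of_finite s).mem_powers_iff_mem_range_orderOf,
    hs] at this
  obtain ⟨k, hk, e⟩ := Finset.mem_image.1 this
  exact ⟨m, hm, k, Finset.mem_range.1 hk, e.symm⟩

omit [Finite G] in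
theorem conj_iter {K : Type*} [Group K] {y t : K} {k : ℕ} (e : y * t * y⁻¹ = t ^ k) (n : ℕ) :
    y ^ n * t * (y ^ n)⁻¹ = t ^ k ^ n := by
  induction n with
  | zero => simp
  | succ n ih =>
    calc y ^ (n + 1) * t * (y ^ (n + 1))⁻¹ = y * (y ^ n * t * (y ^ n)⁻¹) * y⁻¹ := by
          rw [pow_succ']; group
      _ = t ^ k ^ (n + 1) := by rw [ih, ← conj_pow, e, ← pow_mul, pow_succ']

theorem pow6 (h : Sp 8 G) {K : Type*} [Group K] (f : G →* K) {y : G} {t : K} (ht : orderOf t = 7)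
    (e : f y * t * (f y)⁻¹ = t ^ 3) : y ^ 6 = 1 := by
  have a := conj_iter e (orderOf y)
  rw [← map_pow, pow_orderOf_eq_one, map_one, one_mul, inv_one, mul_one] at a
  have b : 1 ≡ 3 ^ orderOf y [MOD 7] := by
    rw [← ht, ← pow_eq_pow_iff_modEq, pow_one]; exact a
  have c := h y
  have d := orderOf_pos y
  have : orderOf y = 6 := by
    generalize orderOf y = n at b c d
    interval_cases n <;> first | rfl | (exact absurd b (by decide))
  rw [← this, pow_orderOf_eq_one]

section Norm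

variable {V : Subgroup G} [V.Normal] [IsMulCommutative V]

/-- Conjugation on a normal subgroup. -/
abbrev ca (V : Subgroup G) [V.Normal] (g : G) (v : V) : V := MulAut.conjNormal g v

theorem norm7 (h : Sp 8 G) (hV : IsPGroup 2 V) {t : G} (ht : orderOf t = 7) (w : V) :
    ∏ i ∈ Finset.range 7, ca V (t ^ i) w = 1 := by
  set n := ∏ i ∈ Finset.range 7, ca V (t ^ i) w with hn
  have e : ca V t n = n := by
    have a : ca V t n = ∏ i ∈ Finset.range 7, ca V (t ^ (i + 1)) w := by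
      rw [hn, ca, map_prod]
      refine Finset.prod_congr rfl fun i _ => ?_
      rw [pow_succ', ca, ca, map_mul, MulAut.mul_apply]
    have t7 : t ^ (6 + 1) = t ^ 0 := by
      rw [pow_zero, show 6 + 1 = orderOf t from ht.symm, pow_orderOf_eq_one]
    rw [a, hn, Finset.prod_range_succ, Finset.prod_range_succ' _ 6, t7]
  have m : (n : G) ∈ V ⊓ centralizer ({t} : Set G) := ⟨n.2, mem_centralizer_singleton_iff.2 (by
    have := congrArg Subtype.val e
    rw [MulAut.conjNormal_apply] at this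
    exact (mul_inv_eq_iff_eq_mul.1 this).symm)⟩
  rw [fpf h (.inr ht) hV] at m
  exact Subtype.ext (mem_bot.1 m)

omit [Finite G] in
theorem mul_pow_eq (g : G) (v : V) (n : ℕ) :
    ((v : G) * g) ^ n = (∏ j ∈ Finset.range n, ca V (g ^ j) v : V) * g ^ n := by
  induction n with
  | zero => simp
  | succ n ih =>
    rw [pow_succ, ih, Finset.prod_range_succ, coe_mul, MulAut.conjNormal_apply, pow_succ]
    group

omit [Finite G] in
theorem tw_pow {s g : G} (e : g * s * g⁻¹ = s ^ 3) (i j : ℕ) :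
    (s ^ i * g) ^ j = (s ^ (∑ l ∈ Finset.range j, 3 ^ l)) ^ i * g ^ j := by
  induction j with
  | zero => simp
  | succ j ih =>
    have a : g ^ j * s ^ i * (g ^ j)⁻¹ = (s ^ 3 ^ j) ^ i := by rw [← conj_pow, conj_iter e]
    rw [pow_succ, ih, Finset.sum_range_succ, pow_add, Commute.mul_pow (Commute.pow_pow_self s _ _),
      ← a, pow_succ]
    group

end Norm

/-- No element acts as a generator of the automorphism group of `<s>`. -/
theorem no42 (h : Sp 8 G) {K : Type*} [Group K] (f : G →* K) (hR : IsPGroup 2 f.ker)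
    (hne : f.ker ≠ ⊥) {s g : G} (hs : orderOf (f s) = 7) (e : g * s * g⁻¹ = s ^ 3) : False := by
  have os := ord_eq h f (by norm_num) hs
  set V := oz 2 f.ker with hV
  have : V.Normal := normalizer_eq_top_iff.1
    (top_le_iff.1 (le_normalizer_oz le_normalizer_of_normal))
  have : IsMulCommutative V := (ea_oz _).1
  have p2 : IsPGroup 2 V := isPGroup_oz _
  obtain ⟨v, v1⟩ := ne_bot_iff_exists_ne_one.1 (oz_ne_bot hR hne)
  have n6 : ∀ i : ℕ, ∏ j ∈ Finset.range 6, ca V ((s ^ i * g) ^ j) v = 1 := fun i => by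
    have e1 : f (s ^ i * g) * f s * (f (s ^ i * g))⁻¹ = f s ^ 3 := by
      rw [← map_pow, ← map_inv, ← map_mul, ← map_mul]
      congr 1
      calc s ^ i * g * s * (s ^ i * g)⁻¹ = s ^ i * (g * s * g⁻¹) * (s ^ i)⁻¹ := by group
        _ = s ^ 3 := by rw [e]; group
    have a := pow6 h f hs e1
    have b := pow6 h f (y := v * (s ^ i * g)) hs (by
      rw [map_mul, MonoidHom.mem_ker.1 (oz_le _ v.2), one_mul, e1])
    rw [mul_pow_eq, a, mul_one] at b
    exact Subtype.ext b
  have n7 : ∀ j : ℕ, 0 < j → j < 6 → ∏ i ∈ Finset.range 7, ca V ((s ^ i * g) ^ j) v = 1 :=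
    fun j h0 h6 => by
      have o : orderOf (s ^ (∑ l ∈ Finset.range j, 3 ^ l)) = 7 := by
        rw [← os]
        refine Nat.Coprime.orderOf_pow ?_
        rw [os]
        interval_cases j <;> decide
      rw [← norm7 h p2 o (ca V (g ^ j) v)]
      refine Finset.prod_congr rfl fun i _ => ?_
      rw [tw_pow e, ca, ca, ca, map_mul, MulAut.mul_apply]
  have k : ∏ j ∈ Finset.range 6, ∏ i ∈ Finset.range 7, ca V ((s ^ i * g) ^ j) v = 1 := by
    rw [Finset.prod_comm]
    exact Finset.prod_eq_one fun i _ => n6 i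
  rw [Finset.prod_range_succ', Finset.prod_eq_one fun j hj =>
    n7 (j + 1) j.succ_pos (by have := Finset.mem_range.1 hj; omega), one_mul] at k
  simp only [pow_zero, ca, map_one, MulAut.one_apply, Finset.prod_const, Finset.card_range] at k
  have v2 : v ^ 2 = 1 := Subtype.ext ((ea_oz f.ker).2 v v.2)
  refine v1 ?_
  calc v = (v ^ 2) ^ 3 * v := by rw [v2, one_pow, one_mul]
    _ = v ^ 7 := by group
    _ = 1 := k

theorem f21 : ∃ s x : L32, orderOf s = 7 ∧ x * s * x⁻¹ = s ^ 2 := by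
  refine ⟨⟨!![0, 0, 1; 1, 0, 1; 0, 1, 0], by decide⟩, ⟨!![1, 0, 0; 0, 0, 1; 0, 1, 1], by decide⟩,
    orderOf_eq_prime ?_ ?_, mul_inv_eq_iff_eq_mul.2 ?_⟩
  · exact Subtype.ext (by decide)
  · exact fun e => absurd (congrArg Subtype.val e) (by decide)
  · exact Subtype.ext (by decide)

theorem jobXF42 : JobXF42.{u} := by
  intro H K _ _ _ f N c hne hN ⟨φ⟩
  have h := c.sp
  obtain ⟨s0, x0, o0, e0⟩ := f21
  obtain ⟨s, hs⟩ := c.sur (φ.symm s0 : N)
  obtain ⟨x1, hx⟩ := c.sur (φ.symm x0 : N)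
  have ofs : orderOf (f s) = 7 := by rw [hs, orderOf_coe, MulEquiv.orderOf_eq, o0]
  have os := ord_eq h f (by norm_num) ofs
  have sN : f s ∈ N := hs ▸ (φ.symm s0).2
  have e1 : f x1 * f s * (f x1)⁻¹ = f s ^ 2 := by
    rw [hs, hx, ← coe_pow, ← map_pow, ← e0, map_mul, map_mul, map_inv]; rfl
  have oc : ∀ y : H, orderOf (y * s * y⁻¹) = 7 := fun y => by
    rw [← os]; exact (MulAut.conj y).orderOf_eq s
  obtain ⟨x, xN, e2⟩ : ∃ x : H, f x ∈ N ∧ x * s * x⁻¹ = s ^ 2 := by
    obtain ⟨m, hm, k, hk, e⟩ := conj7 h c.two hne os (oc x1) (M := (zpowers (f s)).comap f)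
      (mem_zpowers _) (by
        rw [mem_comap, map_mul, map_mul, map_inv, e1]; exact pow_mem (mem_zpowers _) 2)
    refine ⟨m * x1, by
      rw [map_mul, hx]; exact mul_mem (zpowers_le.2 sN hm) (φ.symm x0).2, ?_⟩
    have a := congrArg f e
    obtain ⟨z, hz⟩ := mem_zpowers_iff.1 (mem_comap.1 hm)
    rw [map_mul, map_mul, map_mul, map_mul, map_inv, map_inv, e1, ← hz, map_pow] at a
    have b : f s ^ 2 = f s ^ k := by rw [← a]; group
    rw [pow_eq_pow_iff_modEq, ofs, ← os, ← pow_eq_pow_iff_modEq] at b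
    rw [b, ← e]; group
  refine eq_top_iff.2 fun k _ => ?_
  obtain ⟨y, rfl⟩ := c.sur k
  obtain ⟨m, hm, k, hk, e⟩ := conj7 h c.two hne os (oc y) (M := N.comap f) sN (by
    rw [mem_comap, map_mul, map_mul, map_inv]; exact hN.conj_mem _ sN _)
  have tw : ∀ i j : ℕ, k * 2 ^ i ≡ j [MOD 7] →
      x ^ i * (m * y) * s * (x ^ i * (m * y))⁻¹ = s ^ j := fun i j hj => by
    calc x ^ i * (m * y) * s * (x ^ i * (m * y))⁻¹
        = x ^ i * (m * (y * s * y⁻¹) * m⁻¹) * (x ^ i)⁻¹ := by group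
      _ = s ^ j := by
        rw [e, ← conj_pow, conj_iter e2, ← pow_mul, pow_eq_pow_iff_modEq, os, mul_comm]; exact hj
  have good : ∀ i : ℕ, k * 2 ^ i ≡ 1 [MOD 7] → f y ∈ N := fun i hi => by
    have a := tw i 1 hi
    rw [pow_one, mul_inv_eq_iff_eq_mul] at a
    have b : x ^ i * (m * y) ∈ N.comap f :=
      (zpowers_le (H := N.comap f)).2 sN (cen7 h c.two hne os a)
    rw [mem_comap, map_mul, map_mul, map_pow] at b
    exact (mul_mem_cancel_left (mem_comap.1 hm)).1 ((mul_mem_cancel_left (pow_mem xN i)).1 b)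
  have bad : ∀ i : ℕ, ¬ k * 2 ^ i ≡ 3 [MOD 7] := fun i hi => no42 h f c.two hne ofs (tw i 3 hi)
  interval_cases k
  · have := oc y
    rw [← (MulAut.conj m).orderOf_eq, MulAut.conj_apply, e] at this
    simp at this
  · exact good 0 (by decide)
  · exact good 2 (by decide)
  · exact absurd (by decide) (bad 0)
  · exact good 1 (by decide)
  · exact absurd (by decide) (bad 1)
  · exact absurd (by decide) (bad 2)

end H28.O8F
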