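import Cfsg.Agent.H97.QPSpec
import Cfsg.Agent.H97.QTPU

/-! `H97.QP.JobNB` (blueprints/QP.md): `P` and `N(B(S))` lie in a common parabolic subgroup. -/

set_option autoImplicit false

open Cfsg Subgroup H98 H97 H97.NG H97.QP H48.NG H32.NP
open scoped commutatorElement

namespace H28.QP

universe u

variable {G : Type*} [Group G] [Finite G] {B W : Subgroup G} {x z : G}

theorem exists_compl {A N : Subgroup G} (hA : IsSyl 2 A N) (hn : N ≤ normalizer (A : Set G)) :
    ∃ K : Subgroup G, K ≤ N ∧ Odd (Nat.card K) ∧ N ≤ A ⊔ K := by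
  have : (A.subgroupOf N).Normal := (normal_subgroupOf_iff_le_normalizer hA.le).2 hn
  have hc : Nat.Coprime (Nat.card (A.subgroupOf N)) (A.subgroupOf N).index := by
    obtain ⟨k, hk⟩ := IsPGroup.iff_card.1 (isPGroup_subgroupOf hA.isPGroup N)
    rw [hk]
    exact Nat.Coprime.pow_left _
      ((Nat.Prime.coprime_iff_not_dvd Nat.prime_two).2 hA.not_dvd_relIndex)
  obtain ⟨K, hK⟩ := exists_right_complement'_of_coprime hc
  refine ⟨K.map N.subtype, map_subtype_le _, ?_, ?_⟩
  · rw [card_map_of_injective N.subtype_injective, ← hK.symm.index_eq_card]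
    exact Nat.not_even_iff_odd.1 fun h => hA.not_dvd_relIndex h.two_dvd
  · have := congrArg (map N.subtype) hK.sup_eq_top
    rw [Subgroup.map_sup, map_subgroupOf_eq_of_le hA.le, ← MonoidHom.range_eq_map,
      range_subtype] at this
    exact this.ge

/-- A Sylow `2`-subgroup that is central modulo `D` lies in `D` when `K = O²(K)`. -/
theorem le_of_central {K T D : Subgroup G} (hK : res 2 K = K) (hT : IsSyl 2 T K)
    (hn : K ≤ normalizer (T : Set G)) (hD : IsPGroup 2 D) (hKD : K ≤ normalizer (D : Set G))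
    (hc : ⁅T, K⁆ ≤ D) : T ≤ D := by
  obtain ⟨X, h1, h2, h3⟩ := exists_compl hT hn
  have h4 : T ≤ normalizer ((X ⊔ D : Subgroup G) : Set G) := fun t ht =>
    mem_normalizer_of_cj_le (by
      rw [cj_sup, cj_eq_self (hKD (hT.le ht))]
      refine sup_le ?_ le_sup_right
      rintro _ ⟨a, ha, rfl⟩
      have e : (MulAut.conj t).toMonoidHom a = ⁅t, a⁆ * a := by
        simp [commutatorElement_def, mul_assoc]
      rw [e]
      exact mul_mem (mem_sup_right (hc (commutator_mem_commutator ht (h1 ha)))) (mem_sup_left ha))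
  have h5 : K ≤ X ⊔ D := hK.ge.trans ((res_mono (h3.trans (sup_le_sup_left le_sup_left _))).trans
    (res_sup_le_right hT.isPGroup h4))
  intro t ht
  obtain ⟨a, ha, d, hd, e⟩ := (mem_sup_left_norm (h1.trans hKD)).1 (h5 (hT.le ht))
  have h6 : IsPGroup 2 ↥(T ⊔ D) := hT.isPGroup.to_sup_of_normal_right' hD (hT.le.trans hKD)
  have h7 : a ∈ T ⊔ D := by
    rw [eq_mul_inv_of_mul_eq e.symm]
    exact mul_mem (mem_sup_left ht) (inv_mem (mem_sup_right hd))
  obtain ⟨k, hk⟩ := isPGroup_iff_forall.1 h6 a h7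
  have h8 : a ∈ (⊥ : Subgroup G) := mem_of_pow_odd (m := k) h2
    (mem_bot.2 (congrArg Subtype.val (pow_card_eq_one' (x := (⟨a, ha⟩ : X))))) (mem_bot.2 hk)
  rw [e, mem_bot.1 h8, one_mul]
  exact hd

omit [Finite G] in
/-- A `2`-element of `⟨x⟩ C(W)` centralizes `W`. -/
theorem mem_cent_of_two (h : BC B W x) {g : G} {m : ℕ}
    (hg : g ∈ zpowers x ⊔ centralizer (W : Set G)) (h2 : g ^ 2 ^ m = 1) :
    g ∈ centralizer (W : Set G) := by
  have hx := normalizer_le_normalizer_centralizer W h.nx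
  obtain ⟨_, ⟨k, rfl⟩, c, hc, rfl⟩ := (mem_sup_left_norm (zpowers_le.2 hx)).1 hg
  obtain ⟨n, hn, h1⟩ := h.odd
  exact mem_of_pow_odd hn (pow_mul_mem hx h1.2 hc k) (h2 ▸ one_mem _)

/-- A `2`-element of `⟨x⟩ B` that centralizes `W` lies in `B`. -/
theorem mem_B_of_two (h : BC B W x) {g : G} {m : ℕ} (hg : g ∈ zpowers x ⊔ B)
    (hc : g ∈ centralizer (W : Set G)) (h2 : g ^ 2 ^ m = 1) : g ∈ B := by
  obtain ⟨k, b, hb, rfl⟩ := mem_P h hg
  obtain ⟨j, hj⟩ := isPGroup_iff_forall.1 h.pB b hb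
  have h1 : b ∈ centralizer (W : Set G) := mem_cent_of_two h (by
    have := mul_mem (inv_mem (mem_sup_left (zpow_mem (mem_zpowers x) k))) (mem_sup_right hc)
    rwa [inv_mul_cancel_left] at this) hj
  obtain ⟨n, hn, h3⟩ := h.odd
  exact (mem_of_pow_odd (K := RR B W) hn (pow_mul_mem h.nR h3 ⟨hb, h1⟩ k) (h2 ▸ one_mem _)).1

/-- The stabilizer of `z` in `N(W)` normalizes `⟨x⟩ C(W)`. -/
theorem mem_normalizer_A (h : BC B W x) (hz : Zc B W z) {t : G} (ht : t ∈ normalizer (W : Set G))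
    (e : t * z = z * t) :
    t ∈ normalizer ((zpowers x ⊔ centralizer (W : Set G) : Subgroup G) : Set G) := by
  by_cases c : t ∈ centralizer (W : Set G)
  · exact le_normalizer (mem_sup_right c)
  obtain ⟨b, hb, hb'⟩ := exists_notMem h
  have h1 := f_mul_cent h.four ht (h.nB hb) hz.mem hz.ne e (hz.comm b hb) c hb'
  have h2 : b ∈ normalizer ((zpowers x ⊔ centralizer (W : Set G) : Subgroup G) : Set G) := by
    refine mem_normalizer_of_cj_le ?_
    rw [cj_sup, cj_eq_self (normalizer_le_normalizer_centralizer W (h.nB hb)),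
      H48.NG.cj_zpowers]
    refine sup_le (zpowers_le.2 ?_) le_sup_right
    have := mul_mem (mem_sup_right (h.inv b hb hb').2) (inv_mem (mem_sup_left (mem_zpowers x)))
    rwa [mul_inv_cancel_right] at this
  have := mul_mem (le_normalizer (mem_sup_right h1)) (inv_mem h2)
  rwa [mul_inv_cancel_right] at this

theorem jobNB : JobNB.{u} := by
  intro G _ _ S P W x z s hS hC hX
  have h := hX.bc
  set B := BT S with hB
  set Q := pCoreOf 2 P with hQ
  set K := res 2 P with hK
  have hSP := hX.le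
  have hBS : B ≤ S := bm_le S
  have hSB : S ≤ normalizer (B : Set G) := fun _ => nB
  have hPQ : P ≤ normalizer (Q : Set G) := self_le_normalizer_pCoreOf P
  have hQS : Q ≤ S := hX.syl.pCoreOf_le
  have hQW : Q ≤ centralizer (W : Set G) :=
    hX.core.le.trans (inf_le_right.trans (H98.centralizer_anti le_sup_left))
  have hPK : P ≤ normalizer (K : Set G) := self_le_normalizer_res P
  have key : ∀ D : Subgroup G, S ≤ normalizer (D : Set G) → x ∈ D → K ≤ D := fun D h1 h2 =>
    (res_mono (hX.eq.le.trans (sup_le_sup_left (zpowers_le.2 h2) _))).trans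
      (res_sup_le_right hX.syl.isPGroup h1)
  -- `[Q, x] ≤ B`
  have hN : Q ≤ normalizer ((zpowers x ⊔ B : Subgroup G) : Set G) := by
    have e : zpowers x ⊔ B = ncl (zpowers x ⊔ Q) B := by
      refine le_antisymm ((P_le h).trans (sup_le (cj_le_ncl (mem_sup_left (mem_zpowers x)))
        (le_ncl _ _))) (ncl_le_iff.2 fun g hg => ?_)
      obtain ⟨a, ha, q, hq, rfl⟩ := (mem_sup_left_norm (zpowers_le.2 (hPQ hX.x_mem))).1 hg
      rw [← cj_cj, cj_eq_self (hSB (hQS hq))]
      exact cj_le_of_le_of_mem le_sup_right (mem_sup_left ha)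
    rw [e]
    exact le_sup_right.trans (le_normalizer_ncl _ _)
  have hxV : x ∈ normalizer ((W ⊔ cj s W : Subgroup G) : Set G) := hX.nV hX.x_mem
  have hQB : P ≤ normalizer ((Q ⊓ B : Subgroup G) : Set G) := by
    rw [hX.eq]
    refine sup_le (le_normalizer_inf (hSP.trans hPQ) hSB) (zpowers_le.2 ?_)
    have e : Q ⊓ B = RR B W ⊓ centralizer ((W ⊔ cj s W : Subgroup G) : Set G) :=
      le_antisymm (le_inf (le_inf inf_le_right (inf_le_left.trans hQW))
        (inf_le_left.trans (hX.core.le.trans inf_le_right)))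
        (le_inf (le_trans (inf_le_inf_right _ (inf_le_left.trans hBS)) hX.core.ge)
          (inf_le_left.trans inf_le_left))
    rw [e]
    exact le_normalizer_inf (zpowers_le.2 h.nR)
      (le_normalizer_centralizer (zpowers_le.2 hxV)) (mem_zpowers x)
  have h1 : K ≤ stab Q (Q ⊓ B) := key _ (hSP.trans (le_normalizer_stab hPQ hQB))
    (H98.mem_stab.2 ⟨hQB hX.x_mem, fun q hq => by
      have c := comm_mem hq (hPQ hX.x_mem)
      obtain ⟨m, hm⟩ := isPGroup_iff_forall.1 (isPGroup_pCoreOf P) _ c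
      refine ⟨c, mem_B_of_two h ?_ (hQW c) hm⟩
      exact mul_mem (conj_mem_of_mem_normalizer (hN hq) (mem_sup_left (mem_zpowers x)))
        (inv_mem (mem_sup_left (mem_zpowers x)))⟩)
  -- `S ∩ K ≤ Q`
  set A := zpowers x ⊔ centralizer (W : Set G) with hA
  have h2 : K ≤ ⨅ t ∈ S, cj t A := by
    refine key _ (fun g hg => mem_normalizer_of_cj_le (le_iInf₂ fun t ht => ?_)) ?_
    · refine (cj_mono g (iInf₂_le _ (mul_mem (inv_mem hg) ht))).trans ?_
      rw [cj_cj, mul_inv_cancel_left]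
    · simp only [mem_iInf]
      intro t ht
      by_cases e : cj t W = W
      · rw [cj_eq_self (mem_normalizer_A h hX.zc (cj_eq_self_iff.1 e) ((hX.fix ht).1 e))]
        exact mem_sup_left (mem_zpowers x)
      · exact cj_mono t le_sup_right (by rw [cj_centralizer]; exact (hX.ind t ht e).2.2)
  have h3 : S ⊓ K ≤ Q := by
    rintro g ⟨hg, hg'⟩
    have k : ∀ t ∈ S, g ∈ centralizer (cj t W : Set G) := fun t ht => by
      obtain ⟨m, hm⟩ := isPGroup_iff_forall.1 hX.syl.isPGroup _
        (mul_mem (mul_mem (inv_mem ht) hg) ht)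
      rw [← cj_centralizer, mem_cj]
      exact mem_cent_of_two h (mem_cj.1 ((h2.trans (iInf₂_le t ht)) hg')) hm
    refine hX.core.ge ⟨hg, ?_⟩
    rw [H98.centralizer_sup]
    exact ⟨by simpa using k 1 (one_mem _), k s hX.mem⟩
  have hT : IsSyl 2 (S ⊓ K) K := hX.syl.inf_of_le_normalizer (res_le P) (hSP.trans hPK)
  have h4 : S ⊓ K ≤ Q ⊓ B := by
    refine le_of_central (res_res P) hT ?_ (isPGroup_pCoreOf P).to_inf_left
      ((res_le P).trans hQB) ((commutator_mono h3 le_rfl).trans (le_stab_iff.1 h1).2)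
    rw [show S ⊓ K = Q ⊓ K from le_antisymm (le_inf h3 inf_le_right) (inf_le_inf_right _ hQS)]
    exact le_normalizer_inf ((res_le P).trans hPQ) le_normalizer
  have h5 : IsSyl 2 B (K ⊔ B) := by
    have := hX.syl.inf_of_le_normalizer (N := B ⊔ K) (sup_le (hBS.trans hSP) (res_le P))
      (le_normalizer_sup hSB (hSP.trans hPK))
    rwa [inf_comm, sup_inf_of_le_left (hBS.trans (hSP.trans hPK)) hBS,
      sup_eq_left.2 ((inf_comm K S).le.trans (h4.trans inf_le_right)), sup_comm] at this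
  obtain ⟨M, hM⟩ := hC.umax
  obtain ⟨R, r1, r2, r3, r4⟩ := H97.QT.push_up hS.syl
    (fun U u1 u2 u3 => hS.chr _ u3 (core_ne_bot_of u1 u2 le_normalizer le_rfl)) hX.chr hM
    (fun e => h.four.ne_bot (eq_bot_iff.2 (e ▸ h.le))) hBS h5 hSB
  exact core_ne_bot_of (h.pB.to_le r2) r1 (r2.trans (le_sup_of_le_right le_normalizer))
    (sup_le r4 r3)

end H28.QP
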