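import Cfsg.Agent.H46.SFY
import Cfsg.Agent.H86.NUE
import Cfsg.Agent.H63.Cent

/-! STD-F4: the filtration of the unipotent subgroup of `E₆(K)` by the roots of `F₄`. -/

set_option autoImplicit false
set_option linter.unusedSectionVars false
set_option synthInstance.maxSize 4000

open Subgroup H98 Cfsg Cfsg.Lie H63 H64 H65 H46.SF
open H64.SF hiding Rt
open H64.SG (Cz Cs Ns UU x_mem_gen)
open H67.SA (cm)
open H86.NU (posE)

namespace H28.L6

/-- The root of `F₄` under a root of `E₆`. -/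
def ka (s : ℕ) : ℕ := [0, 1, 2, 3, 7, 3, 4, 8, 5, 9, 11, 6, 10, 12, 13, 14, 7, 8, 15, 9, 16, 18, 11,
  18, 21, 23, 10, 17, 19, 20, 12, 19, 22, 13, 20, 14, 33, 27, 34, 25, 28, 35, 27, 28, 30, 37, 24, 26,
  29, 36, 29, 31, 38, 32, 39, 40, 33, 34, 35, 37, 41, 36, 38, 42, 39, 43, 44, 40, 44, 45, 46,
  47].getD s 48

theorem ka_o : ∀ r < 48, ka (o1 r) = r ∧ ka (o2 r) = r ∧ (24 ≤ r → 36 ≤ o1 r ∧ 36 ≤ o2 r) := by
  decide +kernel

theorem ka_spec : ∀ s < 72, ka s < 48 ∧ (36 ≤ s → 24 ≤ ka s) ∧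
    (s = o1 (ka s) ∨ sh (ka s) = true ∧ s = o2 (ka s)) := by decide +kernel

theorem t_add : ∀ a < 72, ∀ b < 72, 36 ≤ a → 36 ≤ b → 0 ≤ chevE6.pairing a b ∨
    c1 a b (r6 a b) ∧ 36 ≤ r6 a b ∧ ka a < ka (r6 a b) ∧ ka b < ka (r6 a b) := by decide +kernel

variable (K : Type) [Field K]

/-- The layers `r ≥ k`. -/
noncomputable def NK (k : ℕ) : Subgroup (chevE6.group K) :=
  gen (XR chevE6 (xG chevE6 K)) {s | 36 ≤ (s : ℕ) ∧ k ≤ ka s}

/-- `U` -/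
noncomputable abbrev UE : Subgroup (chevE6.group K) := UU chevE6 (xG chevE6 K)

theorem stBE : StB chevE6 (xG chevE6 K) := (H64.SG.ad chevE6 K).toStB

variable {K}

local notation "X" => xG chevE6 K

theorem NK_anti {k l : ℕ} (h : k ≤ l) : NK K l ≤ NK K k := gen_mono _ fun _ hs => ⟨hs.1, h.trans hs.2⟩

theorem NK_le (k : ℕ) : NK K k ≤ UE K := gen_mono _ fun s hs => (posE s).2 hs.1

theorem NK_24 : NK K 24 = UE K := le_antisymm (NK_le _) (gen_mono _ fun s hs =>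
  ⟨(posE s).1 hs, (ka_spec s s.2).2.1 ((posE s).1 hs)⟩)

theorem NK_48 : NK K 48 = ⊥ := eq_bot_iff.2 (H64.gen_le fun s hs =>
  absurd hs.2 (ka_spec s s.2).1.not_ge)

theorem x_mem_NK {s k : ℕ} (hs : s < 72) (h1 : 36 ≤ s) (h2 : k ≤ ka s) (a : K) : X s a ∈ NK K k :=
  x_mem_gen (r := ⟨s, hs⟩) (S := {s | 36 ≤ (s : ℕ) ∧ k ≤ ka s}) ⟨h1, h2⟩ a

theorem yE_mem_NK {r k : ℕ} (hr : r < 48) (h1 : 24 ≤ r) (h2 : k ≤ r) (a b : K) :
    yE K r a b ∈ NK K k := by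
  obtain ⟨a1, a2, a3⟩ := ka_o r hr
  exact H86.NU.yE_mem (x_mem_NK (o_facts r hr).1 (a3 h1).1 (a1.symm ▸ h2))
    (x_mem_NK (o_facts r hr).2.1 (a3 h1).2 (a2.symm ▸ h2)) a b

theorem yE_mem_U {r : ℕ} (hr : r < 48) (h1 : 24 ≤ r) (a b : K) : yE K r a b ∈ UE K :=
  NK_le _ (yE_mem_NK hr h1 le_rfl a b)

theorem cm_mul_left {G : Type*} [Group G] (a b c : G) : cm (a * b) c = a * cm b c * a⁻¹ * cm a c := by
  simp only [cm]; group

theorem cm_mul_right {G : Type*} [Group G] (a b c : G) : cm a (b * c) = cm a b * (b * cm a c * b⁻¹) := by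
  simp only [cm]; group

variable [CharP K 2]

theorem cm_x {a b : ℕ} (ha : a < 72) (hb : b < 72) (h1 : 36 ≤ a) (h2 : 36 ≤ b) {A : Subgroup _}
    (h : 0 ≤ chevE6.pairing a b ∨ ∀ c, X (r6 a b) c ∈ A) (s t : K) : cm (X a s) (X b t) ∈ A := by
  by_cases e : 0 ≤ chevE6.pairing a b
  · rw [H67.SA.cm_eq_one.2 (c0.comm ⟨ha, hb, e⟩ (stE K) s t).eq]; exact one_mem _
  · have : cm (X a s) (X b t) = X (r6 a b) (s * t) :=
      etE6.commutator_add (stE K) ((t_add a ha b hb h1 h2).resolve_left e).1.rt s t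
    exact this ▸ h.resolve_left e _

theorem commUp (k : ℕ) : CommUp (XR chevE6 X) {s | 36 ≤ (s : ℕ) ∧ k ≤ ka s} fun s => ka s :=
  fun a ha b hb _ y hy z hz => by
    obtain ⟨t, rfl⟩ := (stE K).mem_XR.1 hy
    obtain ⟨u, rfl⟩ := (stE K).mem_XR.1 hz
    refine cm_x a.2 b.2 ha.1 hb.1 ((t_add a a.2 b b.2 ha.1 hb.1).imp_right fun e c => ?_) t u
    exact x_mem_gen (r := ⟨_, e.1.2.2.1⟩) (by exact ⟨⟨e.2.1, ha.2.trans e.2.2.1.le⟩, e.2.2⟩) c

theorem NK_conj {k : ℕ} {u v : chevE6.group K} (hu : u ∈ UE K) (hv : v ∈ NK K k) :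
    u * v * u⁻¹ ∈ NK K k := by
  have e : NK K k = gen (XR chevE6 X) {c | c ∈ {s : Rt chevE6 | 36 ≤ (s : ℕ) ∧ 0 ≤ ka s} ∧ k ≤ ka c} :=
    congrArg (gen _) (Set.ext fun s => by simp)
  rw [e] at hv ⊢
  exact (commUp 0).conj_mem_filt k (NK_anti (Nat.zero_le 24) (NK_24.ge hu)) hv

/-- `[N_k, X_p] ≤ N_m` -/
def CmE (k p m : ℕ) : Prop := p < 72 ∧ 36 ≤ p ∧ ∀ g < 72, 36 ≤ g → k ≤ ka g →
  0 ≤ chevE6.pairing g p ∨ m ≤ ka (r6 g p)

instance (k p m : ℕ) : Decidable (CmE k p m) := by unfold CmE; infer_instance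

theorem CmE.mem {k p m : ℕ} (h : CmE k p m) {v : chevE6.group K} (hv : v ∈ NK K k) (a : K) :
    cm v (X p a) ∈ NK K m := by
  refine gen_induction_left (p := fun v => cm v (X p a) ∈ NK K m) (by simp [cm])
    (fun g hg y hy w _ ih => ?_) hv
  obtain ⟨t, rfl⟩ := (stE K).mem_XR.1 hy
  rw [cm_mul_left]
  refine mul_mem (NK_conj (NK_le _ (x_mem_NK g.2 hg.1 le_rfl t)) ih) (cm_x g.2 h.1 hg.1 h.2.1 ?_ t a)
  rcases t_add g g.2 p h.1 hg.1 h.2.1 with e | e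
  exacts [.inl e, (h.2.2 g g.2 hg.1 hg.2).imp_right fun e' => x_mem_NK e.1.2.2.1 e.2.1 e']

theorem cm_yE {k r m : ℕ} (h1 : CmE k (o1 r) m) (h2 : CmE k (o2 r) m)
    {v : chevE6.group K} (hv : v ∈ NK K k) (a b : K) : cm v (yE K r a b) ∈ NK K m := by
  cases e : sh r
  · rw [yE_long e]; exact h1.mem hv a
  · rw [yE_short e, cm_mul_right]
    exact mul_mem (h1.mem hv a) (NK_conj (NK_le _ (x_mem_NK h1.1 h1.2.1 le_rfl a)) (h2.mem hv b))

/-- The layers are central. -/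
theorem cm_U {r : ℕ} (hr : r < 48) (h0 : 24 ≤ r) {u : chevE6.group K} (hu : u ∈ UE K) (a b : K) :
    cm u (yE K r a b) ∈ NK K (r + 1) := by
  obtain ⟨a1, a2, a3⟩ := ka_o r hr
  have k : ∀ p < 72, 36 ≤ p → ka p = r → CmE 24 p (r + 1) := fun p h1 h2 h3 =>
    ⟨h1, h2, fun g g1 g2 _ => (t_add g g1 p h1 g2 h2).imp_right fun e => h3 ▸ e.2.2.2⟩
  exact cm_yE (k _ (o_facts r hr).1 (a3 h0).1 a1) (k _ (o_facts r hr).2.1 (a3 h0).2 a2)
    (NK_24.ge hu) a b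

theorem split {r : ℕ} (hr : r < 48) (h0 : 24 ≤ r) {u : chevE6.group K} (hu : u ∈ NK K r) :
    ∃ a b, ∃ v ∈ NK K (r + 1), u = yE K r a b * v := by
  refine gen_induction_left (p := fun u => ∃ a b, ∃ v ∈ NK K (r + 1), u = yE K r a b * v)
    ⟨0, 0, 1, one_mem _, by simp [yE_zero]⟩ (fun g hg y hy w _ ⟨a, b, v, hv, e⟩ => ?_) hu
  obtain ⟨t, rfl⟩ := (stE K).mem_XR.1 hy
  subst e
  rcases hg.2.eq_or_lt with e | e
  · rcases (ka_spec g g.2).2.2 with e' | ⟨e1, e'⟩ <;> rw [← e] at *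
    · exact ⟨t + a, 0 + b, v, hv, by rw [yE_add hr, yE_left, ← e', mul_assoc]⟩
    · exact ⟨0 + a, t + b, v, hv, by rw [yE_add hr, yE_right e1, ← e', mul_assoc]⟩
  · exact ⟨a, b, _, mul_mem (NK_conj (inv_mem (yE_mem_U hr h0 a b)) (x_mem_NK g.2 hg.1 e t)) hv,
      by group⟩

theorem eq_zero {r : ℕ} (hr : r < 48) (h0 : 24 ≤ r) {a b : K} (h : yE K r a b ∈ NK K (r + 1)) :
    a = 0 ∧ (sh r = true → b = 0) := by
  classical
  obtain ⟨a1, a2, a3⟩ := ka_o r hr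
  obtain ⟨b1, b2, -⟩ := o_facts r hr
  let p : Rt chevE6 := ⟨o1 r, b1⟩
  let q : Rt chevE6 := ⟨o2 r, b2⟩
  have k := fun L hn hL hp s => eq_one_of_prod_mem (stBE K).rgd (commUp (r + 1))
    (fun s hs => (posE s).2 hs.1) (L := L) hn hL
    (y := fun s => if s = p then X s a else X s b)
    (fun s => by split_ifs <;> exact x_mem_XR chevE6 X s _) hp (r := s)
  have hp := (posE p).2 (a3 h0).1
  have hq := (posE q).2 (a3 h0).2
  have n1 : p ∉ {s : Rt chevE6 | 36 ≤ (s : ℕ) ∧ r + 1 ≤ ka s} := fun e => by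
    have := e.2; simp only [p, a1] at this; omega
  have n2 : q ∉ {s : Rt chevE6 | 36 ≤ (s : ℕ) ∧ r + 1 ≤ ka s} := fun e => by
    have := e.2; simp only [q, a2] at this; omega
  cases e : sh r
  · rw [yE_long e] at h
    exact ⟨(stBE K).eq_zero_of_x_eq_one p (by
      simpa using k [p] (by simp) (by simpa using hp) (by simpa [NK] using h) p (by simp) n1), by simp⟩
  · rw [yE_short e] at h
    have ne : q ≠ p := fun e' => by simp [sh, show o2 r = o1 r from congrArg Fin.val e'] at e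
    have := k [p, q] (by simpa using ne.symm) (by simpa using ⟨hp, hq⟩) (by simpa [ne, NK] using h)
    exact ⟨(stBE K).eq_zero_of_x_eq_one p (by simpa using this p (by simp) n1),
      fun _ => (stBE K).eq_zero_of_x_eq_one q (by simpa [ne] using this q (by simp) n2)⟩

/-- Downward induction along the layers. -/
theorem induct {P : chevE6.group K → Prop} (h1 : P 1) (h2 : ∀ r < 48, 24 ≤ r →
    (∀ v ∈ NK K (r + 1), P v) → ∀ a b, ∀ v ∈ NK K (r + 1), P (yE K r a b * v)) :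
    ∀ k, 24 ≤ k → ∀ u ∈ NK K k, P u := by
  suffices h : ∀ n k, k + n = 48 → 24 ≤ k → ∀ u ∈ NK K k, P u from fun k hk u hu => by
    by_cases e : k ≤ 48
    · exact h (48 - k) k (by omega) hk u hu
    · exact h 0 48 rfl (by decide) u (NK_anti (by omega) hu)
  intro n
  induction n with
  | zero => rintro k rfl - u hu; rwa [mem_bot.1 (NK_48.le hu)]
  | succ n ih =>
    intro k e hk u hu
    obtain ⟨a, b, v, hv, rfl⟩ := split (by omega) hk hu
    exact h2 k (by omega) hk (ih _ (by omega) (by omega)) a b v hv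

theorem yE_inv {r : ℕ} (hr : r < 48) (a b : K) : (yE K r a b)⁻¹ = yE K r a b :=
  inv_eq_of_mul_eq_one_right (by
    rw [← yE_add hr, CharTwo.add_self_eq_zero, CharTwo.add_self_eq_zero, yE_zero])

/-- The leading term is invariant under conjugation. -/
theorem eq_of_conj {r : ℕ} (hr : r < 48) (h0 : 24 ≤ r) {u : chevE6.group K} (hu : u ∈ UE K)
    {a b a' b' : K} (h : u * yE K r a b * u⁻¹ = yE K r a' b') : a = a' ∧ (sh r = true → b = b') := by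
  have := cm_U hr h0 hu a b
  rw [cm, h, yE_inv hr, ← yE_add hr] at this
  obtain ⟨h1, h2⟩ := eq_zero hr h0 this
  exact ⟨(CharTwo.add_eq_zero.1 h1).symm, fun e => (CharTwo.add_eq_zero.1 (h2 e)).symm⟩

theorem yP_eq' {r : ℕ} (h : S r) (a b : K) : yE K r a b = yP K r (if sw r then (b, a) else (a, b)) := by
  cases e : sw r <;> simp [yP_eq h, e]

theorem yP_mem_NK {r k : ℕ} (h : S r) (h1 : 24 ≤ r) (h2 : k ≤ r) (a : K × K) : yP K r a ∈ NK K k := by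
  rw [yP_eq h a.1 a.2]; split_ifs <;> exact yE_mem_NK h.1 h1 h2 _ _

theorem yP_eq_zero {r : ℕ} (h : S r) (h0 : 24 ≤ r) {a : K × K} (ha : yP K r a ∈ NK K (r + 1)) :
    a = 0 := by
  rw [yP_eq h a.1 a.2] at ha
  split_ifs at ha <;> obtain ⟨h1, h2⟩ := eq_zero h.1 h0 ha
  exacts [Prod.ext (h2 h.2) h1, Prod.ext h1 (h2 h.2)]

end H28.L6
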