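import Cfsg.Agent.H28.TESpec
import Cfsg.Agent.H1.TeCL
import Cfsg.Agent.H12.TEL0
import Cfsg.Agent.H19.TeG3
import Cfsg.Agent.H24.TEZQ
import Cfsg.Agent.H25.Te1Fu
import Cfsg.Agent.H26.TE1B2
import Cfsg.Agent.H29.TE1EG
import Cfsg.Agent.H35.TeAR
import Cfsg.Agent.H37.TeZC
import Cfsg.Agent.H40.TEOD
import Cfsg.Agent.H43.TEPX
import Cfsg.Agent.H52.TEMN
import Cfsg.Agent.H53.TeCo
import Cfsg.Agent.H55.TEEQ
import Cfsg.Agent.H62.TEKP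
import Cfsg.Agent.H65.TeUP
import Cfsg.Agent.H66.TEOut
import Cfsg.Agent.H67.TeZ4
import Cfsg.Agent.H68.TeNA
import Cfsg.Agent.H69.TESW
import Cfsg.Agent.H77.TeG1
import Cfsg.Agent.H78.TEKT
import Cfsg.Agent.H79.TeOn
import Cfsg.Agent.H81.TE1Pt
import Cfsg.Agent.H84.TeSQ
import Cfsg.Agent.H85.Te1HY
import Cfsg.Agent.H87.TeSC
import Cfsg.Agent.H9.TES0
import Cfsg.Agent.H91.TeNR
import Cfsg.Agent.H92.TeHZ
import Cfsg.Agent.H95.TeG2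

/-! Tower NF (S1308), chapter TE part 1: assembly. -/

set_option autoImplicit false

namespace H28.TE

universe u

theorem part1 : Part1.{u} :=
  part1_of H67.TeZ4.jobZ4 H65.TeUP.jobUP H85.Te1HY.jobHY H29.TEG.jobEG
    H12.TEL.jobL0 H78.TEKT.jobKT H62.TEKP.jobKP H35.TeAR.jobAR
    H92.TeHZ.jobHZ H40.TEOD.jobOD H69.TESW.jobSW H9.TES0.jobS0
    H55.TEEQ.jobEQ H84.TeSQ.jobSQ H68.TeNA.jobNA H77.TeG1.jobG1
    H95.TeG2.jobG2 H19.TeG3.jobG3 H26.TE.jobB2 H79.TeOn.jobOn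
    H37.TeZC.jobZC H87.TeSC.jobSC H91.TeNR.jobNR H24.TE.jobZQ
    H81.TE1Pt.jobPt H52.TEMN.jobMN H1.TeCL.jobCL H43.TEPX.jobPX
    H25.Te1Fu.jobFu H66.TEOut.jobOut H53.TE.jobCo

end H28.TE
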