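import Cfsg.Agent.H28.TESpec
import Cfsg.Agent.H51.TESpec

/-! Tower NF (S1308), chapter TE part 1: the extra facts that part 2 needs. -/

set_option autoImplicit false

open Cfsg Subgroup H14 H98 H1.Gold H31.S2 H14.GC H14.FE H14.NF
open scoped commutatorElement

namespace H28.TE

universe u

/-- Commutators of a Sylow subgroup lie in `E`. -/
def RAs : Prop := AllL.{u} fun _ _ _ Q₁ E _ T => ∀ R, AR Q₁ E T R → ∀ x ∈ R, ∀ x' ∈ R, ⁅x, x'⁆ ∈ E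

def RQ {G : Type u} [Group G] (Q : Subgroup G) : Prop :=
  ∀ R, IsSyl 2 R Q → ∀ x ∈ R, ∀ x' ∈ R, ⁅x, x'⁆ ∈ OZ R

/-- An involution that centralises a Sylow subgroup of `Q` centralises the elements of `Q` in a common 2-group. -/
def PCs : Prop := AllG.{u} fun G _ Q => ZQ Q → RQ Q → ∀ t ∈ nor Q, t * t = 1 → ∀ R, IsSyl 2 R Q → R ≤ cen1 t →
  ∀ x ∈ Q, ∀ P : Subgroup G, IsPGroup 2 P → x ∈ P → t ∈ P → x * t = t * x

def Cos : Prop := AllG.{u} fun _ _ Q => ∀ E,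
  (∀ Q₁ E₁ Q₂ E₂, LN Q Q₁ E₁ Q₂ E₂ → Pt Q E Q₁ E₁ → Pt Q E Q₂ E₂ → Col Q E Q₁ E₁ Q₂ E₂) ∧
  ∀ Q₂ T, LN Q Q E Q₂ T → Pt Q E Q₂ T

def JobRA : Prop := KTs.{u} → KPs.{u} → G1s.{u} → B2s.{u} → ZCs.{u} → RAs.{u}
def JobRQ : Prop := ZCs.{u} → RAs.{u} → AllG.{u} fun _ _ Q => HY Q → L0 Q → RQ Q
def JobPC : Prop := Z4.{u} → UP.{u} → PCs.{u}
def JobFE : Prop := ZCs.{u} → Cos.{u} → AllG.{u} fun _ _ Q => HY Q → L0 Q → ∀ E, PtZ Q E → Four E →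
  ∀ Q₂ E₂, Pt Q E Q₂ E₂ → Q ≠ Q₂ → E₂ ≤ cen E → ¬ Col Q E Q E Q₂ E₂ → ∃ R, IsSyl 2 R Q ∧ R ≤ cen E₂
def JobBB : Prop := AllG.{u} fun G _ Q => ZQ Q → ∀ E, PtZ Q E →
  ∃ B : Subgroup G, B ≤ Q ∧ nor Q ≤ nor B ∧ IsSyl 2 E B
def JobFL : Prop := KTs.{u} → SQs.{u} → AllG.{u} fun _ _ Q => ∀ E, CL Q E → H51.TE.FL Q E → Fu1 Q E

theorem bridge (p1 : Part1.{u}) (zc : ZCs.{u}) (co : Cos.{u}) (ra : RAs.{u}) (rq : JobRQ.{u}) (pc : PCs.{u})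
    (fe : JobFE.{u}) (bb : JobBB.{u}) (kt : KTs.{u}) (sq : SQs.{u}) (fl : JobFL.{u}) : H51.TE.Part1.{u} := by
  intro G _ _ K _ te
  obtain ⟨E, tg, ok, cl, fu, hy, l0, zq, pz, c⟩ := p1 G K te
  have p0 := H51.TE.pt_base (cen K) E
  refine ⟨E, tg, ok, cl, ⟨bb G _ zq E pz, fun U hU h2 hE => ?_, fun Q₂ E₂ p ne hc nc x hx t ht P h2 xP tP => ?_⟩,
    fun f => fu (fl kt sq G _ E c f)⟩
  · obtain ⟨R, hR, hl⟩ := exists_isSyl_le h2 hU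
    have e := ((pz _ _ p0).2.2.2 R hR).2 (hE.trans hl)
    intro x hx
    refine mem_centralizer_iff.2 fun y hy => ?_
    have hy' : y ∈ OZ R := e ▸ hy
    exact (mem_centralizer_iff.1 hy'.2.1 x (hl hx)).symm
  · obtain ⟨R, hR, hc'⟩ := fe zc co G _ hy l0 E pz tg.four Q₂ E₂ p ne hc nc
    obtain ⟨s, hs, is⟩ := four_exists_inv tg.four
    have tn : t ∈ nor (cen K) := hy.cen_le _ (vx_self _) s (tg.le hs) is
      (mem_centralizer_singleton_iff.2 (mem_centralizer_iff.1 (hc ht) s hs).symm)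
    exact pc G _ zq (rq zc ra G _ hy l0) t tn (H51.TE.pt_el tg p t ht) R hR
      (fun r hr => mem_centralizer_singleton_iff.2 (mem_centralizer_iff.1 (hc' hr) t ht).symm) x hx P h2 xP tP

end H28.TE
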