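import Cfsg.Agent.H28.TESpec2
import Cfsg.Agent.H28.TEP1
import Cfsg.Agent.H1.TeCL
import Cfsg.Agent.H12.TEL0
import Cfsg.Agent.H13.TEPC
import Cfsg.Agent.H19.TeG3
import Cfsg.Agent.H23.TeFE
import Cfsg.Agent.H24.TEZQ
import Cfsg.Agent.H25.Te1Fu
import Cfsg.Agent.H26.TE1B2
import Cfsg.Agent.H29.TE1EG
import Cfsg.Agent.H29.TE1RQ
import Cfsg.Agent.H35.TeAR
import Cfsg.Agent.H36.TE1BB
import Cfsg.Agent.H37.TeZC
import Cfsg.Agent.H40.TEOD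
import Cfsg.Agent.H43.TEFL
import Cfsg.Agent.H43.TEPX
import Cfsg.Agent.H52.TEMN
import Cfsg.Agent.H53.TeCo
import Cfsg.Agent.H55.TEEQ
import Cfsg.Agent.H62.TEKP
import Cfsg.Agent.H65.TeUP
import Cfsg.Agent.H66.TEOut
import Cfsg.Agent.H67.TeRA
import Cfsg.Agent.H67.TeZ4
import Cfsg.Agent.H68.TeNA
import Cfsg.Agent.H69.TESW
import Cfsg.Agent.H77.TeG1
import Cfsg.Agent.H78.TEKT
import Cfsg.Agent.H79.TeOn
import Cfsg.Agent.H81.TE1Pt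
import Cfsg.Agent.H84.TeSQ
import Cfsg.Agent.H85.Te1HY
import Cfsg.Agent.H87.TeSC
import Cfsg.Agent.H9.TES0
import Cfsg.Agent.H91.TeNR
import Cfsg.Agent.H92.TeHZ
import Cfsg.Agent.H95.TeG2

/-! Tower NF (S1308), chapter TE part 1: assembly. -/

set_option autoImplicit false

namespace H28.TE

universe u

theorem part51 : H51.TE.Part1.{u} := by
  have kt : KTs.{u} := H78.TEKT.jobKT
  have kp := H62.TEKP.jobKP H65.TeUP.jobUP kt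
  have ar := H35.TeAR.jobAR kt
  have sw := H69.TESW.jobSW kt (H40.TEOD.jobOD kt (H92.TeHZ.jobHZ kt))
  have s0 := H9.TES0.jobS0 kt
  have eq := H55.TEEQ.jobEQ kt kp ar sw
  have sq := H84.TeSQ.jobSQ kt kp ar s0 eq
  have g1 := H77.TeG1.jobG1 kt kp
  have g2 := H95.TeG2.jobG2 kt kp g1
  have b2 := H26.TE.jobB2 H65.TeUP.jobUP kt kp g2 (H19.TeG3.jobG3 kt kp g1 g2)
  have zc := H37.TeZC.jobZC kt kp sq g1 b2 (H79.TeOn.jobOn kt kp ar sw s0 sq)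
  exact bridge part1 zc (H53.TE.jobCo kt kp ar sw) (H67.TeRA.jobRA kt kp g1 b2 zc) H29.TRQ.jobRQ
    (H13.TEPC.jobPC H67.TeZ4.jobZ4 H65.TeUP.jobUP) H23.TeFE.jobFE H36.TE1BB.jobBB kt sq H43.TEFL.jobFL

end H28.TE
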